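import Cfsg.Agent.Lib.SmallGroups.Order504
import Cfsg.Agent.Lib.SmallGroups.CentralizerCount

/-!
A simple group of order 4080 is `PSL₂(16)`.
-/

set_option autoImplicit false

namespace CfsgLib.SmallGroups.Order4080

open Subgroup

variable {G : Type*} [Group G] [Finite G] [IsSimpleGroup G]

section
variable (h : Nat.card G = 4080)
include h

theorem noncomm : ¬ IsMulCommutative G := not_isMulCommutative_of_card_eq h (by norm_num)

theorem sylow_seventeen : Nat.card (Sylow 17 G) = 120 ∧
    ∀ P : Sylow 17 G, Nat.card ↥(centralizer ((P : Subgroup G) : Set G)) = 17 := by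
  have : Fact (Nat.Prime 17) := ⟨by norm_num⟩
  have hn := card_sylow_mem (p := 17) (a := 1) (m := 240) (by rw [h]; norm_num) (by norm_num)
  rw [show (Nat.divisors 240).filter (fun d => d % 17 = 1) = {1, 120} by decide +kernel] at hn
  simp only [Finset.mem_insert, Finset.mem_singleton] at hn
  have h1 := one_lt_card_sylow (noncomm h) (p := 17) (h ▸ by norm_num)
  have h120 : Nat.card (Sylow 17 G) = 120 := by omega
  refine ⟨h120, fun P => ?_⟩
  obtain ⟨c, e, hc, -, he, hed, hprod⟩ := sylow_prime_data (noncomm h) (m := 240) (by rw [h]) (by norm_num) P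
  rw [h120] at hprod
  have h2 : c * e = 2 := by omega
  rcases (Nat.dvd_prime Nat.prime_two).mp (⟨c, by linarith⟩ : e ∣ 2) with rfl | rfl
  · omega
  · rw [hc, show c = 1 by omega]

theorem sylow_three_data (P : Sylow 3 G) : ∃ c, Nat.card ↥(centralizer ((P : Subgroup G) : Set G)) = 3 * c ∧
    Nat.card (Sylow 3 G) * c = 680 := by
  have : Fact (Nat.Prime 3) := ⟨Nat.prime_three⟩
  obtain ⟨c, e, hc, -, he, hed, hprod⟩ := sylow_prime_data (noncomm h) (p := 3) (m := 1360) (by rw [h]) (by norm_num) P
  have := Nat.le_of_dvd (by norm_num) hed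
  refine ⟨c, hc, ?_⟩
  rw [show e = 2 by omega] at hprod
  linarith

theorem card_three_dvd : Nat.card {g : G // 3 ∣ orderOf g} = 1360 := by
  have : Fact (Nat.Prime 3) := ⟨Nat.prime_three⟩
  obtain ⟨P⟩ := (inferInstance : Nonempty (Sylow 3 G))
  obtain ⟨c, -, hprod⟩ := sylow_three_data h P
  have hpos : 0 < Nat.card (Sylow 3 G) := Finite.card_pos_iff.mpr ⟨P⟩
  rw [card_dvd_orderOf (c := c)
    (fun Q => card_sylow_eq (a := 1) (m := 1360) (by rw [h]; norm_num) (by norm_num) Q) (fun Q => ?_) (fun hd => ?_)]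
  · nlinarith
  · obtain ⟨c', hc', hprod'⟩ := sylow_three_data h Q
    rw [hc', Nat.eq_of_mul_eq_mul_left hpos (hprod'.trans hprod.symm)]
  · have : 3 ∣ 680 := hprod ▸ hd.mul_left _
    omega

theorem sylow_five : Nat.card (Sylow 5 G) = 136 ∧
    ∀ P : Sylow 5 G, Nat.card ↥(centralizer ((P : Subgroup G) : Set G)) = 15 ∧
      Nat.card ↥(normalizer ((P : Subgroup G) : Set G)) = 30 := by
  classical
  have : Fact (Nat.Prime 5) := ⟨by norm_num⟩
  have : Fact (Nat.Prime 17) := ⟨by norm_num⟩
  have hn := card_sylow_mem (p := 5) (a := 1) (m := 816) (by rw [h]; norm_num) (by norm_num)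
  rw [show (Nat.divisors 816).filter (fun d => d % 5 = 1) = {1, 6, 16, 51, 136, 816} by decide +kernel] at hn
  simp only [Finset.mem_insert, Finset.mem_singleton] at hn
  have h1 := one_lt_card_sylow (noncomm h) (p := 5) (h ▸ by norm_num)
  have hsmall := two_mul_card_dvd_factorial_card_sylow (noncomm h) (p := 5) (h ▸ by norm_num)
  rw [h] at hsmall
  obtain ⟨P₀⟩ := (inferInstance : Nonempty (Sylow 5 G))
  have h6 : Nat.card (Sylow 5 G) ≠ 6 := fun h6 => by rw [h6] at hsmall; exact absurd hsmall (by decide)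
  have h16 : Nat.card (Sylow 5 G) ≠ 16 := fun h16 => by rw [h16] at hsmall; exact absurd hsmall (by decide +kernel)
  have hdata : ∀ P : Sylow 5 G, ∃ c e, Nat.card ↥(centralizer ((P : Subgroup G) : Set G)) = 5 * c ∧
      Nat.card ↥(normalizer ((P : Subgroup G) : Set G)) = 5 * c * e ∧ 1 < e ∧ e ∣ 4 ∧
      Nat.card (Sylow 5 G) * (c * e) = 816 := fun P =>
    sylow_prime_data (noncomm h) (p := 5) (m := 816) (by rw [h]) (by norm_num) P
  have h51 : Nat.card (Sylow 5 G) ≠ 51 := by
    intro h51
    obtain ⟨c, e, hc, hN, he, hed, hprod⟩ := hdata P₀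
    rw [h51] at hprod
    have hce : c * e = 16 := by omega
    have hle := Nat.le_of_dvd (by norm_num) hed
    have hc4 : 4 ≤ c := by nlinarith
    have hc3 : ¬ 5 ∣ c ∧ ¬ 3 ∣ c := ⟨fun hd => by have : 5 ∣ 16 := hce ▸ hd.mul_right e; omega,
      fun hd => by have : 3 ∣ 16 := hce ▸ hd.mul_right e; omega⟩
    have hC : ∀ Q : Sylow 5 G, Nat.card ↥(centralizer ((Q : Subgroup G) : Set G)) = 5 * c := by
      intro Q
      obtain ⟨g, hg⟩ := MulAction.exists_smul_eq G P₀ Q
      rw [← hc]
      have heq : centralizer ((Q : Subgroup G) : Set G) =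
          (centralizer ((P₀ : Subgroup G) : Set G)).map (MulAut.conj g).toMonoidHom := by
        rw [← hg]
        ext x
        rw [mem_centralizer_iff, mem_map]
        constructor
        · intro hx
          refine ⟨g⁻¹ * x * g, mem_centralizer_iff.mpr fun y hy => ?_, by simp [mul_assoc]⟩
          have h1 := hx (g * y * g⁻¹) (by
            rw [Sylow.coe_subgroup_smul, SetLike.mem_coe, mem_pointwise_smul_iff_inv_smul_mem]
            simp [MulAut.smul_def, mul_assoc]; exact hy)
          calc y * (g⁻¹ * x * g) = g⁻¹ * (g * y * g⁻¹ * x) * g := by group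
            _ = g⁻¹ * (x * (g * y * g⁻¹)) * g := by rw [h1]
            _ = g⁻¹ * x * g * y := by group
        · rintro ⟨u, hu, rfl⟩ y hy
          rw [Sylow.coe_subgroup_smul, SetLike.mem_coe, mem_pointwise_smul_iff_inv_smul_mem] at hy
          have hy' : g⁻¹ * y * g ∈ ((P₀ : Subgroup G) : Set G) := by
            simp [MulAut.smul_def, mul_assoc] at hy ⊢; exact hy
          have h1 := mem_centralizer_iff.mp hu _ hy'
          show y * (g * u * g⁻¹) = g * u * g⁻¹ * y
          calc y * (g * u * g⁻¹) = g * (g⁻¹ * y * g * u) * g⁻¹ := by group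
            _ = g * (u * (g⁻¹ * y * g)) * g⁻¹ := by rw [h1]
            _ = g * u * g⁻¹ * y := by group
      rw [heq, card_map_of_injective (MulAut.conj g).injective]
    have h5 := card_dvd_orderOf (fun Q => card_sylow_eq (a := 1) (m := 816) (by rw [h]; norm_num) (by norm_num) Q) hC hc3.1
    rw [h51] at h5
    have h3 := card_three_dvd h
    obtain ⟨P17⟩ := (inferInstance : Nonempty (Sylow 17 G))
    have h17 := card_orderOf_eq_prime P17
      (card_sylow_eq (p := 17) (a := 1) (m := 240) (by rw [h]; norm_num) (by norm_num) P17)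
    rw [(sylow_seventeen h).1] at h17
    have := Fintype.ofFinite G
    rw [Nat.card_eq_fintype_card, Fintype.card_subtype] at h5 h3 h17
    have hd1 : Disjoint (Finset.univ.filter fun g : G => 3 ∣ orderOf g) (Finset.univ.filter fun g : G => 5 ∣ orderOf g) := by
      rw [Finset.disjoint_filter]
      intro g _ h3g h5g
      have hy := orderOf_pow_div h5g
      obtain ⟨Q, hQ⟩ := exists_sylow_eq_zpowers (p := 5) (m := 816) (by rw [h]) (by norm_num) hy
      have hgC : g ∈ centralizer ((Q : Subgroup G) : Set G) := by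
        rw [hQ, ← centralizer_singleton_eq_zpowers_centralizer]
        exact mem_centralizer_singleton.mpr (Commute.self_pow g _).eq
      have h3c : 3 ∣ 5 * c := h3g.trans (hC Q ▸ Subgroup.orderOf_dvd_natCard _ hgC)
      rcases (Nat.prime_three).dvd_mul.mp h3c with h' | h'
      · omega
      · exact hc3.2 h'
    have hd2 : Disjoint ((Finset.univ.filter fun g : G => 3 ∣ orderOf g) ∪ (Finset.univ.filter fun g : G => 5 ∣ orderOf g))
        (Finset.univ.filter fun g : G => orderOf g = 17) := by
      rw [Finset.disjoint_union_left, Finset.disjoint_filter, Finset.disjoint_filter]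
      constructor <;> · intro g _ a b; rw [b] at a; omega
    have hle' := Finset.card_le_univ (((Finset.univ.filter fun g : G => 3 ∣ orderOf g) ∪
      (Finset.univ.filter fun g : G => 5 ∣ orderOf g)) ∪ (Finset.univ.filter fun g : G => orderOf g = 17))
    rw [Finset.card_union_of_disjoint hd2, Finset.card_union_of_disjoint hd1, h3, h5, h17,
      ← Nat.card_eq_fintype_card, h] at hle'
    omega
  have h816 : Nat.card (Sylow 5 G) ≠ 816 := by
    intro h816
    obtain ⟨c, e, hc, hN, he, hed, hprod⟩ := hdata P₀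
    rw [h816] at hprod
    have := Nat.eq_one_of_mul_eq_one_left (show c * e = 1 by omega)
    omega
  have h136 : Nat.card (Sylow 5 G) = 136 := by omega
  refine ⟨h136, fun P => ?_⟩
  obtain ⟨c, e, hc, hN, he, hed, hprod⟩ := hdata P
  rw [h136] at hprod
  have hce : c * e = 6 := by omega
  have hle := Nat.le_of_dvd (by norm_num) hed
  interval_cases e
  · exact ⟨by omega, by omega⟩
  · omega
  · omega

theorem card_centralizer_five {y : G} (hy : orderOf y = 5) :
    Nat.card ↥(centralizer ({y} : Set G)) = 15 := by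
  have : Fact (Nat.Prime 5) := ⟨by norm_num⟩
  obtain ⟨P, hP⟩ := exists_sylow_eq_zpowers (p := 5) (m := 816) (by rw [h]) (by norm_num) hy
  rw [centralizer_singleton_eq_zpowers_centralizer, ← hP]
  exact ((sylow_five h).2 P).1

theorem card_centralizer_three {x : G} (hx : orderOf x = 3) :
    Nat.card ↥(centralizer ({x} : Set G)) = 15 := by
  classical
  have : Fact (Nat.Prime 3) := ⟨Nat.prime_three⟩
  have : Fact (Nat.Prime 5) := ⟨by norm_num⟩
  obtain ⟨P, hP⟩ := exists_sylow_eq_zpowers (p := 3) (m := 1360) (by rw [h]) (by norm_num) hx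
  obtain ⟨c, hc, hprod⟩ := sylow_three_data h P
  rw [centralizer_singleton_eq_zpowers_centralizer, ← hP, hc]
  -- some element of order three commutes with one of order five
  obtain ⟨Q⟩ := (inferInstance : Nonempty (Sylow 5 G))
  obtain ⟨⟨u, hu⟩, hu3⟩ := exists_prime_orderOf_dvd_card' (G := ↥(centralizer ((Q : Subgroup G) : Set G))) 3
    (by rw [((sylow_five h).2 Q).1]; norm_num)
  have hu3' : orderOf u = 3 := (Subgroup.orderOf_coe _).trans hu3
  obtain ⟨P', hP'⟩ := exists_sylow_eq_zpowers (p := 3) (m := 1360) (by rw [h]) (by norm_num) hu3'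
  obtain ⟨c', hc', hprod'⟩ := sylow_three_data h P'
  have hQle : (Q : Subgroup G) ≤ centralizer ((P' : Subgroup G) : Set G) := fun y hy => by
    rw [hP', ← centralizer_singleton_eq_zpowers_centralizer, mem_centralizer_singleton]
    exact mem_centralizer_iff.mp hu y hy
  have h5 : 5 ∣ 3 * c' := by
    rw [← hc']
    have hd := card_dvd_of_le hQle
    rwa [card_sylow_eq (p := 5) (a := 1) (m := 816) (by rw [h]; norm_num) (by norm_num) Q] at hd
  have hcc : c' = c := Nat.eq_of_mul_eq_mul_left (Finite.card_pos_iff.mpr ⟨P⟩) (hprod'.trans hprod.symm)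
  subst hcc
  obtain ⟨k, rfl⟩ : 5 ∣ c' := ((show Nat.Prime 5 by norm_num).dvd_mul.mp h5).resolve_left (by norm_num)
  have hn := card_sylow_mem (p := 3) (a := 1) (m := 1360) (by rw [h]; norm_num) (by norm_num)
  have hdvd : Nat.card (Sylow 3 G) ∣ 136 := ⟨k, by linarith⟩
  have hmem : Nat.card (Sylow 3 G) ∈ (Nat.divisors 136).filter (fun d => d % 3 = 1) :=
    Finset.mem_filter.mpr ⟨Nat.mem_divisors.mpr ⟨hdvd, by norm_num⟩, (Finset.mem_filter.mp hn).2⟩
  rw [show (Nat.divisors 136).filter (fun d => d % 3 = 1) = {1, 4, 34, 136} by decide +kernel] at hmem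
  simp only [Finset.mem_insert, Finset.mem_singleton] at hmem
  have h1 := one_lt_card_sylow (noncomm h) (p := 3) (h ▸ by norm_num)
  have h4 := two_mul_card_dvd_factorial_card_sylow (noncomm h) (p := 3) (h ▸ by norm_num)
  rcases hmem with hm | hm | hm | hm
  · omega
  · rw [hm, h] at h4; exact absurd h4 (by decide)
  · exfalso
    have hk : k = 4 := by rw [hm] at hprod; omega
    subst hk
    set C := centralizer ((P' : Subgroup G) : Set G) with hC
    have hC60 : Nat.card C = 60 := hc'
    let Q' : Sylow 5 C := Q.subtype hQle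
    have hn5 := card_sylow_mem (G := C) (p := 5) (a := 1) (m := 12) (by rw [hC60]; norm_num) (by norm_num)
    rw [show (Nat.divisors 12).filter (fun d => d % 5 = 1) = {1, 6} by decide] at hn5
    simp only [Finset.mem_insert, Finset.mem_singleton] at hn5
    rcases hn5 with h5' | h5'
    · have hle : C ≤ normalizer ((Q : Subgroup G) : Set G) := by
        rw [← normal_subgroupOf_iff_le_normalizer hQle, ← normalizer_eq_top_iff, ← index_eq_one]
        exact Q'.card_eq_index_normalizer.symm.trans h5'
      have := Nat.le_of_dvd (by norm_num) ((card_dvd_of_le hle).trans (dvd_of_eq ((sylow_five h).2 Q).2))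
      omega
    · have h10 : Nat.card ↥(normalizer ((Q' : Subgroup C) : Set C)) = 10 := by
        have h' := card_sylow_mul_card_normalizer Q'
        rw [h5', hC60] at h'
        omega
      have huC : u ∈ C := by
        rw [hC, hP', ← centralizer_singleton_eq_zpowers_centralizer, mem_centralizer_singleton]
      have huN : (⟨u, huC⟩ : C) ∈ normalizer ((Q' : Subgroup C) : Set C) := by
        refine centralizer_le_normalizer _ (mem_centralizer_iff.mpr fun y hy => Subtype.ext ?_)
        exact mem_centralizer_iff.mp hu y hy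
      have hd := Subgroup.orderOf_dvd_natCard _ huN
      rw [h10, ← Subgroup.orderOf_coe, hu3'] at hd
      omega
  · rw [hm] at hprod; omega

theorem card_two_elements : Nat.card {g : G // g ^ 16 = 1 ∧ g ≠ 1} ≤ 255 := by
  classical
  have := Fintype.ofFinite G
  have : Fact (Nat.Prime 3) := ⟨Nat.prime_three⟩
  have : Fact (Nat.Prime 5) := ⟨by norm_num⟩
  have : Fact (Nat.Prime 17) := ⟨by norm_num⟩
  obtain ⟨P17⟩ := (inferInstance : Nonempty (Sylow 17 G))
  have h17 := card_orderOf_eq_prime P17
    (card_sylow_eq (p := 17) (a := 1) (m := 240) (by rw [h]; norm_num) (by norm_num) P17)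
  rw [(sylow_seventeen h).1] at h17
  have h5 := card_dvd_orderOf (p := 5) (c := 3)
    (fun Q => card_sylow_eq (a := 1) (m := 816) (by rw [h]; norm_num) (by norm_num) Q)
    (fun Q => ((sylow_five h).2 Q).1) (by norm_num)
  rw [(sylow_five h).1] at h5
  obtain ⟨P3⟩ := (inferInstance : Nonempty (Sylow 3 G))
  have hP3 : Nat.card ↥(P3 : Subgroup G) = 3 :=
    card_sylow_eq (p := 3) (a := 1) (m := 1360) (by rw [h]; norm_num) (by norm_num) P3
  have h3 := card_orderOf_eq_prime P3 hP3
  have hn3 : Nat.card (Sylow 3 G) = 136 := by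
    obtain ⟨c, hc, hprod⟩ := sylow_three_data h P3
    obtain ⟨⟨x, hx⟩, hx3⟩ := exists_prime_orderOf_dvd_card' (G := ↥(P3 : Subgroup G)) 3 (dvd_of_eq hP3.symm)
    have hx3' : orderOf x = 3 := (Subgroup.orderOf_coe _).trans hx3
    have hz : (P3 : Subgroup G) = zpowers x :=
      (eq_of_le_of_card_ge (zpowers_le.mpr hx) (by rw [hP3, Nat.card_zpowers, hx3'])).symm
    rw [hz, ← centralizer_singleton_eq_zpowers_centralizer, card_centralizer_three h hx3'] at hc
    rw [show c = 5 by omega] at hprod
    omega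
  rw [hn3] at h3
  rw [Nat.card_eq_fintype_card, Fintype.card_subtype] at h17 h5 h3 ⊢
  have hd1 : Disjoint (Finset.univ.filter fun g : G => orderOf g = 3) (Finset.univ.filter fun g : G => 5 ∣ orderOf g) := by
    rw [Finset.disjoint_filter]; intro g _ a b; rw [a] at b; omega
  have hd2 : Disjoint ((Finset.univ.filter fun g : G => orderOf g = 3) ∪ (Finset.univ.filter fun g : G => 5 ∣ orderOf g))
      (Finset.univ.filter fun g : G => orderOf g = 17) := by
    rw [Finset.disjoint_union_left, Finset.disjoint_filter, Finset.disjoint_filter]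
    constructor <;> · intro g _ a b; rw [b] at a; omega
  have hd3 : Disjoint (((Finset.univ.filter fun g : G => orderOf g = 3) ∪ (Finset.univ.filter fun g : G => 5 ∣ orderOf g)) ∪
      (Finset.univ.filter fun g : G => orderOf g = 17)) (Finset.univ.filter fun g : G => g ^ 16 = 1) := by
    rw [Finset.disjoint_union_left, Finset.disjoint_union_left, Finset.disjoint_filter, Finset.disjoint_filter,
      Finset.disjoint_filter]
    refine ⟨⟨?_, ?_⟩, ?_⟩ <;> intro g _ a b
    · have := orderOf_dvd_of_pow_eq_one b; rw [a] at this; omega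
    · have := a.trans (orderOf_dvd_of_pow_eq_one b); omega
    · have := orderOf_dvd_of_pow_eq_one b; rw [a] at this; omega
  have hle := Finset.card_le_univ ((((Finset.univ.filter fun g : G => orderOf g = 3) ∪
    (Finset.univ.filter fun g : G => 5 ∣ orderOf g)) ∪ (Finset.univ.filter fun g : G => orderOf g = 17)) ∪
    (Finset.univ.filter fun g : G => g ^ 16 = 1))
  rw [Finset.card_union_of_disjoint hd3, Finset.card_union_of_disjoint hd2, Finset.card_union_of_disjoint hd1,
    h3, h5, h17, ← Nat.card_eq_fintype_card, h] at hle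
  have hins : insert (1 : G) (Finset.univ.filter fun g : G => g ^ 16 = 1 ∧ g ≠ 1) ⊆
      Finset.univ.filter fun g : G => g ^ 16 = 1 := by
    intro g hg
    simp at hg ⊢
    rcases hg with rfl | hg
    · exact one_pow 16
    · exact hg.1
  have := Finset.card_le_card hins
  rw [Finset.card_insert_of_notMem (by simp)] at this
  omega

theorem nonempty_mulEquiv {F : Type*} [Field F] [Fintype F] (hF : Fintype.card F = 16) :
    Nonempty (G ≃* Matrix.ProjectiveSpecialLinearGroup (Fin 2) F) := by
  have : Fact (Nat.Prime 2) := ⟨Nat.prime_two⟩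
  have : Fact (Nat.Prime 3) := ⟨Nat.prime_three⟩
  have : Fact (Nat.Prime 5) := ⟨by norm_num⟩
  have hC2 : ∀ u : G, orderOf u = 2 → Nat.card ↥(centralizer ({u} : Set G)) ∣ 2 ^ 4 := by
    intro u hu
    have hno : ∀ p a, p.Prime → Nat.Coprime 2 a →
        (∀ y : G, orderOf y = p → Nat.card ↥(centralizer ({y} : Set G)) = a) →
        ¬ p ∣ Nat.card ↥(centralizer ({u} : Set G)) := by
      intro p a hp ha hcen hd
      have : Fact p.Prime := ⟨hp⟩
      obtain ⟨⟨y, hy⟩, hyo⟩ := exists_prime_orderOf_dvd_card' (G := ↥(centralizer ({u} : Set G))) p hd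
      have hd1 : orderOf u ∣ a := hcen y ((Subgroup.orderOf_coe _).trans hyo) ▸
        Subgroup.orderOf_dvd_natCard _ (mem_centralizer_singleton.mpr (mem_centralizer_singleton.mp hy).symm)
      rw [hu] at hd1
      exact absurd (Nat.eq_one_of_dvd_coprimes ha dvd_rfl hd1) (by norm_num)
    have h17 : ∀ y : G, orderOf y = 17 → Nat.card ↥(centralizer ({y} : Set G)) = 17 := by
      intro y hy
      have : Fact (Nat.Prime 17) := ⟨by norm_num⟩
      obtain ⟨P, hP⟩ := exists_sylow_eq_zpowers (p := 17) (m := 240) (by rw [h]) (by norm_num) hy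
      rw [centralizer_singleton_eq_zpowers_centralizer, ← hP]
      exact (sylow_seventeen h).2 P
    have hd : Nat.card ↥(centralizer ({u} : Set G)) ∣ 2 ^ 4 * (3 * (5 * 17)) :=
      (card_subgroup_dvd_card _).trans (dvd_of_eq (by rw [h]; norm_num))
    refine (Nat.Coprime.mul_right ?_ (Nat.Coprime.mul_right ?_ ?_)).dvd_of_dvd_mul_right hd
    · exact (Nat.prime_three.coprime_iff_not_dvd.mpr
        (hno 3 15 Nat.prime_three (by norm_num) fun y hy => card_centralizer_three h hy)).symm
    · exact ((show Nat.Prime 5 by norm_num).coprime_iff_not_dvd.mpr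
        (hno 5 15 (by norm_num) (by norm_num) fun y hy => card_centralizer_five h hy)).symm
    · exact ((show Nat.Prime 17 by norm_num).coprime_iff_not_dvd.mpr
        (hno 17 17 (by norm_num) (by norm_num) h17)).symm
  obtain ⟨hexp, hTI, hn⟩ := two_structure (G := G) 4 255 (by norm_num) (by rw [h]; norm_num) (by decide) hC2
    (card_two_elements h)
  refine PSLTwo.nonempty_mulEquiv_even (noncomm h) (m := 15) (by norm_num) hF ?_ (by rw [h]) hTI hexp
    (fun T => (card_sylow_eq (a := 4) (m := 255) (by rw [h]; norm_num) (by norm_num) T).trans (by norm_num))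
    (by omega) ?_ ?_
  · obtain ⟨p, hc⟩ := CharP.exists F
    obtain ⟨n, hp, hn⟩ := FiniteField.card F p
    rw [hF] at hn
    have hd : p ∣ 2 ^ 4 := ⟨p ^ ((n : ℕ) - 1), by rw [← pow_succ', Nat.sub_add_cancel n.pos, ← hn]; norm_num⟩
    have h2 : p = 2 := (Nat.prime_dvd_prime_iff_eq hp Nat.prime_two).mp (hp.dvd_of_dvd_pow hd)
    exact ringChar.eq_iff.mpr (h2 ▸ hc)
  · intro H hH
    obtain ⟨⟨y, hy⟩, hy5⟩ := exists_prime_orderOf_dvd_card' (G := H) 5 (hH ▸ by norm_num)
    obtain ⟨⟨x, hx⟩, hx3⟩ := exists_prime_orderOf_dvd_card' (G := H) 3 (hH ▸ by norm_num)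
    have hy5' : orderOf y = 5 := (Subgroup.orderOf_coe _).trans hy5
    have hx3' : orderOf x = 3 := (Subgroup.orderOf_coe _).trans hx3
    obtain ⟨Q, hQ⟩ := exists_sylow_eq_zpowers (p := 5) (m := 816) (by rw [h]) (by norm_num) hy5'
    have hQH : (Q : Subgroup G) ≤ H := hQ ▸ zpowers_le.mpr hy
    have hn5 := card_sylow_mem (G := H) (p := 5) (a := 1) (m := 3) (by rw [hH]; norm_num) (by norm_num)
    rw [show (Nat.divisors 3).filter (fun d => d % 5 = 1) = {1} by decide, Finset.mem_singleton] at hn5
    have hHN : H ≤ normalizer ((Q : Subgroup G) : Set G) := by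
      rw [← normal_subgroupOf_iff_le_normalizer hQH, ← normalizer_eq_top_iff, ← index_eq_one]
      exact (Q.subtype hQH).card_eq_index_normalizer.symm.trans hn5
    set C := centralizer ((Q : Subgroup G) : Set G)
    have hidx : (C.subgroupOf (normalizer ((Q : Subgroup G) : Set G))).index = 2 := by
      have hh := (C.subgroupOf (normalizer ((Q : Subgroup G) : Set G))).card_mul_index
      rw [Nat.card_congr (subgroupOfEquivOfLe (centralizer_le_normalizer _)).toEquiv, ((sylow_five h).2 Q).1,
        ((sylow_five h).2 Q).2] at hh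
      omega
    have hxC : x ∈ C := by
      have h2 := mul_self_mem_of_index_two hidx (⟨x, hHN hx⟩ * ⟨x, hHN hx⟩)
      have h3 : x ^ 3 = 1 := hx3' ▸ pow_orderOf_eq_one x
      have h4 : x * x * (x * x) = x := by
        calc x * x * (x * x) = x ^ 3 * x := by simp only [pow_succ, pow_zero, one_mul, mul_assoc]
          _ = x := by rw [h3, one_mul]
      rw [mem_subgroupOf] at h2
      simpa [h4] using h2
    refine ⟨x * y, mul_mem hx hy, ?_⟩
    have hc : Commute x y := (mem_centralizer_iff.mp hxC y (hQ ▸ mem_zpowers y)).symm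
    rw [hc.orderOf_mul_eq_mul_orderOf_of_coprime (by rw [hx3', hy5']; norm_num), hx3', hy5']
  · intro y x hy hx hx1 g hg
    have hd : orderOf x ∣ 15 := (Subgroup.orderOf_dvd_natCard _ hx).trans (dvd_of_eq ((Nat.card_zpowers y).trans hy))
    obtain ⟨z, hzx, hz⟩ : ∃ z, z ∈ zpowers x ∧ (orderOf z = 3 ∨ orderOf z = 5) := by
      by_cases h3 : 3 ∣ orderOf x
      · exact ⟨_, pow_mem (mem_zpowers x) _, Or.inl (orderOf_pow_div h3)⟩
      · have h5 : orderOf x ∣ 5 :=
          (Nat.prime_three.coprime_iff_not_dvd.mpr h3).symm.dvd_of_dvd_mul_left (show orderOf x ∣ 3 * 5 from hd)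
        rcases (Nat.dvd_prime (by norm_num : Nat.Prime 5)).mp h5 with h' | h'
        · exact absurd (orderOf_eq_one_iff.mp h') hx1
        · exact ⟨x, mem_zpowers x, Or.inr h'⟩
    have hcard : Nat.card ↥(centralizer ({z} : Set G)) = 15 := by
      rcases hz with hz | hz
      · exact card_centralizer_three h hz
      · exact card_centralizer_five h hz
    have hzy : z ∈ zpowers y := zpowers_le.mpr hx hzx
    have hsub : zpowers y ≤ centralizer ({z} : Set G) := zpowers_le.mpr (mem_centralizer_singleton.mpr (by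
      obtain ⟨i, rfl⟩ := mem_zpowers_iff.mp hzy
      exact ((Commute.refl y).zpow_right i).eq))
    rw [eq_of_le_of_card_ge hsub (by rw [hcard, Nat.card_zpowers, hy])]
    rw [mem_centralizer_singleton]
    obtain ⟨i, rfl⟩ := mem_zpowers_iff.mp hzx
    exact ((show Commute g x from mem_centralizer_singleton.mp hg).zpow_right i).eq

end

end CfsgLib.SmallGroups.Order4080
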