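import Cfsg.Agent.Lib.SmallGroups.Counting

/-!
If all involution centralisers are 2-groups and there are exactly `|G : T|` non-identity 2-elements,
then the Sylow 2-subgroups are elementary abelian and intersect trivially.
-/

set_option autoImplicit false

namespace CfsgLib.SmallGroups

open Subgroup

variable {G : Type*} [Group G] [Finite G]

theorem two_structure (a m : ℕ) (ha : 0 < a) (hcard : Nat.card G = 2 ^ a * m) (hm : Odd m)
    (hC : ∀ u : G, orderOf u = 2 → Nat.card ↥(centralizer ({u} : Set G)) ∣ 2 ^ a)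
    (hcount : Nat.card {g : G // g ^ 2 ^ a = 1 ∧ g ≠ 1} ≤ m) :
    (∀ T : Sylow 2 G, ∀ g ∈ (T : Subgroup G), g * g = 1) ∧
    (∀ S T : Sylow 2 G, S ≠ T → (S : Subgroup G) ⊓ (T : Subgroup G) = ⊥) ∧
    Nat.card (Sylow 2 G) * (2 ^ a - 1) = m := by
  classical
  have : Fact (Nat.Prime 2) := ⟨Nat.prime_two⟩
  have hT : ∀ T : Sylow 2 G, Nat.card ↥(T : Subgroup G) = 2 ^ a := fun T =>
    card_sylow_eq hcard (fun h => Nat.not_even_iff_odd.mpr hm (even_iff_two_dvd.mpr h)) T
  obtain ⟨T⟩ := (inferInstance : Nonempty (Sylow 2 G))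
  have : Nontrivial ↥(T : Subgroup G) := Finite.one_lt_card_iff_nontrivial.mp
    (by rw [hT]; exact Nat.one_lt_two_pow ha.ne')
  have := T.isPGroup'.center_nontrivial
  obtain ⟨j, hj⟩ := (T.isPGroup'.to_subgroup (center ↥(T : Subgroup G))).exists_card_eq
  have hdvd : 2 ∣ Nat.card ↥(center ↥(T : Subgroup G)) := by
    rw [hj]
    refine dvd_pow_self 2 fun hj0 => ?_
    rw [hj0, pow_zero] at hj
    have := Finite.one_lt_card (α := ↥(center ↥(T : Subgroup G)))
    omega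
  obtain ⟨⟨⟨z, hzT⟩, hzc⟩, hz⟩ := exists_prime_orderOf_dvd_card' (G := ↥(center ↥(T : Subgroup G))) 2 hdvd
  have hz2 : orderOf z = 2 := by rw [← hz, ← Subgroup.orderOf_coe, ← Subgroup.orderOf_coe]
  have hzC : (T : Subgroup G) ≤ centralizer ({z} : Set G) := fun t ht =>
    mem_centralizer_singleton.mpr (congrArg Subtype.val (mem_center_iff.mp hzc ⟨t, ht⟩))
  have hCz : Nat.card ↥(centralizer ({z} : Set G)) = 2 ^ a :=
    Nat.dvd_antisymm (hC z hz2) ((dvd_of_eq (hT T).symm).trans (card_dvd_of_le hzC))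
  have hclass : Nat.card {g : G // IsConj z g} = m := by
    have h := card_isConj_mul_card_centralizer z
    rw [hCz, hcard, mul_comm (2 ^ a)] at h
    exact Nat.eq_of_mul_eq_mul_right (pow_pos two_pos a) h
  have hsub : ∀ g, IsConj z g → g ^ 2 ^ a = 1 ∧ g ≠ 1 := by
    intro g hg
    obtain ⟨c, rfl⟩ := isConj_iff.mp hg
    have ho : orderOf (c * z * c⁻¹) = 2 := hz2 ▸ MulEquiv.orderOf_eq (MulAut.conj c) z
    refine ⟨orderOf_dvd_iff_pow_eq_one.mp (by rw [ho]; exact dvd_pow_self 2 ha.ne'), fun h => ?_⟩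
    rw [h, orderOf_one] at ho
    omega
  have hall : ∀ g : G, g ^ 2 ^ a = 1 → g ≠ 1 → IsConj z g := by
    intro g hg hg1
    by_contra hng
    have hlt : Nat.card {g : G // IsConj z g} < Nat.card {g : G // g ^ 2 ^ a = 1 ∧ g ≠ 1} := by
      have := Fintype.ofFinite G
      rw [Nat.card_eq_fintype_card, Nat.card_eq_fintype_card]
      refine Fintype.card_lt_of_injective_of_notMem
        (fun a' => (⟨a'.1, hsub a'.1 a'.2⟩ : {g : G // g ^ 2 ^ a = 1 ∧ g ≠ 1}))
        (fun x y hxy => Subtype.ext (congrArg (fun s : {g : G // g ^ 2 ^ a = 1 ∧ g ≠ 1} => s.1) hxy))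
        (b := ⟨g, hg, hg1⟩) ?_
      rintro ⟨⟨b, hb⟩, hab⟩
      obtain rfl : b = g := congrArg Subtype.val hab
      exact hng hb
    omega
  have horder : ∀ g : G, g ^ 2 ^ a = 1 → g ≠ 1 → orderOf g = 2 := fun g hg hg1 => by
    obtain ⟨c, rfl⟩ := isConj_iff.mp (hall g hg hg1)
    exact hz2 ▸ MulEquiv.orderOf_eq (MulAut.conj c) z
  have hexp : ∀ S : Sylow 2 G, ∀ g ∈ (S : Subgroup G), g * g = 1 := by
    intro S g hg
    by_cases hg1 : g = 1
    · rw [hg1, one_mul]
    · rw [← pow_two, ← horder g (orderOf_dvd_iff_pow_eq_one.mp (hT S ▸ Subgroup.orderOf_dvd_natCard _ hg)) hg1]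
      exact pow_orderOf_eq_one g
  have hCeq : ∀ S : Sylow 2 G, ∀ g ∈ (S : Subgroup G), g ≠ 1 → centralizer ({g} : Set G) = (S : Subgroup G) := by
    intro S g hg hg1
    have hle : (S : Subgroup G) ≤ centralizer ({g} : Set G) := fun s hs => by
      rw [mem_centralizer_singleton]
      calc s * g = (s * g)⁻¹ := (inv_eq_of_mul_eq_one_right (hexp S _ (mul_mem hs hg))).symm
        _ = g⁻¹ * s⁻¹ := mul_inv_rev s g
        _ = g * s := by rw [inv_eq_of_mul_eq_one_right (hexp S g hg), inv_eq_of_mul_eq_one_right (hexp S s hs)]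
    refine (eq_of_le_of_card_ge hle ?_).symm
    rw [hT S]
    exact Nat.le_of_dvd (pow_pos two_pos a)
      (hC g (horder g (orderOf_dvd_iff_pow_eq_one.mp (hT S ▸ Subgroup.orderOf_dvd_natCard _ hg)) hg1))
  have hTI : ∀ S R : Sylow 2 G, S ≠ R → (S : Subgroup G) ⊓ (R : Subgroup G) = ⊥ := by
    intro S R hne
    rw [eq_bot_iff]
    intro g hg
    rw [mem_bot]
    by_contra hg1
    exact hne (Sylow.ext ((hCeq S g hg.1 hg1).symm.trans (hCeq R g hg.2 hg1)))
  refine ⟨hexp, hTI, ?_⟩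
  let f : (Σ S : Sylow 2 G, {g : ↥(S : Subgroup G) // g ≠ 1}) → {g : G // g ^ 2 ^ a = 1 ∧ g ≠ 1} :=
    fun x => ⟨(x.2.1 : G), orderOf_dvd_iff_pow_eq_one.mp (hT x.1 ▸ Subgroup.orderOf_dvd_natCard _ x.2.1.2),
      fun h => x.2.2 (Subtype.ext h)⟩
  have hf : Function.Bijective f := by
    constructor
    · rintro ⟨S, g, hg⟩ ⟨R, k, hk⟩ h
      have h' : (g : G) = (k : G) := congrArg Subtype.val h
      obtain rfl : S = R := Sylow.ext ((hCeq S g g.2 fun he => hg (Subtype.ext he)).symm.trans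
        (by rw [h']; exact hCeq R k k.2 fun he => hk (Subtype.ext he)))
      obtain rfl : g = k := Subtype.ext h'
      rfl
    · rintro ⟨g, hg, hg1⟩
      obtain ⟨j, -, hj⟩ := (Nat.dvd_prime_pow Nat.prime_two).mp (orderOf_dvd_of_pow_eq_one hg)
      obtain ⟨S, hS⟩ := (IsPGroup.of_card (p := 2) (n := j) (by rw [Nat.card_zpowers, hj]) :
        IsPGroup 2 ↥(zpowers g)).exists_le_sylow
      exact ⟨⟨S, ⟨g, hS (mem_zpowers g)⟩, fun h => hg1 (congrArg Subtype.val h)⟩, rfl⟩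
  have heq : Nat.card {g : G // g ^ 2 ^ a = 1 ∧ g ≠ 1} = m := by
    refine le_antisymm hcount ?_
    rw [← hclass]
    exact Nat.card_le_card_of_injective (fun g => ⟨g.1, hsub g.1 g.2⟩)
      (fun x y hxy => Subtype.ext (congrArg (fun s : {g : G // g ^ 2 ^ a = 1 ∧ g ≠ 1} => s.1) hxy))
  rw [← Nat.card_eq_of_bijective f hf] at heq
  have : Fintype (Sylow 2 G) := Fintype.ofFinite _
  rw [Nat.card_sigma, Finset.sum_const_nat (m := 2 ^ a - 1) (fun S _ => ?_), Finset.card_univ] at heq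
  · rw [Nat.card_eq_fintype_card]; exact heq
  · have : Fintype ↥(S : Subgroup G) := Fintype.ofFinite _
    rw [Nat.card_eq_fintype_card, Fintype.card_subtype_compl, Fintype.card_subtype_eq,
      ← Nat.card_eq_fintype_card, hT]

end CfsgLib.SmallGroups
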