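import Cfsg.Agent.Lib.SmallGroups.PSLTwoPrime
import Cfsg.Agent.Lib.SmallGroups.PSLTwoEven
import Cfsg.Agent.Lib.SmallGroups.TwoTI
import Cfsg.Agent.Lib.SmallGroups.TransferFixed
import Cfsg.Agent.Lib.SmallGroups.Order168

/-!
A simple group of order 504 is `PSL₂(8)`.
-/

set_option autoImplicit false

namespace CfsgLib.SmallGroups.Order504

open Subgroup MulAction

variable {G : Type*} [Group G] [Finite G] [IsSimpleGroup G]

section
variable (h : Nat.card G = 504)
include h

theorem noncomm : ¬ IsMulCommutative G := not_isMulCommutative_of_card_eq h (by norm_num)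

theorem sylow_seven : Nat.card (Sylow 7 G) = 36 ∧
    ∀ P : Sylow 7 G, Nat.card ↥(centralizer ((P : Subgroup G) : Set G)) = 7 ∧
      Nat.card ↥(normalizer ((P : Subgroup G) : Set G)) = 14 := by
  have : Fact (Nat.Prime 7) := ⟨by norm_num⟩
  have hn := card_sylow_mem (p := 7) (a := 1) (m := 72) (by rw [h]; norm_num) (by norm_num)
  rw [show (Nat.divisors 72).filter (fun d => d % 7 = 1) = {1, 8, 36} by decide] at hn
  simp only [Finset.mem_insert, Finset.mem_singleton] at hn
  have h1 := one_lt_card_sylow (noncomm h) (p := 7) (h ▸ by norm_num)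
  have hP : ∀ A : Sylow 7 G, Nat.card ↥(A : Subgroup G) = 7 := fun A =>
    card_sylow_eq (a := 1) (m := 72) (by rw [h]; norm_num) (by norm_num) A
  have h8 : Nat.card (Sylow 7 G) ≠ 8 := by
    intro h8
    obtain ⟨P⟩ := (inferInstance : Nonempty (Sylow 7 G))
    obtain ⟨c, e, hc, -, he, hed, hprod⟩ := sylow_prime_data (noncomm h) (m := 72) (by rw [h]) (by norm_num) P
    rw [PSLTwo.card_centralizer_eq (noncomm h) h8 hP P (h ▸ by norm_num), hP P] at hc
    rw [h8, show c = 1 by omega] at hprod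
    have := Nat.le_of_dvd (by norm_num) hed
    omega
  have h36 : Nat.card (Sylow 7 G) = 36 := by omega
  refine ⟨h36, fun P => ?_⟩
  obtain ⟨c, e, hc, hN, he, hed, hprod⟩ := sylow_prime_data (noncomm h) (m := 72) (by rw [h]) (by norm_num) P
  rw [h36] at hprod
  have h2 : c * e = 2 := by omega
  obtain ⟨rfl, rfl⟩ : c = 1 ∧ e = 2 := by
    rcases (Nat.dvd_prime Nat.prime_two).mp (⟨c, by linarith⟩ : e ∣ 2) with rfl | rfl
    · omega
    · exact ⟨by omega, rfl⟩
  exact ⟨by simpa using hc, by simpa using hN⟩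

theorem card_centralizer_seven {y : G} (hy : orderOf y = 7) :
    Nat.card ↥(centralizer ({y} : Set G)) = 7 := by
  have : Fact (Nat.Prime 7) := ⟨by norm_num⟩
  obtain ⟨P, hP⟩ := exists_sylow_eq_zpowers (p := 7) (m := 72) (by rw [h]) (by norm_num) hy
  rw [centralizer_singleton_eq_zpowers_centralizer, ← hP]
  exact ((sylow_seven h).2 P).1

/-- There is no subgroup of index at most 8 other than `G`. -/
theorem index_ne_seven (H : Subgroup G) : H.index ≠ 7 := by
  intro hH
  have : Fact (Nat.Prime 7) := ⟨by norm_num⟩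
  have : Fact (Nat.Prime 2) := ⟨Nat.prime_two⟩
  obtain ⟨P⟩ := (inferInstance : Nonempty (Sylow 7 G))
  obtain ⟨hC, hN⟩ := (sylow_seven h).2 P
  have hP : Nat.card ↥(P : Subgroup G) = 7 :=
    card_sylow_eq (a := 1) (m := 72) (by rw [h]; norm_num) (by norm_num) P
  obtain ⟨⟨t, htN⟩, ht⟩ := exists_prime_orderOf_dvd_card' (G := ↥(normalizer ((P : Subgroup G) : Set G))) 2
    (by rw [hN]; norm_num)
  have ht2 : orderOf t = 2 := (Subgroup.orderOf_coe _).trans ht
  have htC : t ∉ centralizer ((P : Subgroup G) : Set G) := fun hc => by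
    have := Subgroup.orderOf_dvd_natCard _ hc
    rw [ht2, hC] at this
    omega
  have hle := card_fixedBy_le_card_orbits (α := G ⧸ H) (P : Subgroup G) hP htN htC
  have h4 := four_dvd_moved (α := G ⧸ H) (noncomm h) (g := t) (by rw [← ht2]; exact pow_orderOf_eq_one t)
  have hfix : Nat.card (fixedPoints ↥(P : Subgroup G) (G ⧸ H)) = 0 := by
    rw [Nat.card_eq_zero]
    refine Or.inl ⟨fun ⟨x, hx⟩ => ?_⟩
    obtain ⟨⟨y, hy⟩, hy1⟩ := exists_prime_orderOf_dvd_card' (G := ↥(P : Subgroup G)) 7 (dvd_of_eq hP.symm)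
    obtain ⟨g, rfl⟩ := QuotientGroup.mk_surjective x
    have hmem := (mk_mem_fixedBy_iff (H := H) y g).mp (hx ⟨y, hy⟩)
    have ho : orderOf (g⁻¹ * y * g) = 7 := by
      rw [← hy1, ← Subgroup.orderOf_coe]
      simpa using MulEquiv.orderOf_eq (MulAut.conj g⁻¹) y
    have hd := Subgroup.orderOf_dvd_natCard _ hmem
    rw [ho] at hd
    have hc := H.card_mul_index
    rw [hH, h] at hc
    omega
  have horb := card_orbits_mul (α := G ⧸ H) (P : Subgroup G) hP
  rw [← index_eq_card, hH] at h4
  replace horb := horb.trans (congrArg₂ (· + ·) (H.index_eq_card.symm.trans hH) ((congrArg ((7 - 1) * ·) hfix).trans (mul_zero _)))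
  have h1 : Nat.card (fixedBy (G ⧸ H) t) ≤ 1 := hle.trans (le_of_eq (Nat.eq_of_mul_eq_mul_right (by norm_num : 0 < 7) horb))
  omega

theorem card_le {H : Subgroup G} (hH : H ≠ ⊤) : Nat.card ↥H * 8 ≤ 504 := by
  have h6 := index_gt (noncomm h) hH (k := 6) (by rw [h]; decide)
  have h7 := index_ne_seven h H
  have := H.card_mul_index
  rw [h] at this
  calc Nat.card ↥H * 8 ≤ Nat.card ↥H * H.index := Nat.mul_le_mul_left _ (by omega)
    _ = 504 := this

theorem sylow_three : Nat.card (Sylow 3 G) = 28 ∧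
    ∀ P : Sylow 3 G, Nat.card ↥(P : Subgroup G) = 9 ∧ IsMulCommutative ↥(P : Subgroup G) ∧
      Nat.card ↥(normalizer ((P : Subgroup G) : Set G)) = 18 ∧
      centralizer ((P : Subgroup G) : Set G) = (P : Subgroup G) := by
  have : Fact (Nat.Prime 3) := ⟨Nat.prime_three⟩
  have hn := card_sylow_mem (p := 3) (a := 2) (m := 56) (by rw [h]; norm_num) (by norm_num)
  rw [show (Nat.divisors 56).filter (fun d => d % 3 = 1) = {1, 4, 7, 28} by decide] at hn
  simp only [Finset.mem_insert, Finset.mem_singleton] at hn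
  have h1 := one_lt_card_sylow (noncomm h) (p := 3) (h ▸ by norm_num)
  have h28 : Nat.card (Sylow 3 G) = 28 := by
    obtain ⟨P⟩ := (inferInstance : Nonempty (Sylow 3 G))
    have hi := P.card_eq_index_normalizer
    have hne := normalizer_sylow_ne_top (noncomm h) (h ▸ by norm_num) P
    have h6 := index_gt (noncomm h) hne (k := 6) (by rw [h]; decide)
    have h7 := index_ne_seven h (normalizer ((P : Subgroup G) : Set G))
    have hi' : Nat.card (Sylow 3 G) = (normalizer ((P : Subgroup G) : Set G)).index := hi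
    omega
  refine ⟨h28, fun P => ?_⟩
  have hP : Nat.card ↥(P : Subgroup G) = 9 := card_sylow_eq (a := 2) (m := 56) (by rw [h]; norm_num) (by norm_num) P
  have hc : IsMulCommutative ↥(P : Subgroup G) :=
    IsPGroup.isMulCommutative_of_card_eq_prime_sq (p := 3) (hP.trans (by norm_num))
  have hN : Nat.card ↥(normalizer ((P : Subgroup G) : Set G)) = 18 := by
    have h' := card_sylow_mul_card_normalizer P
    rw [h28, h] at h'
    omega
  refine ⟨hP, hc, hN, ?_⟩
  have hPC : (P : Subgroup G) ≤ centralizer ((P : Subgroup G) : Set G) := (P : Subgroup G).le_centralizer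
  refine (eq_of_le_of_card_ge hPC ?_).symm
  have hne := not_normalizer_le_centralizer (noncomm h) (h ▸ by norm_num) P
  have hd : Nat.card ↥(centralizer ((P : Subgroup G) : Set G)) ∣ 18 :=
    (card_dvd_of_le (centralizer_le_normalizer _)).trans (dvd_of_eq hN)
  have hne18 : Nat.card ↥(centralizer ((P : Subgroup G) : Set G)) ≠ 18 := fun he => hne
    (le_of_eq (eq_of_le_of_card_ge (centralizer_le_normalizer _) (by rw [he, hN])).symm)
  have hle := Nat.le_of_dvd (by norm_num) hd
  rw [hP]
  interval_cases Nat.card ↥(centralizer ((P : Subgroup G) : Set G)) <;> omega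

theorem exists_sylow_three_mem {x : G} (hx : x ^ 9 = 1) : ∃ P : Sylow 3 G, x ∈ (P : Subgroup G) := by
  obtain ⟨j, -, hj⟩ := (Nat.dvd_prime_pow Nat.prime_three).mp (orderOf_dvd_of_pow_eq_one hx : orderOf x ∣ 3 ^ 2)
  obtain ⟨P, hP⟩ := (IsPGroup.of_card (p := 3) (n := j) (by rw [Nat.card_zpowers, hj]) :
    IsPGroup 3 ↥(zpowers x)).exists_le_sylow
  exact ⟨P, hP (mem_zpowers x)⟩

theorem card_centralizer_three {x : G} (hx : orderOf x = 3) :
    Nat.card ↥(centralizer ({x} : Set G)) = 9 := by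
  classical
  have : Fact (Nat.Prime 3) := ⟨Nat.prime_three⟩
  have : Fact (Nat.Prime 2) := ⟨Nat.prime_two⟩
  obtain ⟨P, hxP⟩ := exists_sylow_three_mem h (x := x) (orderOf_dvd_iff_pow_eq_one.mp (hx ▸ by norm_num))
  obtain ⟨hP, hPc, hN, -⟩ := (sylow_three h).2 P
  set C := centralizer ({x} : Set G) with hC
  have hPC : (P : Subgroup G) ≤ C := fun y hy => mem_centralizer_singleton.mpr
    (congrArg Subtype.val (mul_comm' (⟨y, hy⟩ : ↥(P : Subgroup G)) ⟨x, hxP⟩))
  have hxC : x ∈ C := hPC hxP
  have hx1 : x ≠ 1 := fun he => by rw [he, orderOf_one] at hx; omega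
  have hCtop : C ≠ ⊤ := by
    intro ht
    have hcen : x ∈ center G := mem_center_iff.mpr fun g =>
      mem_centralizer_singleton.mp (ht ▸ mem_top g : g ∈ C)
    have hz : center G = ⊥ := eq_bot_of_normal inferInstance fun ht' => noncomm h
      (IsMulCommutative.of_comm fun a b => (mem_center_iff.mp (ht' ▸ mem_top a) b).symm)
    rw [hz, mem_bot] at hcen
    exact hx1 hcen
  have hle := card_le h hCtop
  obtain ⟨k, hk⟩ : 9 ∣ Nat.card C := hP ▸ card_dvd_of_le hPC
  have hk56 : k ∣ 56 := by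
    have hd : 9 * k ∣ 9 * 56 := hk ▸ ((card_subgroup_dvd_card C).trans (dvd_of_eq h))
    exact Nat.dvd_of_mul_dvd_mul_left (by norm_num) hd
  have h7 : ¬ 7 ∣ Nat.card C := by
    intro h7
    have : Fact (Nat.Prime 7) := ⟨by norm_num⟩
    obtain ⟨⟨y, hy⟩, hy7⟩ := exists_prime_orderOf_dvd_card' (G := C) 7 h7
    have hd : orderOf x ∣ 7 := card_centralizer_seven h ((Subgroup.orderOf_coe _).trans hy7) ▸
      Subgroup.orderOf_dvd_natCard _ (mem_centralizer_singleton.mpr (mem_centralizer_singleton.mp hy).symm)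
    rw [hx] at hd
    omega
  by_contra hne
  have hk' : k = 2 ∨ k = 4 := by
    have hkle : k ≤ 7 := by omega
    have hk0 : 0 < k := Nat.pos_of_ne_zero fun h0 => by rw [h0, mul_zero] at hk; exact absurd hk Nat.card_pos.ne'
    interval_cases k <;> omega
  -- the number of Sylow 3-subgroups of the centraliser
  have hm : ¬ 3 ∣ k := by omega
  have hn3 := card_sylow_mem (G := C) (p := 3) (a := 2) (m := k) (by rw [hk]; norm_num) hm
  rw [Finset.mem_filter, Nat.mem_divisors] at hn3
  by_cases h1 : Nat.card (Sylow 3 C) = 1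
  · have hle2 : C ≤ normalizer ((P : Subgroup G) : Set G) := by
      rw [← normal_subgroupOf_iff_le_normalizer hPC, ← normalizer_eq_top_iff, ← index_eq_one]
      exact (P.subtype hPC).card_eq_index_normalizer.symm.trans h1
    have hc18 := Nat.le_of_dvd (by norm_num) ((card_dvd_of_le hle2).trans (dvd_of_eq hN))
    have hk2 : k = 2 := by omega
    have heq := eq_of_le_of_card_ge hle2 (by rw [hN, hk, hk2])
    exact hx1 (eq_one_of_centralized_by_normalizer (noncomm h) P hxP fun n hn =>
      mem_centralizer_singleton.mp (heq ▸ hn : n ∈ C))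
  have hk4 : k = 4 := by
    rcases hk' with rfl | rfl
    · exfalso
      have := Nat.le_of_dvd (by norm_num) hn3.1.1
      have := hn3.2
      omega
    · rfl
  subst hk4
  have h4 : Nat.card (Sylow 3 C) = 4 := by
    have := Nat.le_of_dvd (by norm_num) hn3.1.1
    have := hn3.2
    omega
  -- the 2-elements of the centraliser form a normal subgroup
  let xC : C := ⟨x, hxC⟩
  have hcomm : ∀ g : C, Commute g xC := fun g => Subtype.ext (mem_centralizer_singleton.mp g.2)
  have hxo : orderOf xC = 3 := by rw [← Subgroup.orderOf_coe]; exact hx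
  have : Fintype C := Fintype.ofFinite _
  have hS : ∀ Q : Sylow 3 C, Nat.card ↥(Q : Subgroup C) = 9 := fun Q =>
    card_sylow_eq (a := 2) (m := 4) (by rw [hk]; norm_num) (by norm_num) Q
  have hzx : ∀ Q : Sylow 3 C, zpowers xC ≤ (Q : Subgroup C) := fun Q => by
    have hnor : (zpowers xC).Normal := ⟨fun a ha g => by
      obtain ⟨i, rfl⟩ := mem_zpowers_iff.mp ha
      rw [((hcomm g).zpow_right i).eq, mul_inv_cancel_right]
      exact ha⟩
    exact (IsPGroup.of_card (n := 1) (by rw [Nat.card_zpowers, hxo, pow_one]) :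
      IsPGroup 3 ↥(zpowers xC)).le_sylow_of_normal Q
  have hint : ∀ Q R : Sylow 3 C, Q ≠ R → (Q : Subgroup C) ⊓ (R : Subgroup C) = zpowers xC := by
    intro Q R hne
    refine (eq_of_le_of_card_ge (le_inf (hzx Q) (hzx R)) ?_).symm
    rw [Nat.card_zpowers, hxo]
    obtain ⟨j, hj, hj'⟩ := (Nat.dvd_prime_pow Nat.prime_three).mp
      (show Nat.card ↥((Q : Subgroup C) ⊓ (R : Subgroup C)) ∣ 3 ^ 2 from
        (card_dvd_of_le inf_le_left).trans (dvd_of_eq (hS Q)))
    rcases Nat.lt_or_ge j 2 with hj2 | hj2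
    · rw [hj']
      calc 3 ^ j ≤ 3 ^ 1 := Nat.pow_le_pow_right (by norm_num) (by omega)
        _ = 3 := by norm_num
    · exfalso
      have h9 : Nat.card ↥((Q : Subgroup C) ⊓ (R : Subgroup C)) = 9 := by rw [hj', show j = 2 by omega]; norm_num
      exact hne (Sylow.ext ((eq_of_le_of_card_ge inf_le_left (by rw [h9, hS Q])).symm.trans
        (eq_of_le_of_card_ge inf_le_right (by rw [h9, hS R]))))
  let S3 := Finset.univ.filter (fun g : C => g ^ 9 = 1)
  have hS3 : 27 ≤ S3.card := by
    have hQout : ∀ Q : Sylow 3 C, ((Finset.univ.filter fun g : C => g ∈ (Q : Subgroup C)) \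
        (Finset.univ.filter fun g : C => g ∈ zpowers xC)).card = 6 := by
      intro Q
      rw [Finset.card_sdiff_of_subset (fun g hg => by simp at hg ⊢; exact hzx Q hg),
        ← Fintype.card_subtype, ← Fintype.card_subtype, ← Nat.card_eq_fintype_card, ← Nat.card_eq_fintype_card,
        show Nat.card {g // g ∈ (Q : Subgroup C)} = 9 from hS Q,
        show Nat.card {g // g ∈ zpowers xC} = 3 from (Nat.card_zpowers xC).trans hxo]
    have : Fintype (Sylow 3 C) := Fintype.ofFinite _
    have hdis : ∀ Q ∈ (Finset.univ : Finset (Sylow 3 C)), ∀ R ∈ (Finset.univ : Finset (Sylow 3 C)), Q ≠ R →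
        Disjoint ((Finset.univ.filter fun g : C => g ∈ (Q : Subgroup C)) \ (Finset.univ.filter fun g : C => g ∈ zpowers xC))
          ((Finset.univ.filter fun g : C => g ∈ (R : Subgroup C)) \ (Finset.univ.filter fun g : C => g ∈ zpowers xC)) := by
      intro Q _ R _ hne
      rw [Finset.disjoint_left]
      intro g hg hg'
      simp at hg hg'
      exact hg.2 (hint Q R hne ▸ ⟨hg.1, hg'.1⟩)
    let U := (Finset.univ : Finset (Sylow 3 C)).biUnion fun Q =>
      (Finset.univ.filter fun g : C => g ∈ (Q : Subgroup C)) \ (Finset.univ.filter fun g : C => g ∈ zpowers xC)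
    have hU : U.card = 24 := by
      rw [Finset.card_biUnion hdis, Finset.sum_const_nat (m := 6) (fun Q _ => hQout Q), Finset.card_univ,
        ← Nat.card_eq_fintype_card, h4]
    have hz : (Finset.univ.filter fun g : C => g ∈ zpowers xC).card = 3 := by
      rw [← Fintype.card_subtype, ← Nat.card_eq_fintype_card]
      exact (Nat.card_zpowers xC).trans hxo
    have hsub : U ∪ (Finset.univ.filter fun g : C => g ∈ zpowers xC) ⊆ S3 := by
      intro g hg
      simp [U, S3] at hg ⊢
      rcases hg with ⟨⟨Q, hQ⟩, -⟩ | hg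
      · exact orderOf_dvd_iff_pow_eq_one.mp (hS Q ▸ Subgroup.orderOf_dvd_natCard _ hQ)
      · obtain ⟨Q⟩ := (inferInstance : Nonempty (Sylow 3 C))
        exact orderOf_dvd_iff_pow_eq_one.mp (hS Q ▸ Subgroup.orderOf_dvd_natCard _ (hzx Q hg))
    refine le_trans (le_of_eq ?_) (Finset.card_le_card hsub)
    rw [Finset.card_union_of_disjoint, hU, hz]
    rw [Finset.disjoint_left]
    intro g hg
    simp [U] at hg ⊢
    exact hg.2
  let S2 := Finset.univ.filter (fun g : C => g ^ 4 = 1 ∧ g ≠ 1)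
  have hS2 : 3 * S2.card ≤ 9 := by
    have hle : (S2 ×ˢ Finset.range 3).card ≤ S3ᶜ.card := by
      refine Finset.card_le_card_of_injOn (fun a => a.1 * xC ^ a.2) ?_ ?_
      · intro a ha
        simp [S2, S3] at ha ⊢
        rw [((hcomm a.1).pow_right a.2).mul_pow, show a.1 ^ 9 = a.1 by rw [show 9 = 4 + 4 + 1 by rfl, pow_add, pow_add, ha.1.1]; simp,
          ← pow_mul, show a.2 * 9 = orderOf xC * (3 * a.2) by rw [hxo]; ring, pow_mul, pow_orderOf_eq_one, one_pow, mul_one]
        exact ha.1.2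
      · intro a ha b hb hab
        simp [S2] at ha hb
        have h9 : ∀ c : C × ℕ, c.1 ^ 4 = 1 → (c.1 * xC ^ c.2) ^ 9 = c.1 := fun c hc => by
          rw [((hcomm c.1).pow_right c.2).mul_pow, show c.1 ^ 9 = c.1 by rw [show 9 = 4 + 4 + 1 by rfl, pow_add, pow_add, hc]; simp,
            ← pow_mul, show c.2 * 9 = orderOf xC * (3 * c.2) by rw [hxo]; ring, pow_mul, pow_orderOf_eq_one, one_pow, mul_one]
        have e1 : a.1 = b.1 := by rw [← h9 a ha.1.1, ← h9 b hb.1.1]; exact congrArg (· ^ 9) hab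
        refine Prod.ext e1 (pow_injOn_Iio_orderOf (by rw [hxo]; exact ha.2) (by rw [hxo]; exact hb.2) ?_)
        simpa [e1] using hab
    rw [Finset.card_product, Finset.card_range, Finset.card_compl] at hle
    have hC36 : Fintype.card C = 36 := by rw [← Nat.card_eq_fintype_card, hk]
    omega
  obtain ⟨V⟩ := (inferInstance : Nonempty (Sylow 2 C))
  have hVc : ∀ V : Sylow 2 C, Nat.card ↥(V : Subgroup C) = 4 := fun V =>
    card_sylow_eq (a := 2) (m := 9) (by rw [hk]; norm_num) (by norm_num) V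
  have hVset : ∀ V : Sylow 2 C, (Finset.univ.filter fun g : C => g ∈ (V : Subgroup C)) = insert 1 S2 := by
    intro V
    have hc4 : (Finset.univ.filter fun g : C => g ∈ (V : Subgroup C)).card = 4 := by
      rw [← Fintype.card_subtype, ← Nat.card_eq_fintype_card]
      exact hVc V
    refine Finset.eq_of_subset_of_card_le (fun g hg => ?_) ?_
    · simp [S2] at hg ⊢
      rcases eq_or_ne g 1 with rfl | hg1
      · exact Or.inl rfl
      · exact Or.inr ⟨orderOf_dvd_iff_pow_eq_one.mp (hVc V ▸ Subgroup.orderOf_dvd_natCard _ hg), hg1⟩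
    · rw [hc4]
      have := Finset.card_insert_le (1 : C) S2
      omega
  have hsingle : Subsingleton (Sylow 2 C) := ⟨fun A B => Sylow.ext (SetLike.ext fun g => by
    have := (Finset.ext_iff.mp ((hVset A).trans (hVset B).symm)) g
    simpa using this)⟩
  have hVn : (V : Subgroup C).Normal := Sylow.normal_of_subsingleton V
  set W := (V : Subgroup C).map C.subtype with hW
  have hWc : Nat.card ↥W = 4 := (card_map_of_injective C.subtype_injective).trans (hVc V)
  have hCW : C ≤ normalizer (W : Set G) := by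
    calc C = (⊤ : Subgroup C).map C.subtype := by rw [← MonoidHom.range_eq_map, range_subtype]
      _ ≤ _ := by rw [← normalizer_eq_top_iff.mpr hVn]; exact le_normalizer_map _
  have htop : normalizer (W : Set G) ≠ ⊤ := normalizer_ne_top
    (fun hb => by rw [hb, card_bot] at hWc; omega) (fun ht => by rw [ht, card_top, h] at hWc; omega)
  obtain ⟨T, hT⟩ := (IsPGroup.of_card (n := 2) (by rw [hWc]; norm_num) : IsPGroup 2 ↥W).exists_le_sylow
  have hT8 : Nat.card ↥(T : Subgroup G) = 8 := card_sylow_eq (a := 3) (m := 63) (by rw [h]; norm_num) (by norm_num) T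
  have hidx : (W.subgroupOf (T : Subgroup G)).index = 2 := by
    have := (W.subgroupOf (T : Subgroup G)).card_mul_index
    rw [Nat.card_congr (subgroupOfEquivOfLe hT).toEquiv, hWc, hT8] at this
    omega
  have hnT := (normal_subgroupOf_iff_le_normalizer hT).mp (normal_of_index_eq_two hidx)
  have h8 := card_dvd_of_le hnT
  have h36 := card_dvd_of_le hCW
  rw [hT8] at h8
  rw [hk] at h36
  have h72 : 72 ∣ Nat.card ↥(normalizer (W : Set G)) := Nat.lcm_dvd h8 h36
  have hle72 := Nat.le_of_dvd Nat.card_pos h72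
  have := card_le h htop
  omega

theorem order_cases (g : G) : orderOf g = 7 ∨ (g ^ 9 = 1 ∧ g ≠ 1) ∨ g ^ 8 = 1 := by
  have hd : orderOf g ∣ 504 := h ▸ orderOf_dvd_natCard g
  have key : ∀ p, p ∣ orderOf g → orderOf (g ^ (orderOf g / p)) = p ∧ g ∈ centralizer ({g ^ (orderOf g / p)} : Set G) := by
    intro p hp
    have hk : orderOf g / p ∣ orderOf g := Nat.div_dvd_of_dvd hp
    have hpos := (isOfFinOrder_of_finite g).orderOf_pos
    refine ⟨?_, mem_centralizer_singleton.mpr (Commute.self_pow g _).eq⟩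
    rw [orderOf_pow' g (Nat.pos_of_dvd_of_pos hk hpos).ne', Nat.gcd_eq_right hk]
    exact Nat.div_div_self hp hpos.ne'
  by_cases h7 : 7 ∣ orderOf g
  · left
    refine Nat.dvd_antisymm ?_ h7
    exact card_centralizer_seven h (key 7 h7).1 ▸ Subgroup.orderOf_dvd_natCard _ (key 7 h7).2
  by_cases h3 : 3 ∣ orderOf g
  · refine Or.inr (Or.inl ⟨orderOf_dvd_iff_pow_eq_one.mp ?_, fun he => ?_⟩)
    · exact card_centralizer_three h (key 3 h3).1 ▸ Subgroup.orderOf_dvd_natCard _ (key 3 h3).2
    · rw [he, orderOf_one] at h3; omega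
  refine Or.inr (Or.inr (orderOf_dvd_iff_pow_eq_one.mp ?_))
  have hc9 : Nat.Coprime (orderOf g) (3 ^ 2) :=
    (Nat.prime_three.coprime_iff_not_dvd.mpr h3).symm.pow_right 2
  have hc7 : Nat.Coprime (orderOf g) 7 := ((show Nat.Prime 7 by norm_num).coprime_iff_not_dvd.mpr h7).symm
  exact (Nat.Coprime.mul_right hc9 hc7).dvd_of_dvd_mul_right (show orderOf g ∣ 8 * (3 ^ 2 * 7) from hd)

theorem card_two_elements : Nat.card {g : G // g ^ 8 = 1 ∧ g ≠ 1} ≤ 63 := by
  classical
  have := Fintype.ofFinite G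
  have : Fact (Nat.Prime 3) := ⟨Nat.prime_three⟩
  have : Fact (Nat.Prime 7) := ⟨by norm_num⟩
  obtain ⟨P⟩ := (inferInstance : Nonempty (Sylow 7 G))
  have h7 := card_orderOf_eq_prime P (card_sylow_eq (p := 7) (a := 1) (m := 72) (by rw [h]; norm_num) (by norm_num) P)
  rw [(sylow_seven h).1, Nat.card_eq_fintype_card, Fintype.card_subtype] at h7
  have h9 : 224 ≤ (Finset.univ.filter fun g : G => g ^ 9 = 1 ∧ g ≠ 1).card := by
    rw [← Fintype.card_subtype, ← Nat.card_eq_fintype_card]
    have : Fintype (Sylow 3 G) := Fintype.ofFinite _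
    have hsum : Nat.card (Σ Q : Sylow 3 G, {g : ↥(Q : Subgroup G) // g ≠ 1}) = 224 := by
      rw [Nat.card_sigma, Finset.sum_const_nat (m := 8) (fun Q _ => ?_), Finset.card_univ, ← Nat.card_eq_fintype_card,
        (sylow_three h).1]
      have : Fintype ↥(Q : Subgroup G) := Fintype.ofFinite _
      rw [Nat.card_eq_fintype_card, Fintype.card_subtype_compl, Fintype.card_subtype_eq,
        ← Nat.card_eq_fintype_card, ((sylow_three h).2 Q).1]
    rw [← hsum]
    refine Nat.card_le_card_of_injective (fun a => (⟨(a.2.1 : G), orderOf_dvd_iff_pow_eq_one.mp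
      (((sylow_three h).2 a.1).1 ▸ Subgroup.orderOf_dvd_natCard _ a.2.1.2),
      fun he => a.2.2 (Subtype.ext he)⟩ : {g : G // g ^ 9 = 1 ∧ g ≠ 1})) ?_
    rintro ⟨Q, g, hg⟩ ⟨R, k, hk⟩ he
    have he' : (g : G) = (k : G) := congrArg (fun s : {g : G // g ^ 9 = 1 ∧ g ≠ 1} => s.1) he
    obtain rfl : Q = R := by
      obtain ⟨i, -, hi⟩ := (Nat.dvd_prime_pow Nat.prime_three).mp
        ((Subgroup.orderOf_dvd_natCard _ g.2).trans (dvd_of_eq ((sylow_three h).2 Q).1) : orderOf (g : G) ∣ 3 ^ 2)
      obtain ⟨i', rfl⟩ : ∃ i', i = i' + 1 := ⟨i - 1, by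
        rcases i with _ | i
        · exfalso; exact hg (Subtype.ext (orderOf_eq_one_iff.mp (by simpa using hi)))
        · omega⟩
      have hy : orderOf ((g : G) ^ 3 ^ i') = 3 := by
        rw [orderOf_pow' _ (by positivity), hi, Nat.gcd_eq_right (pow_dvd_pow 3 (Nat.le_succ i')), pow_succ,
          Nat.mul_div_cancel_left _ (by positivity)]
      have hCC : ∀ S : Sylow 3 G, (g : G) ∈ (S : Subgroup G) →
          (S : Subgroup G) = centralizer ({(g : G) ^ 3 ^ i'} : Set G) := fun S hgS => by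
        have := ((sylow_three h).2 S).2.1
        exact eq_of_le_of_card_ge (fun s hs => mem_centralizer_singleton.mpr
          (congrArg Subtype.val (mul_comm' (⟨s, hs⟩ : ↥(S : Subgroup G)) ⟨_, pow_mem hgS _⟩)))
          (by rw [card_centralizer_three h hy, ((sylow_three h).2 S).1])
      exact Sylow.ext ((hCC Q g.2).trans (hCC R (he' ▸ k.2)).symm)
    obtain rfl : g = k := Subtype.ext he'
    rfl
  rw [Nat.card_eq_fintype_card, Fintype.card_subtype]
  have hd1 : Disjoint (Finset.univ.filter fun g : G => orderOf g = 7) (Finset.univ.filter fun g : G => g ^ 9 = 1 ∧ g ≠ 1) := by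
    rw [Finset.disjoint_filter]
    intro g _ a b
    have := orderOf_dvd_of_pow_eq_one b.1
    rw [a] at this; omega
  have hd2 : Disjoint (Finset.univ.filter fun g : G => g ^ 8 = 1 ∧ g ≠ 1)
      ((Finset.univ.filter fun g : G => orderOf g = 7) ∪ (Finset.univ.filter fun g : G => g ^ 9 = 1 ∧ g ≠ 1)) := by
    rw [Finset.disjoint_union_right, Finset.disjoint_filter, Finset.disjoint_filter]
    refine ⟨fun g _ a b => ?_, fun g _ a b => ?_⟩
    · have := orderOf_dvd_of_pow_eq_one a.1
      rw [b] at this; omega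
    · exact a.2 (orderOf_eq_one_iff.mp (Nat.eq_one_of_dvd_coprimes (by norm_num : Nat.Coprime 8 9)
        (orderOf_dvd_of_pow_eq_one a.1) (orderOf_dvd_of_pow_eq_one b.1)))
  have hle := Finset.card_le_univ (((Finset.univ.filter fun g : G => g ^ 8 = 1 ∧ g ≠ 1) ∪
      ((Finset.univ.filter fun g : G => orderOf g = 7) ∪ (Finset.univ.filter fun g : G => g ^ 9 = 1 ∧ g ≠ 1))) ∪ {1})
  rw [Finset.card_union_of_disjoint, Finset.card_union_of_disjoint hd2, Finset.card_union_of_disjoint hd1,
    h7, Finset.card_singleton, ← Nat.card_eq_fintype_card, h] at hle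
  · omega
  · simp

theorem nonempty_mulEquiv {F : Type*} [Field F] [Fintype F] (hF : Fintype.card F = 8) :
    Nonempty (G ≃* Matrix.ProjectiveSpecialLinearGroup (Fin 2) F) := by
  have : Fact (Nat.Prime 2) := ⟨Nat.prime_two⟩
  have : Fact (Nat.Prime 7) := ⟨by norm_num⟩
  have hC2 : ∀ u : G, orderOf u = 2 → Nat.card ↥(centralizer ({u} : Set G)) ∣ 2 ^ 3 := by
    intro u hu
    have hno : ∀ p a, p.Prime → Nat.Coprime 2 a →
        (∀ y : G, orderOf y = p → Nat.card ↥(centralizer ({y} : Set G)) = a) →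
        ¬ p ∣ Nat.card ↥(centralizer ({u} : Set G)) := by
      intro p a hp ha hcen hd
      have : Fact p.Prime := ⟨hp⟩
      obtain ⟨⟨y, hy⟩, hyo⟩ := exists_prime_orderOf_dvd_card' (G := ↥(centralizer ({u} : Set G))) p hd
      have hd1 : orderOf u ∣ a := hcen y ((Subgroup.orderOf_coe _).trans hyo) ▸
        Subgroup.orderOf_dvd_natCard _ (mem_centralizer_singleton.mpr (mem_centralizer_singleton.mp hy).symm)
      rw [hu] at hd1
      exact absurd (Nat.eq_one_of_dvd_coprimes ha dvd_rfl hd1) (by norm_num)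
    have hd : Nat.card ↥(centralizer ({u} : Set G)) ∣ 2 ^ 3 * (3 ^ 2 * 7) :=
      (card_subgroup_dvd_card _).trans (dvd_of_eq (by rw [h]; norm_num))
    refine (Nat.Coprime.mul_right ?_ ?_).dvd_of_dvd_mul_right hd
    · exact (Nat.prime_three.coprime_iff_not_dvd.mpr
        (hno 3 9 Nat.prime_three (by norm_num) fun y hy => card_centralizer_three h hy)).symm.pow_right 2
    · exact ((show Nat.Prime 7 by norm_num).coprime_iff_not_dvd.mpr
        (hno 7 7 (by norm_num) (by norm_num) fun y hy => card_centralizer_seven h hy)).symm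
  obtain ⟨hexp, hTI, hn⟩ := two_structure (G := G) 3 63 (by norm_num) (by rw [h]; norm_num) (by decide) hC2
    (card_two_elements h)
  refine PSLTwo.nonempty_mulEquiv_even (noncomm h) (m := 7) (by norm_num) hF ?_ (by rw [h]) hTI hexp
    (fun T => (card_sylow_eq (a := 3) (m := 63) (by rw [h]; norm_num) (by norm_num) T).trans (by norm_num))
    (by omega) ?_ ?_
  · obtain ⟨p, hc⟩ := CharP.exists F
    obtain ⟨n, hp, hn⟩ := FiniteField.card F p
    rw [hF] at hn
    have hd : p ∣ 2 ^ 3 := ⟨p ^ ((n : ℕ) - 1), by rw [← pow_succ', Nat.sub_add_cancel n.pos, ← hn]; norm_num⟩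
    have h2 : p = 2 := (Nat.prime_dvd_prime_iff_eq hp Nat.prime_two).mp (hp.dvd_of_dvd_pow hd)
    exact ringChar.eq_iff.mpr (h2 ▸ hc)
  · intro H hH
    obtain ⟨⟨y, hy⟩, hy7⟩ := exists_prime_orderOf_dvd_card' (G := H) 7 (dvd_of_eq hH.symm)
    exact ⟨y, hy, (Subgroup.orderOf_coe _).trans hy7⟩
  · intro y x hy hx hx1 g hg
    have ho : orderOf x = 7 := by
      rcases (Nat.dvd_prime (by norm_num : Nat.Prime 7)).mp
        ((Subgroup.orderOf_dvd_natCard _ hx).trans (dvd_of_eq ((Nat.card_zpowers y).trans hy))) with h' | h'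
      · exact absurd (orderOf_eq_one_iff.mp h') hx1
      · exact h'
    have hsub : zpowers y ≤ centralizer ({x} : Set G) := zpowers_le.mpr (mem_centralizer_singleton.mpr (by
      obtain ⟨i, rfl⟩ := mem_zpowers_iff.mp hx
      exact ((Commute.refl y).zpow_right i).eq))
    rw [eq_of_le_of_card_ge hsub (by rw [card_centralizer_seven h ho, Nat.card_zpowers, hy])]
    exact hg

end

end CfsgLib.SmallGroups.Order504
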