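import Cfsg.Agent.Lib.SmallGroups.QuasiSimpleReduce
import Cfsg.Agent.Lib.SmallGroups.QuasiSimpleValues
import Cfsg.Agent.Lib.HalfDegree.Main

/-!
# A faithful irreducible character of degree `(p + 1) / 2`
-/

set_option autoImplicit false
set_option linter.style.haveILetI false
set_option linter.unusedSectionVars false

namespace CfsgLib.SmallGroups.QuasiSimple

open Cfsg CfsgLib.CharTheory CfsgLib.Blocks CfsgLib.DefectOne

variable {G : Type*} [Group G] [Fintype G] {p : ℕ} [hp : Fact p.Prime]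

/-- The inertial index of a quasi-simple group with a faithful character of degree `(p + 1) / 2`. -/
theorem Hyp.rowE_of_upper {S : Sect G p} {ψ : G → ℂ} (h : Hyp S ψ) (hdeg : 2 * charDegree ψ = p + 1) :
    2 * rowE S (trivIrr S.V) + 1 = p := by
  classical
  have hG := h.exact
  have hlt := h.deg
  obtain ⟨M, hM⟩ := exists_isPModular_of_prime hG.prime
  haveI := isPrime_of_isPModular hM
  haveI := Fintype.ofFinite (IrrCharacter G)
  set n := charDegree ψ with hn
  have hnchi : charDegree (h.chi : G → ℂ) = n := rfl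
  obtain ⟨φ, hφ⟩ := (not_dvd_degree_iff hG S hM h.chi).1 fun hd => by
    have := Nat.le_of_dvd (by omega) hd
    omega
  set e := rowE S (trivIrr S.V) with he
  have hrowE : rowE S φ = e := h.rowE_eq φ _
  have hnfix : galStab hG h.chi ≠ p - 1 := fun hf => by
    have h1 := apply_eq_of_fixed_small hG S hf (by omega)
    exact h.u_ne_one (h.faith _ h1)
  obtain ⟨-, θ, -, hθe, hdich, -⟩ := count hG S hM φ
  have hψe : galStab hG h.chi = e := by
    rw [galStab_eq hG ((hdich h.chi hφ).resolve_right hnfix), hθe, hrowE]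
  have hed : e ∣ p - 1 := rowE_dvd hG S _
  have he2e : 2 * e ≤ p - 1 := by
    obtain ⟨t, ht⟩ := hed
    rcases t with _ | _ | t
    · simp at ht; omega
    · exact absurd (hψe.trans (by simpa using ht.symm)) hnfix
    · rw [ht, mul_comm 2 e]; exact Nat.mul_le_mul_left e (by omega)
  have hsmul : ∀ (y : S.N) (φ' : IrrCharacter S.V), y • φ' = φ' := fun y φ' => (S.smul_eq_iff y _ _).2 fun v => by
    refine congrArg (φ' : S.V → ℂ) (Subtype.ext ?_)
    rw [Sect.conjV_apply, ← h.cent v (y : G), mul_inv_cancel_right]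
  have horb : MulAction.orbit S.N φ = {φ} := by
    ext η
    rw [MulAction.mem_orbit_iff, Set.mem_singleton_iff]
    exact ⟨fun ⟨y, hy⟩ => by rw [← hy, hsmul], fun h' => ⟨1, by rw [h', hsmul]⟩⟩
  have hφ1 : charDegree (φ : S.V → ℂ) = 1 := by
    obtain ⟨d, hd, hdvd⟩ := exists_degree_dvd_index_of_abelian φ.2 (⊤ : Subgroup S.V)
      fun a _ b _ => Subtype.ext (h.cent a b)
    rw [Subgroup.index_top, Nat.dvd_one] at hdvd
    simp [charDegree, hd, hdvd]
  obtain ⟨s, hs, hs3⟩ := (rowT_spec hG S hM h.chi).1 φ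
  have hs0 : s ≠ 0 := fun h0 => hφ (by rw [hs, h0, Int.cast_zero])
  have hd := degree_modEq hG S hM hs hs0
  rw [horb, Nat.card_coe_set_eq, Set.ncard_singleton, hφ1, hψe, hnchi, Nat.cast_one, one_mul, one_mul] at hd
  rcases hs3 with h' | h' | h'
  · exact absurd h' hs0
  · rw [h', mul_one, Int.modEq_iff_dvd] at hd
    have h2 : (p : ℤ) ∣ ((n + e : ℕ) : ℤ) := by
      rw [← dvd_neg]
      refine hd.trans (dvd_of_eq ?_)
      push_cast
      ring
    have := Nat.le_of_dvd (by omega) (Int.natCast_dvd_natCast.1 h2)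
    omega
  · exfalso
    rw [h', mul_neg, mul_one, neg_neg, Int.natCast_modEq_iff] at hd
    unfold Nat.ModEq at hd
    rw [Nat.mod_eq_of_lt (by omega), Nat.mod_eq_of_lt (by omega)] at hd
    omega

/-- A group with a faithful irreducible character of degree `(p + 1) / 2`. -/
theorem psl_of_upper {G : Type*} [Group G] [Finite G] {p : ℕ} [hp : Fact p.Prime]
    (hdiv : p ∣ Nat.card G) (hsq : ¬ p ^ 2 ∣ Nat.card G) (hnn : ∀ H : Subgroup G, H.Normal → Nat.card H ≠ p)
    {ζ : G → ℂ} (hζ : IsIrrCharacter G ζ) (hfaith : ∀ g : G, ζ g = ζ 1 → g = 1) (hp7 : 7 < p)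
    (hdeg : 2 * charDegree ζ = p + 1) :
    Nonempty ((G ⧸ Subgroup.center G) ≃* Matrix.ProjectiveSpecialLinearGroup (Fin 2) (ZMod p)) := by
  classical
  haveI := Fintype.ofFinite G
  obtain ⟨e, rfl⟩ : ∃ e, p = 2 * e + 1 := ⟨charDegree ζ - 1, by omega⟩
  refine HalfDegree.psl_of_sylow_le hdiv hsq hnn (IsIrrCharacter.isCharacter hζ) hfaith (by omega) (by omega)
    (e := e) rfl (by omega) ?_
  intro i S' hKG hgen' hnn' hχ' hfaith'
  obtain rfl : i = (inferInstance : Fintype ↥(pClosure G (2 * e + 1))) := Subsingleton.elim _ _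
  have h := hyp_pClosure ⟨hp.out, hdiv, hsq⟩ hnn hζ hfaith (by omega) S'
  have hdK : charDegree (fun k : pClosure G (2 * e + 1) => ζ k) = charDegree ζ := by simp [charDegree]
  have he := h.rowE_of_upper (by rw [hdK]; exact hdeg)
  refine ⟨h.irr, ?_, HalfDegree.card_sylow_le_of_small hKG S' hgen' hnn' hχ' hfaith' ?_ (by omega) (Or.inr hp7)⟩
  · show rowE S' (trivIrr S'.V) = e
    exact Nat.eq_of_mul_eq_mul_left two_pos (Nat.succ_injective he)
  · show 2 * charDegree (fun k : pClosure G (2 * e + 1) => ζ k) ≤ _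
    rw [hdK]; omega

end CfsgLib.SmallGroups.QuasiSimple
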