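import Mathlib.Data.ZMod.Basic
import Mathlib.GroupTheory.OrderOfElement
import Mathlib.Algebra.Field.ZMod
import Mathlib.Algebra.BigOperators.Ring.Finset
import Mathlib.Tactic.Ring
import Mathlib.Tactic.LinearCombination
import Mathlib.GroupTheory.Perm.Cycle.Type

/-!
# Sums of two elements of a multiplicative subgroup of `ZMod p`

`circ H a b c` counts the `l ∈ H` with `c - l a ∈ H b`.
-/

set_option autoImplicit false

open Finset

namespace CfsgLib.SmallGroups.SmallDegree

open scoped Classical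

variable {p : ℕ} [hp : Fact p.Prime] (H : Subgroup (ZMod p)ˣ)

/-- The orbit of `x` under `H`. -/
noncomputable def orb (x : ZMod p) : Finset (ZMod p) :=
  univ.image fun m : H => ((m : (ZMod p)ˣ) : ZMod p) * x

/-- The number of `l ∈ H` with `c - l a ∈ H b`. -/
noncomputable def circ (a b c : ZMod p) : ℕ :=
  (univ.filter fun l : H => c - ((l : (ZMod p)ˣ) : ZMod p) * a ∈ orb H b).card

variable {H}

theorem mem_orb {x y : ZMod p} :
    y ∈ orb H x ↔ ∃ m : H, ((m : (ZMod p)ˣ) : ZMod p) * x = y := by simp [orb]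

theorem mem_orb_self (x : ZMod p) : x ∈ orb H x := mem_orb.2 ⟨1, by simp⟩

theorem mem_orb_symm {x y : ZMod p} (h : y ∈ orb H x) : x ∈ orb H y := by
  obtain ⟨m, rfl⟩ := mem_orb.1 h
  exact mem_orb.2 ⟨m⁻¹, by rw [← mul_assoc, ← Units.val_mul, ← Subgroup.coe_mul, inv_mul_cancel]; simp⟩

theorem mem_orb_trans {x y z : ZMod p} (h : y ∈ orb H x) (h' : z ∈ orb H y) : z ∈ orb H x := by
  obtain ⟨m, rfl⟩ := mem_orb.1 h
  obtain ⟨n, rfl⟩ := mem_orb.1 h'
  exact mem_orb.2 ⟨n * m, by rw [Subgroup.coe_mul, Units.val_mul, mul_assoc]⟩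

theorem mem_orb_comm {x y : ZMod p} : y ∈ orb H x ↔ x ∈ orb H y := ⟨mem_orb_symm, mem_orb_symm⟩

theorem mem_orb_mul {x y : ZMod p} (l : H) :
    y ∈ orb H (((l : (ZMod p)ˣ) : ZMod p) * x) ↔ y ∈ orb H x :=
  ⟨fun h => mem_orb_trans (mem_orb.2 ⟨l, rfl⟩) h, fun h => mem_orb_trans (mem_orb_symm (mem_orb.2 ⟨l, rfl⟩)) h⟩

theorem ne_zero_of_mem_orb {x y : ZMod p} (hx : x ≠ 0) (h : y ∈ orb H x) : y ≠ 0 := by
  obtain ⟨m, rfl⟩ := mem_orb.1 h
  exact mul_ne_zero (Units.ne_zero _) hx

theorem mul_right_inj_of_ne {x : ZMod p} (hx : x ≠ 0) {m n : H}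
    (h : ((m : (ZMod p)ˣ) : ZMod p) * x = ((n : (ZMod p)ˣ) : ZMod p) * x) : m = n :=
  Subtype.ext (Units.ext (mul_right_cancel₀ hx h))

theorem card_orb {x : ZMod p} (hx : x ≠ 0) : (orb H x).card = Nat.card H := by
  rw [orb, card_image_of_injective _ fun m n h => mul_right_inj_of_ne hx h, card_univ,
    Nat.card_eq_fintype_card]

theorem card_ne_zero_univ : ((univ : Finset (ZMod p)).erase 0).card = p - 1 := by
  rw [card_erase_of_mem (mem_univ _), card_univ, ZMod.card]

/-- The orbits which contain a given non-zero element. -/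
theorem card_orb_containing {x : ZMod p} (hx : x ≠ 0) :
    (((univ : Finset (ZMod p)).erase 0).filter fun b => x ∈ orb H b).card = Nat.card H := by
  rw [← card_orb (H := H) hx]
  refine congrArg card (Finset.ext fun b => ?_)
  rw [mem_filter, mem_erase]
  exact ⟨fun h => mem_orb_symm h.2,
    fun h => ⟨⟨ne_zero_of_mem_orb hx h, mem_univ _⟩, mem_orb_symm h⟩⟩

/-- An even subgroup contains `-1`. -/
theorem neg_one_mem (h : 2 ∣ Nat.card H) : (-1 : (ZMod p)ˣ) ∈ H := by
  obtain ⟨m, hm⟩ := exists_prime_orderOf_dvd_card' (G := H) 2 h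
  have h1 : (m : (ZMod p)ˣ) ^ 2 = 1 := by
    rw [← SubmonoidClass.coe_pow, ← hm, pow_orderOf_eq_one, OneMemClass.coe_one]
  have h2 : ((m : (ZMod p)ˣ) : ZMod p) ^ 2 = 1 := by rw [← Units.val_pow_eq_pow_val, h1, Units.val_one]
  rcases sq_eq_one_iff.1 h2 with h3 | h3
  · exfalso
    have : m = 1 := Subtype.ext (Units.ext (by simpa using h3))
    rw [this, orderOf_one] at hm
    omega
  · have : (m : (ZMod p)ˣ) = -1 := Units.ext (by simpa using h3)
    rw [← this]
    exact m.2

theorem neg_mem_orb (h : 2 ∣ Nat.card H) {x y : ZMod p} : -y ∈ orb H x ↔ y ∈ orb H x := by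
  have hy : ∀ z : ZMod p, -z ∈ orb H z := fun z =>
    mem_orb.2 ⟨⟨-1, neg_one_mem h⟩, by simp⟩
  refine ⟨fun h' => ?_, fun h' => mem_orb_trans h' (hy y)⟩
  have := mem_orb_trans h' (hy (-y))
  rwa [neg_neg] at this

theorem circ_mul_c (l : H) (a b c : ZMod p) :
    circ H a b (((l : (ZMod p)ˣ) : ZMod p) * c) = circ H a b c := by
  refine Finset.card_equiv (Equiv.mulLeft l⁻¹) fun m => ?_
  simp only [mem_filter, mem_univ, true_and, Equiv.coe_mulLeft]
  have e : c - (((l⁻¹ * m : H) : (ZMod p)ˣ) : ZMod p) * a =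
      (((l⁻¹ : H) : (ZMod p)ˣ) : ZMod p) *
        (((l : (ZMod p)ˣ) : ZMod p) * c - ((m : (ZMod p)ˣ) : ZMod p) * a) := by
    rw [mul_sub, ← mul_assoc, ← mul_assoc, ← Units.val_mul, ← Units.val_mul, ← Subgroup.coe_mul,
      ← Subgroup.coe_mul, inv_mul_cancel, OneMemClass.coe_one, Units.val_one, one_mul]
  rw [e]
  exact ⟨fun h => mem_orb_trans h (mem_orb.2 ⟨_, rfl⟩),
    fun h => mem_orb_trans h (mem_orb_symm (mem_orb.2 ⟨_, rfl⟩))⟩

/-- The row sums. -/
theorem sum_circ {a b : ZMod p} (ha : a ≠ 0) (hb : b ≠ 0) :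
    ∑ c ∈ (univ : Finset (ZMod p)).erase 0, circ H a b c +
      (if -a ∈ orb H b then Nat.card H else 0) = Nat.card H * Nat.card H := by
  have h1 : ∀ l : H, (((univ : Finset (ZMod p)).erase 0).filter
        fun c => c - ((l : (ZMod p)ˣ) : ZMod p) * a ∈ orb H b).card + (if -a ∈ orb H b then 1 else 0)
      = Nat.card H := by
    intro l
    rw [← card_orb (H := H) hb]
    have hneg : -(((l : (ZMod p)ˣ) : ZMod p) * a) ∈ orb H b ↔ -a ∈ orb H b := by
      rw [← mul_neg, mem_orb_comm, mem_orb_mul, mem_orb_comm]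
    have hcard : (((univ : Finset (ZMod p)).erase 0).filter
        fun c => c - ((l : (ZMod p)ˣ) : ZMod p) * a ∈ orb H b).card =
        ((orb H b).erase (-(((l : (ZMod p)ˣ) : ZMod p) * a))).card := by
      refine Finset.card_equiv (Equiv.subRight (((l : (ZMod p)ˣ) : ZMod p) * a)) fun c => ?_
      simp only [mem_filter, mem_erase, mem_univ, and_true, Equiv.subRight_apply]
      constructor
      · exact fun h => ⟨fun h' => h.1 (by linear_combination h'), h.2⟩
      · exact fun h => ⟨fun h' => h.1 (by linear_combination h'), h.2⟩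
    rw [hcard]
    split_ifs with h
    · exact card_erase_add_one (hneg.2 h)
    · rw [erase_eq_of_notMem (mt hneg.1 h), add_zero]
  have h2 : ∑ c ∈ (univ : Finset (ZMod p)).erase 0, circ H a b c =
      ∑ l : H, (((univ : Finset (ZMod p)).erase 0).filter
        fun c => c - ((l : (ZMod p)ˣ) : ZMod p) * a ∈ orb H b).card := by
    simp only [circ, card_filter]
    exact sum_comm
  have h3 := sum_congr (rfl : (univ : Finset H) = _) (fun l _ => h1 l)
  rw [sum_add_distrib, ← h2, sum_const, sum_const, card_univ, ← Nat.card_eq_fintype_card,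
    smul_eq_mul, smul_eq_mul, mul_ite, mul_one, mul_zero] at h3
  exact h3

/-- The number of `c` with `c - l a` and `c - l' a` non-zero in one orbit. -/
theorem card_pairs_fixed {a : ZMod p} (ha : a ≠ 0) (l l' : H) :
    (((univ : Finset (ZMod p)).erase 0).filter fun c => c - ((l : (ZMod p)ˣ) : ZMod p) * a ≠ 0 ∧
      c - ((l' : (ZMod p)ˣ) : ZMod p) * a ∈ orb H (c - ((l : (ZMod p)ˣ) : ZMod p) * a)).card =
      if l' = l then p - 2 else Nat.card H - 2 := by
  set x : ZMod p := ((l : (ZMod p)ˣ) : ZMod p) * a with hx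
  have hx0 : x ≠ 0 := mul_ne_zero (Units.ne_zero _) ha
  split_ifs with h
  · subst h
    have : (((univ : Finset (ZMod p)).erase 0).filter fun c => c - x ≠ 0 ∧ c - x ∈ orb H (c - x)) =
        ((univ : Finset (ZMod p)).erase 0).erase x := by
      ext c
      simp only [mem_filter, mem_erase, mem_univ, and_true, sub_ne_zero]
      exact ⟨fun h => ⟨h.2.1, h.1⟩, fun h => ⟨h.2, h.1, mem_orb_self _⟩⟩
    rw [this, card_erase_of_mem (mem_erase.2 ⟨hx0, mem_univ _⟩), card_ne_zero_univ]
    omega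
  · -- parametrise by the ratio
    set y : ZMod p := ((l' : (ZMod p)ˣ) : ZMod p) * a with hy
    have hxy : x ≠ y := fun h' => h (mul_right_inj_of_ne ha h').symm
    set m₀ : H := l' * l⁻¹ with hm₀
    have hm₀' : ((m₀ : (ZMod p)ˣ) : ZMod p) * x = y := by
      rw [hx, hy, ← mul_assoc, ← Units.val_mul, ← Subgroup.coe_mul, hm₀, inv_mul_cancel_right]
    have hm1 : m₀ ≠ 1 := fun h' => h (by rw [hm₀, mul_inv_eq_one] at h'; exact h')
    have hne1 : ∀ m : H, m ≠ 1 → ((m : (ZMod p)ˣ) : ZMod p) - 1 ≠ 0 := fun m hm h' =>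
      hm (Subtype.ext (Units.ext (by simpa [sub_eq_zero] using h')))
    let f : H → ZMod p := fun m => (x - y) / (((m : (ZMod p)ˣ) : ZMod p) - 1) + x
    have hf : ∀ m : H, m ≠ 1 → f m - y = ((m : (ZMod p)ˣ) : ZMod p) * (f m - x) := fun m hm => by
      have hz := div_mul_cancel₀ (x - y) (hne1 m hm)
      simp only [f]
      linear_combination -hz
    have hset : (((univ : Finset (ZMod p)).erase 0).filter fun c => c - x ≠ 0 ∧ c - y ∈ orb H (c - x)) =
        (((univ : Finset H).erase 1).erase m₀).image f := by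
      ext c
      simp only [mem_filter, mem_erase, mem_univ, and_true, mem_image]
      constructor
      · rintro ⟨hc, hcx, hor⟩
        obtain ⟨m, hm⟩ := mem_orb.1 hor
        have hm1' : m ≠ 1 := fun h' => hxy (by
          rw [h'] at hm; simp at hm; linear_combination hm)
        refine ⟨m, ⟨fun h' => hc ?_, hm1'⟩, ?_⟩
        · rw [h'] at hm
          have h2 : (((m₀ : (ZMod p)ˣ) : ZMod p) - 1) * c = 0 := by linear_combination hm + hm₀'
          exact (mul_eq_zero.1 h2).resolve_left (hne1 _ hm1)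
        · have := hne1 m hm1'
          simp only [f]
          rw [← eq_sub_iff_add_eq, div_eq_iff this]
          linear_combination -hm
      · rintro ⟨m, ⟨hmm₀, hm1'⟩, rfl⟩
        have hfx : f m - x ≠ 0 := by
          simp only [f, add_sub_cancel_right]
          exact div_ne_zero (sub_ne_zero.2 hxy) (hne1 m hm1')
        refine ⟨fun h' => hmm₀ (mul_right_inj_of_ne hx0 ?_), hfx,
          mem_orb.2 ⟨m, (hf m hm1').symm⟩⟩
        have := hf m hm1'
        rw [h'] at this
        rw [hm₀']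
        linear_combination this
    rw [hset, card_image_of_injOn, card_erase_of_mem (mem_erase.2 ⟨hm1, mem_univ _⟩),
      card_erase_of_mem (mem_univ _), card_univ, ← Nat.card_eq_fintype_card]
    · omega
    · intro m hm n hn hmn
      simp only [coe_erase, coe_univ, Set.mem_diff, Set.mem_singleton_iff, Set.mem_univ, true_and] at hm hn
      have h1 := hne1 m hm.1
      have h2 := hne1 n hn.1
      simp only [f, add_left_inj] at hmn
      rw [div_eq_div_iff h1 h2] at hmn
      refine Subtype.ext (Units.ext ?_)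
      have := mul_left_cancel₀ (sub_ne_zero.2 hxy) hmn
      linear_combination -this

/-- The energy. -/
theorem sum_circ_sq {a : ZMod p} (ha : a ≠ 0) :
    ∑ b ∈ (univ : Finset (ZMod p)).erase 0, ∑ c ∈ (univ : Finset (ZMod p)).erase 0, circ H a b c ^ 2 =
      Nat.card H * Nat.card H * (p - 2 + (Nat.card H - 1) * (Nat.card H - 2)) := by
  set U := (univ : Finset (ZMod p)).erase 0 with hU
  let L : H → ZMod p → ZMod p := fun l c => c - ((l : (ZMod p)ˣ) : ZMod p) * a
  have hsq : ∀ b c, circ H a b c ^ 2 =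
      ∑ l : H, ∑ l' : H, if L l c ∈ orb H b ∧ L l' c ∈ orb H b then 1 else 0 := fun b c => by
    rw [sq, circ, card_filter, sum_mul_sum]
    exact sum_congr rfl fun l _ => sum_congr rfl fun l' _ => by split_ifs <;> simp_all [L]
  have hb : ∀ (l l' : H) (c : ZMod p),
      (∑ b ∈ U, if L l c ∈ orb H b ∧ L l' c ∈ orb H b then 1 else 0) =
        Nat.card H * if L l c ≠ 0 ∧ L l' c ∈ orb H (L l c) then 1 else 0 := by
    intro l l' c
    rw [← card_filter]
    split_ifs with h
    · rw [mul_one, ← card_orb_containing (H := H) h.1]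
      refine congrArg card (filter_congr fun b _ => ⟨fun h' => h'.1, fun h' => ⟨h', mem_orb_trans h' h.2⟩⟩)
    · rw [mul_zero, card_eq_zero, filter_eq_empty_iff]
      intro b hbU h'
      exact h ⟨ne_zero_of_mem_orb (ne_of_mem_erase hbU) h'.1, mem_orb_trans (mem_orb_symm h'.1) h'.2⟩
  simp only [hsq]
  rw [sum_comm]
  rw [sum_congr (rfl : U = _) fun c _ => sum_comm (s := U)]
  rw [sum_comm, sum_congr rfl (g := fun _ => Nat.card H *
    (p - 2 + (Nat.card H - 1) * (Nat.card H - 2))) fun l _ => ?_, sum_const, card_univ,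
    ← Nat.card_eq_fintype_card, smul_eq_mul, mul_assoc]
  rw [sum_congr (rfl : U = _) fun c _ => sum_comm (s := U), sum_comm]
  simp only [hb, ← mul_sum]
  congr 1
  rw [sum_congr rfl (g := fun l' => if l' = l then p - 2 else Nat.card H - 2) fun l' _ => by
    rw [← card_filter]; exact card_pairs_fixed ha l l',
    ← add_sum_erase _ _ (mem_univ l), if_pos rfl, sum_congr rfl fun l' hl' => if_neg (ne_of_mem_erase hl'),
    sum_const, card_erase_of_mem (mem_univ _), card_univ, ← Nat.card_eq_fintype_card, smul_eq_mul]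

end CfsgLib.SmallGroups.SmallDegree
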