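import Cfsg.Agent.Lib.SmallGroups.BrauerReynoldsExceptional
import Cfsg.Agent.Lib.CharTheory.ExteriorSquare

/-!
# Self-centralising Sylow subgroups of order `p` with normaliser of order `2 p`

The exterior square of an exceptional character of degree `p - 2` is the sum of all but one of the
exceptional characters.
-/

set_option autoImplicit false
set_option linter.unusedSectionVars false

namespace CfsgLib.SmallGroups.BrauerReynolds

open Cfsg CfsgLib.CharTheory CfsgLib.Blocks CfsgLib.BrauerCharacters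
  CfsgLib.BrauerCharacters.AbelianPrincipal Finset
open scoped ComplexConjugate IsMulCommutative Classical

universe u

variable {G : Type u} [Group G] [Fintype G] [IsSimpleGroup G] [Fintype (IrrCharacter G)]
  {p : ℕ} [hp : Fact p.Prime]
variable {P : Sylow p G} [IsMulCommutative P] {r t : ℕ} (S : Setup P 2 1 r t)
variable {M : Ideal AlgInt} [M.IsPrime] (hM : IsPModular p M) (D : Data M P 2)
variable {E : Subgroup G} [IsMulCommutative ↥E] (F : Frame P E 2)

include S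

/-- A character of `P` of square `1` is trivial. -/
theorem Setup.hom_eq_one_of_sq {ψ : ↥(P : Subgroup G) →* ℂˣ} (h : ψ * ψ = 1) : ψ = 1 := by
  refine MonoidHom.ext fun w => ?_
  have h2 : ψ w ^ 2 = 1 := by rw [sq]; exact DFunLike.congr_fun h w
  have hp' : ψ w ^ p = 1 := by
    have hw : w ^ Nat.card ↥(P : Subgroup G) = 1 := pow_card_eq_one'
    rw [S.cardP] at hw
    rw [← map_pow, hw, map_one]
  have hcop : Nat.Coprime 2 p := (Nat.coprime_primes Nat.prime_two hp.out).2 (by have := S.p5; omega)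
  rw [MonoidHom.one_apply, ← pow_one (ψ w), ← hcop.gcd_eq_one, pow_gcd_eq_one]
  exact ⟨h2, hp'⟩

/-- A non-trivial character of `P` is not its inverse. -/
theorem Setup.ne_inv {ψ : ↥(P : Subgroup G) →* ℂˣ} (hψ : ψ ≠ 1) : ψ ≠ ψ⁻¹ := fun h =>
  hψ (S.hom_eq_one_of_sq (by nth_rw 2 [h]; exact mul_inv_cancel ψ))

/-- The normaliser inverts `P`, so an orbit is a character and its inverse. -/
theorem Setup.sameOrbit_two {ψ φ : ↥(P : Subgroup G) →* ℂˣ} (hψ : ψ ≠ 1) :
    SameOrbit P ψ φ ↔ φ = ψ ∨ φ = ψ⁻¹ := by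
  set N := Subgroup.normalizer ((P : Subgroup G) : Set G) with hNdef
  haveI : Fact (Nat.Prime 2) := ⟨Nat.prime_two⟩
  obtain ⟨n, hn⟩ := exists_prime_orderOf_dvd_card' (G := ↥N) 2 (by rw [S.cardN]; exact dvd_mul_left _ _)
  have hn2 : n * n = 1 := by rw [← sq, ← hn]; exact pow_orderOf_eq_one n
  have hp2 : p ≠ 2 := by have := S.p5; omega
  have hninv : ∀ w : ↥(P : Subgroup G), (n : G)⁻¹ * (w : G) * n = ((w⁻¹ : ↥(P : Subgroup G)) : G) := by
    intro w
    have hnG : (n : G) * n = 1 := congrArg Subtype.val hn2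
    have hinv : (n : G)⁻¹ = n := inv_eq_of_mul_eq_one_right hnG
    rw [hinv]
    have hmem : (n : G) * w * n ∈ (P : Subgroup G) := by
      have := inv_conj_mem P n w
      rwa [hinv] at this
    set u := (n : G) * w * n * w with hu
    have huP : u ∈ (P : Subgroup G) := mul_mem hmem w.2
    have hcomm : (n : G) * w * n * w = w * ((n : G) * w * n) :=
      congrArg Subtype.val (mul_comm (⟨_, hmem⟩ : ↥(P : Subgroup G)) w)
    have hu1 : u = 1 := by
      by_contra hne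
      have hc : (n : G) ∈ Subgroup.centralizer ({u} : Set G) := by
        rw [Subgroup.mem_centralizer_singleton_iff]
        calc (n : G) * u = ((n : G) * n) * (w : G) * n * w := by rw [hu]; group
          _ = (w : G) * n * w := by rw [hnG, one_mul]
          _ = (w : G) * ((n : G) * w * n) * n := by
            rw [show (w : G) * ((n : G) * w * n) * n = (w : G) * n * w * ((n : G) * n) by group, hnG, mul_one]
          _ = u * n := by rw [hu, hcomm]
      rw [S.centralizer_eq huP hne, S.centralizer_self] at hc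
      have h1 : (n : G) ≠ 1 := fun h => by
        rw [show n = 1 from Subtype.ext h, orderOf_one] at hn
        omega
      have := S.orderOf_eq hc h1
      rw [Subgroup.orderOf_coe, hn] at this
      omega
    calc (n : G) * w * n = (n : G) * w * n * w * (w : G)⁻¹ := by group
      _ = _ := by rw [← hu, hu1, one_mul, Subgroup.coe_inv]
  have hinvmem : ψ⁻¹ ∈ AbelianPrincipal.orbit P ψ := by
    rw [AbelianPrincipal.mem_orbit, sameOrbit_iff]
    refine ⟨n, MonoidHom.ext fun w => ?_⟩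
    rw [twist_apply, MonoidHom.inv_apply, ← map_inv]
    exact congrArg ψ (Subtype.ext (hninv w))
  have hne : ψ ≠ ψ⁻¹ := S.ne_inv hψ
  have hsub : ({ψ, ψ⁻¹} : Finset (↥(P : Subgroup G) →* ℂˣ)) = AbelianPrincipal.orbit P ψ := by
    refine eq_of_subset_of_card_le (insert_subset ((AbelianPrincipal.mem_orbit P).2 ((sameOrbit_equivalence P).refl ψ))
      (singleton_subset_iff.2 hinvmem)) ?_
    rw [S.hyp.card_orbit hψ, card_pair hne]
  rw [← AbelianPrincipal.mem_orbit P, ← hsub, mem_insert, mem_singleton]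

include hM D F in
/-- The values of an exceptional character at squares. -/
theorem Setup.sq_eq {χ : IrrCharacter G} (hχ1 : χ ≠ trivIrr G) (hX : D.X = {trivIrr G, χ})
    (hv : D.v χ = -1) (hdχ : charDegree (χ : G → ℂ) + 1 = p) (hd : D.d = 0) (hs : D.s = 1)
    (hY : ∀ η ∈ D.Y, charDegree (η : G → ℂ) + 2 = p ∧
      multP η (1 : ↥(P : Subgroup G) →* ℂˣ) = 1) {θ₀ : IrrCharacter G} (hθ₀ : θ₀ ∈ D.Y) {g : G}
    (hg : ¬ p ∣ orderOf g) :
    (θ₀ : G → ℂ) g ^ 2 - (θ₀ : G → ℂ) (g * g) = 2 * ((t : ℂ) - 1) * (θ₀ : G → ℂ) g := by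
  have hp5 := S.p5
  have ht2 := S.t2
  obtain ⟨ψ₀, hψ₀⟩ : ∃ ψ : ↥(P : Subgroup G) →* ℂˣ, ψ ≠ 1 := by
    obtain ⟨i, -, -⟩ := S.hyp.exists_not_sameOrbit; exact ⟨i.1, i.2⟩
  have hψ2 : ψ₀ * ψ₀ ≠ 1 := fun h => hψ₀ (S.hom_eq_one_of_sq h)
  set η := D.ζ ψ₀ with hη
  set η2 := D.ζ (ψ₀ * ψ₀) with hη2
  have hηY : η ∈ D.Y := D.mem_Y.2 ⟨_, hψ₀, rfl⟩
  have hη2Y : η2 ∈ D.Y := D.mem_Y.2 ⟨_, hψ2, rfl⟩
  -- multiplicities in the exceptional characters
  have hmζ : ∀ ψ φ : ↥(P : Subgroup G) →* ℂˣ, ψ ≠ 1 → φ ≠ 1 →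
      multP (D.ζ ψ) φ = if φ = ψ ∨ φ = ψ⁻¹ then 0 else 1 := by
    intro ψ φ hψ hφ
    have h := S.multP_ζ D hψ hφ
    rw [hd, hs, (hY _ (D.mem_Y.2 ⟨ψ, hψ, rfl⟩)).2] at h
    by_cases hc : φ = ψ ∨ φ = ψ⁻¹
    · rw [if_pos ((S.sameOrbit_two hψ).2 hc)] at h
      rw [if_pos hc]; omega
    · rw [if_neg fun h' => hc ((S.sameOrbit_two hψ).1 h')] at h
      rw [if_neg hc]; omega
  have hval : ∀ ψ : ↥(P : Subgroup G) →* ℂˣ, ψ ≠ 1 → ∀ w : ↥(P : Subgroup G), w ≠ 1 →
      (D.ζ ψ : G → ℂ) w = -((ψ w : ℂ) + ((ψ w : ℂ))⁻¹) := by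
    intro ψ hψ w hw
    have hψi : ψ⁻¹ ≠ 1 := fun h => hψ (by rw [← inv_inv ψ, h]; ext; simp)
    have hne : ψ ≠ ψ⁻¹ := S.ne_inv hψ
    have hall : ∀ φ : ↥(P : Subgroup G) →* ℂˣ, (multP (D.ζ ψ) φ : ℂ) * (φ w : ℂ) =
        (φ w : ℂ) - ((if φ = ψ then (φ w : ℂ) else 0) + (if φ = ψ⁻¹ then (φ w : ℂ) else 0)) := by
      intro φ
      by_cases h1 : φ = 1
      · subst h1
        rw [(hY _ (D.mem_Y.2 ⟨ψ, hψ, rfl⟩)).2, if_neg (Ne.symm hψ), if_neg (Ne.symm hψi)]
        simp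
      · rw [hmζ ψ φ hψ h1]
        by_cases h2 : φ = ψ
        · subst h2; rw [if_pos (Or.inl rfl), if_pos rfl, if_neg hne]; simp
        · by_cases h3 : φ = ψ⁻¹
          · rw [if_pos (Or.inr h3), if_neg h2, if_pos h3]; simp
          · rw [if_neg (not_or.2 ⟨h2, h3⟩), if_neg h2, if_neg h3]; simp
    rw [← sum_multP_apply (P := P) (D.ζ ψ) w, sum_congr rfl fun φ _ => hall φ, sum_sub_distrib,
      Brauer.sum_homUnits_apply, if_neg hw, sum_add_distrib, sum_ite_eq', sum_ite_eq',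
      if_pos (mem_univ _), if_pos (mem_univ _), MonoidHom.inv_apply, Units.val_inv_eq_inv_val]
    ring
  -- the sum of the exceptional values
  have hsumY : ∀ w : ↥(P : Subgroup G), w ≠ 1 → ∑ θ ∈ D.Y, (θ : G → ℂ) w = 1 := by
    intro w hw
    have hw' : (w : G) ≠ 1 := fun h => hw (Subtype.ext h)
    have h := CharTheory.sum_mul_conj (G := G) (w : G) 1
    rw [if_neg (fun hc : IsConj (w : G) 1 => hw' (isConj_one_left.1 hc)),
      ← sum_add_sum_compl (blockFinset (principalBlock M G)), ← outSet, D.sum_block,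
      sum_eq_zero (s := outSet M G) fun θ hθ => by
        rw [S.outside_vanish hM D F hθ w.2 hw', zero_mul],
      hX, sum_pair (Ne.symm hχ1), trivIrr_apply, trivIrr_apply,
      sum_congr (rfl : D.Y = _) (f := fun θ : IrrCharacter G => (θ : G → ℂ) w * conj ((θ : G → ℂ) 1)) (g := fun θ : IrrCharacter G => (θ : G → ℂ) w * ((p : ℂ) - 2)) fun θ hθ => by
        rw [(charDegree_spec θ).1, Complex.conj_natCast]
        congr 1
        rw [← (hY θ hθ).1]; push_cast; ring,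
      ← sum_mul, (charDegree_spec χ).1, Complex.conj_natCast,
      S.apply_P hM D (χ := χ) (by rw [hX]; exact mem_insert_of_mem (mem_singleton_self χ)) w.2 hw', hv,
      map_one] at h
    have hc : (p : ℂ) = charDegree (χ : G → ℂ) + 1 := by exact_mod_cast hdχ.symm
    have h2 : ((p : ℂ) - 2) ≠ 0 := sub_ne_zero.2 (by exact_mod_cast (by omega : p ≠ 2))
    apply mul_right_cancel₀ h2
    push_cast at h
    linear_combination h - hc
  -- the exterior square
  set Λ : G → ℂ := fun x => ((η : G → ℂ) x ^ 2 - (η : G → ℂ) (x * x)) / 2 with hΛ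
  obtain ⟨n, hn⟩ := IsCharacter.exists_sum
    (ExteriorSquare.isCharacter_extSquare (IsIrrCharacter.isCharacter η.2))
  have hnapp : ∀ x, Λ x = ∑ θ, (n θ : ℂ) * (θ : G → ℂ) x := fun x => by
    have := congrFun hn x
    simp only [Finset.sum_apply, Pi.smul_apply, smul_eq_mul] at this
    exact this
  have hpt : (p : ℂ) = 2 * t + 1 := by exact_mod_cast S.p_eq
  have hdegY : ∀ θ ∈ D.Y, (θ : G → ℂ) 1 = (p : ℂ) - 2 := fun θ hθ => by
    rw [(charDegree_spec θ).1, ← (hY θ hθ).1]; push_cast; ring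
  have hP : ∀ w : ↥(P : Subgroup G), Λ w = ∑ θ ∈ D.Y.erase η2, (θ : G → ℂ) w := by
    intro w
    by_cases hw : w = 1
    · subst hw
      rw [hΛ]
      simp only [Subgroup.coe_one, mul_one]
      rw [hdegY η hηY, sum_congr rfl fun θ hθ => hdegY θ (mem_of_mem_erase hθ), sum_const,
        card_erase_of_mem hη2Y, S.card_Y D, nsmul_eq_mul, Nat.cast_sub (by omega : 1 ≤ t), hpt]
      push_cast
      ring
    · have hw2 : w * w ≠ 1 := fun h => by
        have h2 : orderOf w ∣ 2 := orderOf_dvd_of_pow_eq_one (by rw [sq, h])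
        rw [← Subgroup.orderOf_coe, S.orderOf_eq w.2 fun e => hw (Subtype.ext e)] at h2
        have := Nat.le_of_dvd two_pos h2
        omega
      rw [sum_erase_eq_sub hη2Y, hsumY w hw, hη2, hval _ hψ2 w hw]
      show ((η : G → ℂ) (w : G) ^ 2 - (η : G → ℂ) ((w : G) * w)) / 2 = _
      rw [← Subgroup.coe_mul, hη, hval _ hψ₀ w hw, hval _ hψ₀ _ hw2, map_mul, MonoidHom.mul_apply,
        Units.val_mul]
      have h0 : (ψ₀ w : ℂ) ≠ 0 := Units.ne_zero _
      field_simp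
      ring
  -- comparing multiplicities
  have hmult : ∀ φ : ↥(P : Subgroup G) →* ℂˣ,
      ∑ θ, n θ * multP θ φ = ∑ θ ∈ D.Y.erase η2, multP θ φ := by
    intro φ
    apply Nat.cast_injective (R := ℂ)
    push_cast
    simp only [coe_multP, mul_sum]
    rw [sum_comm, sum_comm (s := D.Y.erase η2)]
    refine sum_congr rfl fun w _ => ?_
    rw [← mul_sum, ← sum_mul, ← hP, hnapp, sum_mul, mul_sum]
    exact sum_congr rfl fun θ _ => by ring
  have hLt : multP (trivIrr G) (1 : ↥(P : Subgroup G) →* ℂˣ) = 1 ∧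
      ∀ φ : ↥(P : Subgroup G) →* ℂˣ, φ ≠ 1 → multP (trivIrr G) φ = 0 := by
    have h1 : multP (trivIrr G) (1 : ↥(P : Subgroup G) →* ℂˣ) = 1 := by
      apply Nat.cast_injective (R := ℂ)
      rw [coe_multP]
      simp only [trivIrr_apply, MonoidHom.one_apply, Units.val_one, mul_one, sum_const, card_univ,
        nsmul_eq_mul, ← Nat.card_eq_fintype_card, Nat.cast_one]
      exact inv_mul_cancel₀ (Nat.cast_ne_zero.2 Nat.card_pos.ne')
    refine ⟨h1, fun φ hφ => ?_⟩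
    have h := S.multP_eq D (D.trivIrr_mem_X S.hyp) hφ
    rw [h1, D.v_trivIrr S.hyp] at h
    omega
  have hχX : χ ∈ D.X := by rw [hX]; exact mem_insert_of_mem (mem_singleton_self χ)
  have hLχ : multP χ (1 : ↥(P : Subgroup G) →* ℂˣ) = 0 ∧
      ∀ φ : ↥(P : Subgroup G) →* ℂˣ, φ ≠ 1 → multP χ φ = 1 := by
    obtain ⟨b, hb, hbL, hbd⟩ := S.exists_b hM D hχX hχ1
    rw [hv] at hbL hbd
    have hb1 : (b : ℤ) * p = 1 * p := by omega
    have hb1' : (b : ℤ) = 1 := mul_right_cancel₀ (Int.natCast_ne_zero.2 hp.out.ne_zero) hb1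
    refine ⟨by omega, fun φ hφ => ?_⟩
    have h := S.multP_eq D hχX hφ
    rw [hv] at h
    omega
  have hout : ∀ θ ∈ outSet M G, ∀ φ : ↥(P : Subgroup G) →* ℂˣ,
      multP θ φ = multP θ (1 : ↥(P : Subgroup G) →* ℂˣ) ∧ multP θ φ ≠ 0 := by
    intro θ hθ
    have h1 : ∀ φ : ↥(P : Subgroup G) →* ℂˣ,
        (multP θ φ : ℂ) = (p : ℂ)⁻¹ * charDegree (θ : G → ℂ) := fun φ => by
      rw [coe_multP, S.cardP, sum_eq_single (1 : ↥(P : Subgroup G)) (fun w _ hw => by
        rw [S.outside_vanish hM D F hθ w.2 fun e => hw (Subtype.ext e), zero_mul]) (by simp),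
        Subgroup.coe_one, inv_one, map_one, Units.val_one, mul_one, (charDegree_spec θ).1]
    refine fun φ => ⟨Nat.cast_injective (R := ℂ) ((h1 φ).trans (h1 1).symm), fun h0 => ?_⟩
    have h2 := h1 φ
    rw [h0, Nat.cast_zero] at h2
    exact mul_ne_zero (inv_ne_zero (Nat.cast_ne_zero.2 hp.out.ne_zero))
      (Nat.cast_ne_zero.2 (charDegree_spec θ).2.1.ne') h2.symm
  set W := ∑ θ ∈ outSet M G, n θ * multP θ (1 : ↥(P : Subgroup G) →* ℂˣ) with hW
  set N := ∑ θ ∈ D.Y, n θ with hN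
  have hsplit : ∀ φ : ↥(P : Subgroup G) →* ℂˣ, n (trivIrr G) * multP (trivIrr G) φ + n χ * multP χ φ +
      ∑ θ ∈ D.Y, n θ * multP θ φ + W = ∑ θ ∈ D.Y.erase η2, multP θ φ := fun φ => by
    rw [← hmult φ, ← sum_add_sum_compl (blockFinset (principalBlock M G)), ← outSet, D.sum_block, hX,
      sum_pair (Ne.symm hχ1), hW, sum_congr (rfl : outSet M G = _)
        (f := fun θ => n θ * multP θ φ) fun θ hθ => by rw [(hout θ hθ φ).1]]
  have h1eq : n (trivIrr G) + N + W = t - 1 := by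
    have h := hsplit 1
    rw [hLt.1, hLχ.1, mul_one, mul_zero, add_zero,
      sum_congr (rfl : D.Y = _) (f := fun θ => n θ * multP θ (1 : ↥(P : Subgroup G) →* ℂˣ)) (g := n)
        fun θ hθ => by rw [(hY θ hθ).2, mul_one],
      sum_congr rfl (g := fun _ => 1) fun θ hθ => (hY θ (mem_of_mem_erase hθ)).2, sum_const,
      smul_eq_mul, mul_one, card_erase_of_mem hη2Y, S.card_Y D] at h
    exact h
  have hind : ∀ ψ φ : ↥(P : Subgroup G) →* ℂˣ, ψ ≠ 1 → φ ≠ 1 →
      multP (D.ζ φ) ψ + (if D.ζ φ = D.ζ ψ then 1 else 0) = 1 := by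
    intro ψ φ hψ hφ
    rw [hmζ φ ψ hφ hψ]
    by_cases hc : ψ = φ ∨ ψ = φ⁻¹
    · rw [if_pos hc, if_pos ((D.hζ φ ψ hφ hψ).2 ((S.sameOrbit_two hφ).2 hc))]
    · rw [if_neg hc, if_neg fun e => hc ((S.sameOrbit_two hφ).1 ((D.hζ φ ψ hφ hψ).1 e))]
  have hψeq : ∀ θ₀ ∈ D.Y, n χ + N + W + (if θ₀ ∈ D.Y.erase η2 then 1 else 0) = t - 1 + n θ₀ := by
    intro θ₀ hθ₀
    obtain ⟨ψ, hψ, rfl⟩ := D.mem_Y.1 hθ₀
    have h := hsplit ψ
    rw [hLt.2 ψ hψ, hLχ.2 ψ hψ, mul_zero, zero_add, mul_one] at h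
    have hA : ∑ θ ∈ D.Y, n θ * multP θ ψ + n (D.ζ ψ) = N := by
      rw [hN, ← sum_ite_eq' D.Y (D.ζ ψ) n |>.trans (if_pos hθ₀), ← sum_add_distrib]
      refine sum_congr rfl fun θ hθ => ?_
      obtain ⟨φ, hφ, rfl⟩ := D.mem_Y.1 hθ
      have := hind ψ φ hψ hφ
      split_ifs at this ⊢ with hc
      · rw [show multP (D.ζ φ) ψ = 0 by omega]; simp
      · rw [show multP (D.ζ φ) ψ = 1 by omega]; simp
    have hB : ∑ θ ∈ D.Y.erase η2, multP θ ψ + (if D.ζ ψ ∈ D.Y.erase η2 then 1 else 0) = t - 1 := by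
      rw [← sum_ite_eq' (D.Y.erase η2) (D.ζ ψ) (fun _ => 1), ← sum_add_distrib,
        sum_congr rfl (g := fun _ => 1) fun θ hθ => by
          obtain ⟨φ, hφ, rfl⟩ := D.mem_Y.1 (mem_of_mem_erase hθ)
          exact hind ψ φ hψ hφ, sum_const, smul_eq_mul, mul_one, card_erase_of_mem hη2Y, S.card_Y D]
    omega
  have hzero : n (trivIrr G) = 0 ∧ n χ = 0 ∧ W = 0 ∧
      ∀ θ ∈ D.Y, n θ = if θ ∈ D.Y.erase η2 then 1 else 0 := by
    have hy := hψeq η2 hη2Y
    rw [if_neg (notMem_erase _ _), add_zero] at hy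
    have hrow : ∀ θ ∈ D.Y, n θ = (if θ ∈ D.Y.erase η2 then 1 else 0) + n η2 := fun θ hθ => by
      have := hψeq θ hθ
      omega
    have hNeq : N = (t - 1) + t * n η2 := by
      rw [hN, sum_congr rfl hrow, sum_add_distrib, sum_ite_mem, inter_eq_right.2 (erase_subset _ _),
        sum_const, sum_const, smul_eq_mul, smul_eq_mul, card_erase_of_mem hη2Y, S.card_Y D, mul_one]
    have h0 : t * n η2 = 0 := by omega
    have hy0 : n η2 = 0 := (Nat.mul_eq_zero.1 h0).resolve_left (by omega)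
    refine ⟨by omega, by omega, by omega, fun θ hθ => ?_⟩
    rw [hrow θ hθ, hy0, add_zero]
  obtain ⟨hn1, hnχ, hW0, hnY⟩ := hzero
  have hΛg : Λ g = ((t : ℂ) - 1) * (η : G → ℂ) g := by
    rw [hnapp, ← sum_add_sum_compl (blockFinset (principalBlock M G)), ← outSet, D.sum_block, hX,
      sum_pair (Ne.symm hχ1), hn1, hnχ,
      sum_eq_zero (s := outSet M G) fun θ hθ => by
        have h := (Nat.mul_eq_zero.1 (sum_eq_zero_iff.1 hW0 θ hθ)).resolve_right (hout θ hθ 1).2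
        rw [h, Nat.cast_zero, zero_mul],
      sum_congr (rfl : D.Y = _) (f := fun θ => (n θ : ℂ) * (θ : G → ℂ) g)
        (g := fun θ => if θ ∈ D.Y.erase η2 then (η : G → ℂ) g else 0) fun θ hθ => by
        rw [hnY θ hθ, D.apply_Y_eq hM hθ hηY hg]; split_ifs <;> simp,
      sum_ite_mem, inter_eq_right.2 (erase_subset _ _), sum_const, card_erase_of_mem hη2Y, S.card_Y D,
      nsmul_eq_mul, Nat.cast_sub (by omega : 1 ≤ t)]
    simp
  have hgg : ¬ p ∣ orderOf (g * g) := fun h => hg (h.trans (by rw [← sq]; exact orderOf_pow_dvd 2))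
  simp only [hΛ] at hΛg
  rw [D.apply_Y_eq hM hθ₀ hηY hg, D.apply_Y_eq hM hθ₀ hηY hgg]
  linear_combination 2 * hΛg

end CfsgLib.SmallGroups.BrauerReynolds
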