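import Cfsg.Agent.Lib.SmallGroups.BrauerReynoldsTwo
import Cfsg.Agent.Lib.ZerosCodegree.PowerTwist
import Cfsg.Agent.Lib.CharDegreesTheory.BlockDegrees
import Mathlib.GroupTheory.Sylow
import Mathlib.Data.ZMod.Units

/-!
# The order bound for self-centralising `P` of order `p`, `|N(P)| = 2 p`, with a character of degree `p - 2`

The exceptional values vanish on elements of odd order prime to `p`, are `-1` on involutions, and
there are no elements of order `4` unless `p = 5`. Restriction to the Sylow subgroups bounds `|G|`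
by `p ^ 3`.
-/

set_option autoImplicit false
set_option linter.unusedSectionVars false

namespace CfsgLib.SmallGroups.BrauerReynolds

open Cfsg CfsgLib.CharTheory CfsgLib.Blocks CfsgLib.BrauerCharacters
  CfsgLib.BrauerCharacters.AbelianPrincipal Finset
open scoped ComplexConjugate IsMulCommutative Classical

universe u

variable {G : Type u} [Group G] [Fintype G] [IsSimpleGroup G] [Fintype (IrrCharacter G)]
  {p : ℕ} [hp : Fact p.Prime]
variable {P : Sylow p G} [IsMulCommutative P] {r t : ℕ} (S : Setup P 2 1 r t)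
variable {M : Ideal AlgInt} [M.IsPrime] (hM : IsPModular p M) (D : Data M P 2)
variable {E : Subgroup G} [IsMulCommutative ↥E] (F : Frame P E 2)

omit [IsSimpleGroup G] [Fintype (IrrCharacter G)] hp [IsMulCommutative P] in
/-- The sum of a character over a subgroup is a multiple of its order. -/
theorem exists_sum_eq_card_mul {χ : G → ℂ} (h : IsCharacter G χ) (H : Subgroup G) :
    ∃ m : ℕ, ∑ w : ↥H, χ w = (Nat.card ↥H : ℂ) * m := by
  obtain ⟨n, ρ, rfl⟩ := h
  have hc : IsCharacter ↥H (fun w : ↥H => ρ.character w) := ⟨n, ρ.comp H.subtype, rfl⟩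
  obtain ⟨m, hm⟩ := IsCharacter.exists_classInner_eq_nat hc (trivIrr ↥H)
  refine ⟨m, ?_⟩
  rw [classInner] at hm
  simp only [trivIrr_apply, map_one, mul_one] at hm
  rw [← hm, ← mul_assoc, mul_inv_cancel₀ (Nat.cast_ne_zero.2 Nat.card_pos.ne'), one_mul]

omit [IsSimpleGroup G] [Fintype (IrrCharacter G)] hp [IsMulCommutative P] in
/-- A divisibility test by Sylow subgroups. -/
theorem card_dvd_of_sylow {m : ℕ} (h : ∀ (q : ℕ) [Fact q.Prime] (Q : Sylow q G),
    Nat.card ↥(Q : Subgroup G) ∣ m) : Nat.card G ∣ m := by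
  refine Nat.dvd_iff_prime_pow_dvd_dvd m (Nat.card G) |>.2 fun q k hq hk => ?_
  haveI : Fact q.Prime := ⟨hq⟩
  obtain ⟨Q⟩ := (inferInstance : Nonempty (Sylow q G))
  exact (Q.pow_dvd_card_of_pow_dvd_card hk).trans (h q Q)

include S

/-- Squaring is injective on the characters of `P`. -/
theorem Setup.hom_sq_inj {ψ φ : ↥(P : Subgroup G) →* ℂˣ} (h : φ * φ = ψ * ψ) : φ = ψ := by
  have h1 : φ * ψ⁻¹ = 1 := S.hom_eq_one_of_sq (MonoidHom.ext fun w => by
    have h2 : φ w * φ w = ψ w * ψ w := DFunLike.congr_fun h w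
    show φ w * (ψ w)⁻¹ * (φ w * (ψ w)⁻¹) = 1
    rw [mul_mul_mul_comm, h2, ← mul_inv, mul_inv_cancel])
  exact MonoidHom.ext fun w => mul_inv_eq_one.1 (DFunLike.congr_fun h1 w)

include hM F D in
/-- The data may be chosen with vanishing shift. -/
theorem Setup.exists_data_zero : ∃ D' : Data M P 2, D'.d = 0 := by
  obtain ⟨-, hQ, -⟩ := S.exc hM D F
  by_cases hd : D.d = 0
  · exact ⟨D, hd⟩
  have h2 : (t : ℤ) * D.d + 2 * D.s = 0 :=
    (mul_eq_zero.1 (show D.d * ((t : ℤ) * D.d + 2 * D.s) = 0 by linear_combination hQ)).resolve_left hd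
  have ht : (2 : ℤ) ≤ t := by exact_mod_cast S.t2
  have hds : D.d = -D.s ∧ t = 2 := by
    rcases D.hs with hs | hs <;> rw [hs] at h2 ⊢ <;>
      rcases lt_or_gt_of_ne hd with h | h <;>
      first
        | (exfalso; nlinarith)
        | (have h3 : (t : ℤ) ≤ 2 := by nlinarith
           have h4 : t = 2 := by omega
           refine ⟨?_, h4⟩
           subst h4
           push_cast at h2
           omega)
  obtain ⟨hds, ht2⟩ := hds
  have hp5 : p = 5 := by have := S.p_eq; rw [ht2] at this; omega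
  have hsq : ∀ ψ : ↥(P : Subgroup G) →* ℂˣ, ψ ≠ 1 → ψ * ψ ≠ 1 :=
    fun ψ h h' => h (S.hom_eq_one_of_sq h')
  have hne : ∀ ψ, ψ ≠ 1 → D.ζ ψ ≠ D.ζ (ψ * ψ) := by
    intro ψ hψ h
    rcases (S.sameOrbit_two hψ).1 ((D.hζ ψ _ hψ (hsq ψ hψ)).1 h) with h1 | h1
    · exact hψ (MonoidHom.ext fun w => mul_eq_left.1 (DFunLike.congr_fun h1 w))
    · have h3 : ψ * ψ * ψ = 1 := MonoidHom.ext fun w => by
        show (ψ * ψ) w * ψ w = 1
        rw [h1]
        exact inv_mul_cancel (ψ w)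
      refine hψ (MonoidHom.ext fun w => ?_)
      have h4 : ψ w ^ 3 = 1 := by
        rw [pow_succ, sq]; exact DFunLike.congr_fun h3 w
      have h5 : ψ w ^ p = 1 := by
        have hw : w ^ Nat.card ↥(P : Subgroup G) = 1 := pow_card_eq_one'
        rw [S.cardP] at hw
        rw [← map_pow, hw, map_one]
      have hg : Nat.gcd 3 p = 1 := by rw [hp5]; rfl
      rw [MonoidHom.one_apply, ← pow_one (ψ w), ← hg, pow_gcd_eq_one]
      exact ⟨h4, h5⟩
  have hY2 : D.Y.card = 2 := (S.card_Y D).trans ht2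
  have hpair : ∀ ψ, ψ ≠ 1 → D.Y = {D.ζ ψ, D.ζ (ψ * ψ)} := fun ψ hψ =>
    (eq_of_subset_of_card_le (insert_subset (D.mem_Y.2 ⟨ψ, hψ, rfl⟩)
      (singleton_subset_iff.2 (D.mem_Y.2 ⟨_, hsq ψ hψ, rfl⟩))) (by rw [hY2, card_pair (hne ψ hψ)])).symm
  refine ⟨{
    v := fun χ => if χ ∈ D.Y then 0 else D.v χ
    s := -D.s
    d := 0
    ζ := fun ψ => D.ζ (ψ * ψ)
    hs := by rcases D.hs with h | h <;> simp [h]
    mem := fun ψ h => D.mem _ (hsq ψ h)
    hu := fun ψ hψ χ hχ => ?_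
    hζ := fun ψ φ hψ hφ => ?_
    hvζ := fun ψ hψ => if_pos (D.mem_Y.2 ⟨_, hsq ψ hψ, rfl⟩)
    hnorm := ?_ }, rfl⟩
  · rw [D.hu ψ hψ χ hχ]
    by_cases hY : χ ∈ D.Y
    · rw [if_pos hY]
      obtain ⟨φ, hφ, rfl⟩ := D.mem_Y.1 hY
      rw [D.hvζ φ hφ, hds]
      have hmem := hY
      rw [hpair ψ hψ, mem_insert, mem_singleton] at hmem
      rcases hmem with h | h <;> rw [h]
      · rw [if_pos rfl, if_neg (hne ψ hψ)]; ring
      · rw [if_neg (hne ψ hψ).symm, if_pos rfl]; ring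
    · rw [if_neg hY, if_neg fun h : χ = D.ζ ψ => hY (h ▸ D.mem_Y.2 ⟨ψ, hψ, rfl⟩),
        if_neg fun h : χ = D.ζ (ψ * ψ) => hY (h ▸ D.mem_Y.2 ⟨_, hsq ψ hψ, rfl⟩)]
  · rw [D.hζ _ _ (hsq ψ hψ) (hsq φ hφ), S.sameOrbit_two (hsq ψ hψ), S.sameOrbit_two hψ]
    refine ⟨fun h => ?_, fun h => ?_⟩
    · rcases h with h | h
      · exact Or.inl (S.hom_sq_inj h)
      · refine Or.inr (S.hom_sq_inj (h.trans (MonoidHom.ext fun w => ?_)))
        exact mul_inv (ψ w) (ψ w)
    · rcases h with rfl | rfl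
      · exact Or.inl rfl
      · exact Or.inr (MonoidHom.ext fun w => (mul_inv (ψ w) (ψ w)).symm)
  · rw [D.sum_block, sum_congr rfl (g := fun χ => D.v χ ^ 2) fun χ hχ => by
        rw [if_neg fun hY => (mem_sdiff.1 hχ).2 hY],
      sum_eq_zero (s := D.Y) fun χ hχ => by rw [if_pos hχ]; simp]
    have := S.norm_eq D
    push_cast at this ⊢
    linarith

include hM F in
/-- The principal block in the presence of a character of degree `p - 2`. -/
theorem Setup.block_two (hd : D.d = 0)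
    (h2 : ∃ θ : IrrCharacter G, charDegree (θ : G → ℂ) + 2 = p) :
    ∃ χ, χ ≠ trivIrr G ∧ D.X = {trivIrr G, χ} ∧ D.v χ = -1 ∧ charDegree (χ : G → ℂ) + 1 = p ∧
      D.s = 1 ∧ (∀ η ∈ D.Y, charDegree (η : G → ℂ) + 2 = p ∧
        multP η (1 : ↥(P : Subgroup G) →* ℂˣ) = 1) ∧
      ∀ θ : IrrCharacter G, charDegree (θ : G → ℂ) + 2 = p → θ ∈ D.Y := by
  obtain ⟨hv, -, -⟩ := S.exc hM D F
  have hp5 := S.p5
  have hnorm := S.norm_eq D
  rw [hd, sum_congr (rfl : D.X = _) (g := fun _ => (1 : ℤ)) fun χ hχ => by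
    rcases hv χ hχ with h | h <;> rw [h] <;> norm_num, sum_const, nsmul_one] at hnorm
  have hcX : D.X.card = 2 := by push_cast at hnorm; omega
  obtain ⟨χ, hχ⟩ : ∃ χ, D.X.erase (trivIrr G) = {χ} := card_eq_one.1 (by
    rw [card_erase_of_mem (D.trivIrr_mem_X S.hyp), hcX])
  have hχX : χ ∈ D.X ∧ χ ≠ trivIrr G := by
    have := (mem_singleton_self χ : χ ∈ ({χ} : Finset _))
    rw [← hχ, mem_erase] at this
    exact ⟨this.2, this.1⟩
  have hXeq : D.X = {trivIrr G, χ} := by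
    rw [← insert_erase (D.trivIrr_mem_X S.hyp), hχ]
  have hmem : ∀ θ : IrrCharacter G, charDegree (θ : G → ℂ) + 2 = p → θ ∈ D.Y := by
    intro θ hθ
    by_contra hY
    by_cases hX : θ ∈ D.X
    · by_cases h1 : θ = trivIrr G
      · rw [h1, charDegree_triv] at hθ; omega
      · obtain ⟨b, hb, -, hbd⟩ := S.exists_b hM D hX h1
        have hb1 : 1 * (p : ℤ) ≤ (b : ℤ) * p :=
          mul_le_mul_of_nonneg_right (by exact_mod_cast hb) (Nat.cast_nonneg _)
        rcases hv θ hX with h | h <;> rw [h] at hbd <;> omega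
    · have hout : θ ∈ outSet M G := mem_compl.2 fun hb => hX (mem_sdiff.2 ⟨hb, hY⟩)
      have h := coe_multP (P := P) θ (1 : ↥(P : Subgroup G) →* ℂˣ)
      rw [S.cardP, sum_eq_single (1 : ↥(P : Subgroup G)) (fun w _ hw => by
        rw [S.outside_vanish hM D F hout w.2 fun e => hw (Subtype.ext e), zero_mul]) (by simp),
        Subgroup.coe_one, inv_one, MonoidHom.one_apply, Units.val_one, mul_one,
        (charDegree_spec θ).1, eq_inv_mul_iff_mul_eq₀ (Nat.cast_ne_zero.2 hp.out.ne_zero)] at h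
      have h' : p ∣ charDegree (θ : G → ℂ) := ⟨_, (by exact_mod_cast h.symm)⟩
      have := Nat.le_of_dvd (by omega) h'
      omega
  obtain ⟨θ, hθ⟩ := h2
  have hθY := hmem θ hθ
  have hdegY : ∀ η ∈ D.Y, charDegree (η : G → ℂ) + 2 = p := fun η hη => by
    have h := D.apply_Y_eq hM hη hθY (g := 1) (by rw [orderOf_one]; exact hp.out.not_dvd_one)
    rw [(charDegree_spec _).1, (charDegree_spec _).1] at h
    rw [show charDegree (η : G → ℂ) = charDegree (θ : G → ℂ) by exact_mod_cast h, hθ]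
  have hY : ∀ η ∈ D.Y, (charDegree (η : G → ℂ) : ℤ) =
      (p : ℤ) * multP η (1 : ↥(P : Subgroup G) →* ℂˣ) - 2 * D.s := fun η hη => by
    obtain ⟨ψ, hψ, rfl⟩ := D.mem_Y.1 hη
    rw [S.degree_ζ D hψ, hd]
    push_cast
    ring
  have hL : ∀ η ∈ D.Y, multP η (1 : ↥(P : Subgroup G) →* ℂˣ) = 1 ∧ D.s = 1 := fun η hη => by
    have h := hY η hη
    have h' : (charDegree (η : G → ℂ) : ℤ) = p - 2 := by have := hdegY η hη; omega
    rw [h'] at h
    have hs : D.s = 1 := D.hs.resolve_right fun hs => by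
      rw [hs] at h
      have h4 : (p : ℤ) ∣ 4 := ⟨1 - multP η (1 : ↥(P : Subgroup G) →* ℂˣ), by linear_combination -h⟩
      have := Int.le_of_dvd (by norm_num) h4
      omega
    rw [hs] at h
    have h1 : (p : ℤ) * multP η (1 : ↥(P : Subgroup G) →* ℂˣ) = p * 1 := by linarith
    refine ⟨?_, hs⟩
    exact_mod_cast mul_left_cancel₀ (Int.natCast_ne_zero.2 hp.out.ne_zero) h1
  have hs := (hL θ hθY).2
  have heq := D.sum_X_mul hM hθY (g := 1) (by rw [orderOf_one]; exact hp.out.not_dvd_one)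
  rw [hd, hs, hXeq, sum_pair (Ne.symm hχX.2), D.v_trivIrr S.hyp, trivIrr_apply,
    (charDegree_spec θ).1, (charDegree_spec χ).1] at heq
  have heqZ : (charDegree (θ : G → ℂ) : ℤ) + (1 + D.v χ * charDegree (χ : G → ℂ)) = 0 := by
    apply Int.cast_injective (α := ℂ)
    push_cast at heq ⊢
    linear_combination heq
  have hvχ : D.v χ = -1 := (hv χ hχX.1).resolve_left fun h => by rw [h] at heqZ; omega
  rw [hvχ] at heqZ
  exact ⟨χ, hχX.2, hXeq, hvχ, by omega, hs, fun η hη => ⟨hdegY η hη, (hL η hη).1⟩, hmem⟩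

include hM D F in
/-- The values of a character of degree `p - 2`. -/
theorem Setup.values_two {θ : IrrCharacter G} (hθ : charDegree (θ : G → ℂ) + 2 = p) :
    (θ : G → ℂ) 1 = (p : ℂ) - 2 ∧
    (∀ x : G, ¬ p ∣ orderOf x →
      (θ : G → ℂ) x ^ 2 - (θ : G → ℂ) (x * x) = 2 * ((t : ℂ) - 1) * (θ : G → ℂ) x) ∧
    (∀ x : G, ¬ p ∣ orderOf x → ∀ k : ℕ, k.Coprime (orderOf x) →
      (θ : G → ℂ) (x ^ k) = (θ : G → ℂ) x) ∧
    (∀ x : G, x ≠ 1 → ¬ p ∣ orderOf x → ¬ 2 ∣ orderOf x → (θ : G → ℂ) x = 0) ∧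
    (∀ x : G, orderOf x = 2 → (θ : G → ℂ) x = -1) ∧
    (∀ x : G, orderOf x = 4 → t = 2 ∧ (θ : G → ℂ) x = 1) ∧
    ∀ x : G, orderOf x ≠ 8 := by
  obtain ⟨D, hd⟩ := S.exists_data_zero hM D F
  obtain ⟨χ, hχ1, hX, hv, hdχ, hs, hY, hmem⟩ := S.block_two hM D F hd ⟨θ, hθ⟩
  have hp5 := S.p5
  have hpt := S.p_eq
  have hθY := hmem θ hθ
  have hθ1 : θ ≠ trivIrr G := fun h => by rw [h, charDegree_triv] at hθ; omega
  have hdeg : (θ : G → ℂ) 1 = (p : ℂ) - 2 := by
    rw [(charDegree_spec θ).1, ← hθ]; push_cast; ring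
  have hptC : (p : ℂ) = 2 * t + 1 := by exact_mod_cast hpt
  -- values are unchanged by powers prime to the order
  have hpow : ∀ x : G, ¬ p ∣ orderOf x → ∀ k : ℕ, k.Coprime (orderOf x) →
      (θ : G → ℂ) (x ^ k) = (θ : G → ℂ) x := by
    intro x hx k hk
    haveI : NeZero (Nat.card G) := ⟨Nat.card_pos.ne'⟩
    obtain ⟨z, hz⟩ := ZMod.unitsMap_surjective (orderOf_dvd_natCard x) (ZMod.unitOfCoprime k hk)
    set k' := (z : ZMod (Nat.card G)).val with hk'
    have hcop : k'.Coprime (Nat.card G) := ZMod.val_coe_unit_coprime z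
    have hmod : k' ≡ k [MOD orderOf x] := by
      rw [← ZMod.natCast_eq_natCast_iff]
      have h := congrArg Units.val hz
      rw [ZMod.unitsMap_def, Units.coe_map, ZMod.coe_unitOfCoprime] at h
      rw [← h, hk', ← ZMod.cast_eq_val]
      rfl
    set θ' : IrrCharacter G :=
      ⟨_, CfsgLib.ZerosCodegree.isIrrCharacter_powTwist hcop θ.2⟩ with hθ'
    have hθ'Y : θ' ∈ D.Y := hmem θ' (by
      show charDegree (CfsgLib.ZerosCodegree.powTwist k' (θ : G → ℂ)) + 2 = p
      rw [CfsgLib.ZerosCodegree.charDegree_powTwist, hθ])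
    rw [← pow_eq_pow_iff_modEq.2 hmod]
    exact D.apply_Y_eq hM hθ'Y hθY hx
  have hsq : ∀ x : G, ¬ p ∣ orderOf x →
      (θ : G → ℂ) x ^ 2 - (θ : G → ℂ) (x * x) = 2 * ((t : ℂ) - 1) * (θ : G → ℂ) x :=
    fun x hx => S.sq_eq hM D F hχ1 hX hv hdχ hd hs hY hθY hx
  have hne : ∀ x : G, x ≠ 1 → (θ : G → ℂ) x ≠ (p : ℂ) - 2 := fun x hx h =>
    hx (eq_one_of_apply_eq hθ1 (h.trans hdeg.symm))
  -- odd order
  have hodd : ∀ x : G, x ≠ 1 → ¬ p ∣ orderOf x → ¬ 2 ∣ orderOf x → (θ : G → ℂ) x = 0 := by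
    intro x hx1 hx h2x
    have h := hsq x hx
    rw [← sq x, hpow x hx 2 (Nat.prime_two.coprime_iff_not_dvd.2 h2x)] at h
    rcases mul_eq_zero.1 (show (θ : G → ℂ) x * ((θ : G → ℂ) x - (2 * t - 1)) = 0 by
      linear_combination h) with h0 | h0
    · exact h0
    · exact absurd (show (θ : G → ℂ) x = (p : ℂ) - 2 by linear_combination h0 - hptC) (hne x hx1)
  -- involutions
  have hnp2 : ¬ p ∣ 2 := fun h => by have := Nat.le_of_dvd two_pos h; omega
  have hinv : ∀ x : G, orderOf x = 2 → (θ : G → ℂ) x = -1 := by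
    intro x hx
    have hx1 : x ≠ 1 := fun h => by rw [h, orderOf_one] at hx; omega
    have h := hsq x (hx ▸ hnp2)
    have hxx : x * x = 1 := by
      rw [← sq, ← orderOf_dvd_iff_pow_eq_one, hx]
    rw [hxx, hdeg] at h
    rcases mul_eq_zero.1 (show ((θ : G → ℂ) x + 1) * ((θ : G → ℂ) x - ((p : ℂ) - 2)) = 0 by
      rw [hptC] at h ⊢; linear_combination h) with h0 | h0
    · linear_combination h0
    · exact absurd (sub_eq_zero.1 h0) (hne x hx1)
  have hzsum : ∀ x : G, ∀ f : G → ℂ, ∑ w : ↥(Subgroup.zpowers x), f w =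
      ∑ i ∈ range (orderOf x), f (x ^ i) := by
    intro x f
    rw [← Fin.sum_univ_eq_sum_range (fun i => f (x ^ i))]
    exact (Fintype.sum_equiv (finEquivZPowers (isOfFinOrder_of_finite x)) _ _ fun i => rfl).symm
  have hnp4 : ¬ p ∣ 4 := fun h => by
    have := Nat.le_of_dvd (by norm_num) h
    omega
  -- order four
  have hfour : ∀ x : G, orderOf x = 4 → t = 2 ∧ (θ : G → ℂ) x = 1 := by
    intro x hx
    have hx2 : orderOf (x ^ 2) = 2 := by rw [orderOf_pow, hx]; rfl
    have h3 : (θ : G → ℂ) (x ^ 3) = (θ : G → ℂ) x := hpow x (hx ▸ hnp4) 3 (by rw [hx]; rfl)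
    obtain ⟨m, hm⟩ := exists_sum_eq_card_mul (IsIrrCharacter.isCharacter θ.2) (Subgroup.zpowers x)
    rw [hzsum x (θ : G → ℂ), Nat.card_zpowers, hx] at hm
    simp only [sum_range_succ, sum_range_zero, zero_add, pow_zero, pow_one, hdeg, hinv _ hx2, h3] at hm
    have hf : (θ : G → ℂ) x = ((2 * (m : ℤ) - t + 1 : ℤ) : ℂ) := by
      push_cast at hm ⊢
      linear_combination (1 / 2 : ℂ) * hm - (1 / 2 : ℂ) * hptC
    have h := hsq x (hx ▸ hnp4)
    rw [← sq x, hinv _ hx2, hf] at h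
    have hZ : (2 * (m : ℤ) - t + 1) * (2 * (t : ℤ) - 2 - (2 * (m : ℤ) - t + 1)) = 1 := by
      apply Int.cast_injective (α := ℂ)
      push_cast at h ⊢
      linear_combination -h
    rcases Int.mul_eq_one_iff_eq_one_or_neg_one.1 hZ with ⟨h1, h2⟩ | ⟨h1, h2⟩
    · refine ⟨by omega, ?_⟩
      rw [hf, h1, Int.cast_one]
    · have := S.t2; omega
  -- no order eight
  have height : ∀ x : G, orderOf x ≠ 8 := by
    intro x hx
    have hnp8 : ¬ p ∣ orderOf x := fun h => by
      rw [hx] at h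
      have h' := (Nat.prime_dvd_prime_iff_eq hp.out Nat.prime_two).1
        (hp.out.dvd_of_dvd_pow (show p ∣ 2 ^ 3 by exact h))
      omega
    have hx4 : orderOf (x ^ 2) = 4 := by rw [orderOf_pow, hx]; rfl
    have hx2 : orderOf (x ^ 4) = 2 := by rw [orderOf_pow, hx]; rfl
    obtain ⟨ht, hv4⟩ := hfour _ hx4
    have hodd8 : ∀ k : ℕ, k.Coprime 8 → (θ : G → ℂ) (x ^ k) = (θ : G → ℂ) x :=
      fun k hk => hpow x hnp8 k (hx ▸ hk)
    have hv6 : (θ : G → ℂ) (x ^ 6) = 1 := by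
      refine (hfour _ ?_).2
      rw [orderOf_pow, hx]; rfl
    obtain ⟨m, hm⟩ := exists_sum_eq_card_mul (IsIrrCharacter.isCharacter θ.2) (Subgroup.zpowers x)
    rw [hzsum x (θ : G → ℂ), Nat.card_zpowers, hx] at hm
    simp only [sum_range_succ, sum_range_zero, zero_add, pow_zero, pow_one, hdeg, hinv _ hx2, hv4, hv6,
      hodd8 3 rfl, hodd8 5 rfl, hodd8 7 rfl] at hm
    have hp' : p = 5 := by rw [ht] at hpt; omega
    rw [hp'] at hm
    have hf : (θ : G → ℂ) x = ((2 * (m : ℤ) - 1 : ℤ) : ℂ) := by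
      push_cast at hm ⊢
      linear_combination (1 / 4 : ℂ) * hm
    have h := hsq x hnp8
    rw [← sq x, hv4, hf, ht] at h
    have hZ : (2 * (m : ℤ) - 1) ^ 2 - 1 = 2 * (2 * m - 1) := by
      apply Int.cast_injective (α := ℂ)
      push_cast at h ⊢
      linear_combination h
    have h4 : (4 : ℤ) * ((m : ℤ) * m - 2 * m) + 2 = 0 := by linear_combination hZ
    omega
  exact ⟨hdeg, hsq, hpow, hodd, hinv, hfour, height⟩

include hM D F in
/-- The bound. -/
theorem Setup.card_lt_cube (h2 : ∃ θ : IrrCharacter G, charDegree (θ : G → ℂ) + 2 = p) :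
    Nat.card G < p ^ 3 := by
  obtain ⟨θ, hθ⟩ := h2
  obtain ⟨hdeg, -, -, hodd, hinv, hfour, height⟩ := S.values_two hM D F hθ
  have hp5 := S.p5
  have hpt := S.p_eq
  have hptC : (p : ℂ) = 2 * t + 1 := by exact_mod_cast hpt
  -- the Sylow subgroups
  have hbound : Nat.card G ∣ p * (p - 2) * (if t = 2 then 8 else p - 1) := by
    refine card_dvd_of_sylow fun q hq Q => ?_
    haveI := hq
    rcases eq_or_ne q p with hqp | hqp
    · subst hqp
      rw [Sylow.card_eq_multiplicity Q, ← Sylow.card_eq_multiplicity P, S.cardP]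
      exact Dvd.dvd.mul_right (dvd_mul_right _ _) _
    have hord : ∀ w : ↥(Q : Subgroup G), ∃ j, orderOf (w : G) = q ^ j := fun w => by
      obtain ⟨j, hj⟩ := IsPGroup.iff_orderOf.1 Q.isPGroup' w
      exact ⟨j, by rw [Subgroup.orderOf_coe, hj]⟩
    have hreg : ∀ w : ↥(Q : Subgroup G), ¬ p ∣ orderOf (w : G) := fun w h => by
      obtain ⟨j, hj⟩ := hord w
      rw [hj] at h
      exact hqp ((Nat.prime_dvd_prime_iff_eq hp.out hq.out).1 (hp.out.dvd_of_dvd_pow h)).symm
    have hcardQ : (((univ : Finset ↥(Q : Subgroup G)).erase 1).card : ℂ) =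
        (Nat.card ↥(Q : Subgroup G) : ℂ) - 1 := by
      rw [card_erase_of_mem (mem_univ _), card_univ, ← Nat.card_eq_fintype_card,
        Nat.cast_sub Nat.card_pos, Nat.cast_one]
    rcases eq_or_ne q 2 with hq2 | hq2
    · subst hq2
      refine Dvd.dvd.mul_left ?_ _
      split_ifs with ht
      · -- the norm
        have hval : ∀ w ∈ (univ : Finset ↥(Q : Subgroup G)).erase 1, (θ : G → ℂ) w ^ 2 = 1 := by
          intro w hw
          have hw1 : (w : G) ≠ 1 := fun h => ne_of_mem_erase hw (Subtype.ext h)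
          obtain ⟨j, hj⟩ := hord w
          rcases (show j = 0 ∨ j = 1 ∨ j = 2 ∨ 3 ≤ j by omega) with rfl | rfl | rfl | hj3
          · exact absurd (orderOf_eq_one_iff.1 hj) hw1
          · rw [hinv _ hj]; ring
          · rw [(hfour _ hj).2]; ring
          · exfalso
            refine height ((w : G) ^ (2 ^ (j - 3))) ?_
            rw [orderOf_pow, hj, Nat.gcd_eq_right (pow_dvd_pow 2 (Nat.sub_le j 3)),
              Nat.pow_div (Nat.sub_le j 3) two_pos, show j - (j - 3) = 3 by omega]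
            rfl
        obtain ⟨m, hm⟩ := exists_sum_eq_card_mul
          (isCharacter_mul (IsIrrCharacter.isCharacter θ.2) (IsIrrCharacter.isCharacter θ.2))
          (Q : Subgroup G)
        simp only [Pi.mul_apply, ← sq] at hm
        have hp' : p = 5 := by rw [ht] at hpt; omega
        rw [← add_sum_erase _ _ (mem_univ (1 : ↥(Q : Subgroup G))), sum_congr rfl hval, sum_const,
          nsmul_one, hcardQ, Subgroup.coe_one, hdeg, hp'] at hm
        have hZ : (Nat.card ↥(Q : Subgroup G) : ℤ) * m = Nat.card ↥(Q : Subgroup G) + 8 := by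
          apply Int.cast_injective (α := ℂ)
          push_cast at hm ⊢
          linear_combination -hm
        have h8 : (Nat.card ↥(Q : Subgroup G) : ℤ) ∣ 8 := ⟨(m : ℤ) - 1, by linear_combination -hZ⟩
        exact_mod_cast h8
      · have hval : ∀ w ∈ (univ : Finset ↥(Q : Subgroup G)).erase 1, (θ : G → ℂ) w = -1 := by
          intro w hw
          have hw1 : (w : G) ≠ 1 := fun h => ne_of_mem_erase hw (Subtype.ext h)
          obtain ⟨j, hj⟩ := hord w
          rcases (show j = 0 ∨ j = 1 ∨ 2 ≤ j by omega) with rfl | rfl | hj2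
          · exact absurd (orderOf_eq_one_iff.1 hj) hw1
          · exact hinv _ hj
          · exfalso
            refine ht (hfour ((w : G) ^ (2 ^ (j - 2))) ?_).1
            rw [orderOf_pow, hj, Nat.gcd_eq_right (pow_dvd_pow 2 (Nat.sub_le j 2)),
              Nat.pow_div (Nat.sub_le j 2) two_pos, show j - (j - 2) = 2 by omega]
            rfl
        obtain ⟨m, hm⟩ := exists_sum_eq_card_mul (IsIrrCharacter.isCharacter θ.2) (Q : Subgroup G)
        rw [← add_sum_erase _ _ (mem_univ (1 : ↥(Q : Subgroup G))), sum_congr rfl hval, sum_const,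
          nsmul_eq_mul, hcardQ, Subgroup.coe_one, hdeg] at hm
        refine ⟨m + 1, ?_⟩
        apply Nat.cast_injective (R := ℂ)
        rw [Nat.cast_sub (by omega : 1 ≤ p)]
        push_cast
        linear_combination hm
    · refine Dvd.dvd.mul_right (Dvd.dvd.mul_left ?_ _) _
      have hval : ∀ w ∈ (univ : Finset ↥(Q : Subgroup G)).erase 1, (θ : G → ℂ) w = 0 := by
        intro w hw
        obtain ⟨j, hj⟩ := hord w
        refine hodd _ (fun h => ne_of_mem_erase hw (Subtype.ext h)) (hreg w) fun h => hq2 ?_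
        rw [hj] at h
        exact ((Nat.prime_dvd_prime_iff_eq Nat.prime_two hq.out).1 (Nat.prime_two.dvd_of_dvd_pow h)).symm
      obtain ⟨m, hm⟩ := exists_sum_eq_card_mul (IsIrrCharacter.isCharacter θ.2) (Q : Subgroup G)
      rw [← add_sum_erase _ _ (mem_univ (1 : ↥(Q : Subgroup G))), sum_eq_zero hval, add_zero,
        Subgroup.coe_one, hdeg] at hm
      refine ⟨m, ?_⟩
      apply Nat.cast_injective (R := ℂ)
      rw [Nat.cast_sub (by omega : 2 ≤ p)]
      push_cast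
      exact hm
  have hpos : 0 < p * (p - 2) * (if t = 2 then 8 else p - 1) := by
    refine Nat.mul_pos (Nat.mul_pos hp.out.pos (by omega)) ?_
    split_ifs <;> omega
  refine lt_of_le_of_lt (Nat.le_of_dvd hpos hbound) ?_
  split_ifs with ht
  · rw [show p = 5 by rw [ht] at hpt; omega]; norm_num
  · calc p * (p - 2) * (p - 1) ≤ p * (p - 2) * p := Nat.mul_le_mul_left _ (Nat.sub_le _ _)
      _ < p * p * p := Nat.mul_lt_mul_of_pos_right
          (Nat.mul_lt_mul_of_pos_left (by omega) hp.out.pos) hp.out.pos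
      _ = p ^ 3 := by ring

end CfsgLib.SmallGroups.BrauerReynolds
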