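import Cfsg.Agent.Lib.SmallGroups.PSLTwoInversion

/-!
Recognition of `PSL₂(p)` for small odd primes `p`: the element exchanging `∞` and `0` is found by
checking the finitely many candidates.
-/

set_option autoImplicit false

namespace CfsgLib.SmallGroups.PSLTwo

open OnePoint

/-- Candidate value table of the element exchanging `∞` and `0`. -/
def oddVal (q g e c d x : ℕ) : ℕ :=
  match (List.range ((q - 1) / 2)).find? (fun i => g ^ (2 * i) % q == x) with
  | Option.some i => c * g ^ (2 * (e * i)) % q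
  | Option.none =>
    match (List.range ((q - 1) / 2)).find? (fun i => g ^ (2 * i + 1) % q == x) with
    | Option.some i => d * g ^ (2 * (e * i)) % q
    | Option.none => 0

/-- `v` is a nonzero square modulo `q`. -/
def oddIsSq (q v : ℕ) : Bool :=
  (List.range q).any (fun s => s != 0 && s * s % q == v % q)

/-- Every candidate table satisfying the relation of `w τ₁ w` is an inversion `x ↦ c/x`. -/
def oddCheck (q g : ℕ) : Bool :=
  (List.range ((q - 1) / 2)).all fun e => [1, g % q].all fun c => (List.range q).all fun d =>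
    (List.range q).all fun B =>
      !(d != 0 && e * e % ((q - 1) / 2) == 1 % ((q - 1) / 2) && B != 0 &&
        oddVal q g e c d (q - B) == q - 1 &&
        oddIsSq q ((q - oddVal q g e c d 1) * oddVal q g e c d B) &&
        (List.range q).all fun x =>
          x == 0 || (oddVal q g e c d x + 1) % q == 0 || (x + B) % q == 0 ||
          (oddVal q g e c d ((oddVal q g e c d x + 1) % q) * oddVal q g e c d B +
              oddVal q g e c d 1 * oddVal q g e c d ((x + B) % q)) % q ==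
            oddVal q g e c d 1 * oddVal q g e c d B % q) ||
      ((List.range q).all fun x => x == 0 || oddVal q g e c d x * x % q == c) && oddIsSq q (q - c)

variable {G : Type*} [Group G] [Finite G] {q : ℕ} [hq : Fact q.Prime]

theorem exists_sq_of_oddIsSq {v : ℕ} (h : oddIsSq q v = true) :
    ∃ s : ZMod q, s ≠ 0 ∧ s ^ 2 = (v : ZMod q) := by
  obtain ⟨s, hs, h⟩ := List.any_eq_true.mp h
  simp only [Bool.and_eq_true, bne_iff_ne, ne_eq, beq_iff_eq, List.mem_range] at h hs
  refine ⟨s, fun h0 => h.1 ?_, ?_⟩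
  · rw [ZMod.natCast_eq_zero_iff] at h0
    exact Nat.eq_zero_of_dvd_of_lt h0 hs
  · rw [pow_two, ← Nat.cast_mul, ZMod.natCast_eq_natCast_iff']
    exact h.2

theorem oddIsSq_of_sq {v : ℕ} {s : ZMod q} (h0 : s ≠ 0) (h : s ^ 2 = (v : ZMod q)) :
    oddIsSq q v = true := by
  have : NeZero q := ⟨hq.out.ne_zero⟩
  refine List.any_eq_true.mpr ⟨s.val, List.mem_range.mpr (ZMod.val_lt s), ?_⟩
  simp only [Bool.and_eq_true, bne_iff_ne, ne_eq, beq_iff_eq]
  refine ⟨fun hv => h0 ((ZMod.val_eq_zero s).mp hv), ?_⟩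
  rw [← ZMod.natCast_eq_natCast_iff', Nat.cast_mul, ZMod.natCast_zmod_val, ← pow_two, h]

/-- Recognition over a prime field. -/
theorem nonempty_mulEquiv_of_odd (g : ℕ) (h2 : q ≠ 2) (hg : orderOf (g : ZMod q) = q - 1)
    (hchk : oddCheck q g = true)
    (hcard : Nat.card G = Nat.card (Matrix.ProjectiveSpecialLinearGroup (Fin 2) (ZMod q)))
    {f : G →* Equiv.Perm (OnePoint (ZMod q))} (hf : IsLineHom ((g : ZMod q) ^ 2) f) :
    Nonempty (G ≃* Matrix.ProjectiveSpecialLinearGroup (Fin 2) (ZMod q)) := by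
  have : NeZero q := ⟨hq.out.ne_zero⟩
  have hq3 : 3 ≤ q := by have := hq.out.two_le; omega
  set m := (q - 1) / 2 with hm
  have h2m : 2 * m = q - 1 := by
    have := hq.out.eq_two_or_odd
    omega
  have hm0 : 0 < m := by omega
  have hg0 : (g : ZMod q) ≠ 0 := fun h => by
    rw [h, orderOf_zero] at hg
    omega
  set ω : ZMod q := (g : ZMod q) ^ 2 with hω
  have hωm : orderOf ω = m := by
    rw [hω, orderOf_pow' _ two_ne_zero, hg, Nat.gcd_eq_right ⟨m, h2m.symm⟩]
  have hω0 : ω ≠ 0 := pow_ne_zero _ hg0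
  have hωpow : ω ^ m = 1 := by rw [← hωm]; exact pow_orderOf_eq_one ω
  have hgen : ∀ x : ZMod q, x ≠ 0 → ∃ k, k < q - 1 ∧ (g : ZMod q) ^ k = x := by
    intro x hx
    have hu : orderOf (Units.mk0 (g : ZMod q) hg0) = Nat.card (ZMod q)ˣ := by
      rw [Nat.card_units, Nat.card_zmod, ← hg, ← orderOf_units]
      rfl
    have htop : Subgroup.zpowers (Units.mk0 (g : ZMod q) hg0) = ⊤ :=
      Subgroup.eq_top_of_card_eq _ (by rw [Nat.card_zpowers, hu])
    have hmem : Units.mk0 x hx ∈ Subgroup.zpowers (Units.mk0 (g : ZMod q) hg0) := htop ▸ Subgroup.mem_top _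
    rw [← mem_powers_iff_mem_zpowers] at hmem
    obtain ⟨k, hk⟩ := hmem
    refine ⟨k % (q - 1), Nat.mod_lt _ (by omega), ?_⟩
    rw [← hg, pow_mod_orderOf]
    exact congrArg Units.val hk
  obtain ⟨hinj, ht, hh, hst, w₀, hw1₀, hw2₀⟩ := hf
  have hfl : IsLineHom ω f := ⟨hinj, ht, hh, hst, w₀, hw1₀, hw2₀⟩
  obtain ⟨i₀, hi₀⟩ := exists_conj_mult hfl hw1₀ hw2₀
  set e := i₀ % m with he
  have heω : ω ^ i₀ = ω ^ e := by rw [he, ← hωm, pow_mod_orderOf]
  -- normalise the value at one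
  obtain ⟨c0, hc00, hc0⟩ := exists_coe_of_ne_zero hw1₀ hw2₀ (one_ne_zero (α := ZMod q))
  obtain ⟨k, -, hk⟩ := hgen c0 hc00
  obtain ⟨μ, hμ1, hμ2⟩ := exists_mult hfl ((k / 2) * (m - 1))
  set w := μ * w₀ with hwdef
  have hw1 : f w ∞ = ((0 : ZMod q) : OnePoint (ZMod q)) := by
    rw [hwdef, map_mul, Equiv.Perm.mul_apply, hw1₀, hμ2, mul_zero]
  have hw2 : f w ((0 : ZMod q) : OnePoint (ZMod q)) = ∞ := by
    rw [hwdef, map_mul, Equiv.Perm.mul_apply, hw2₀, hμ1]
  have hwv : ∀ x y : ZMod q, x ≠ 0 → f w (x : OnePoint (ZMod q)) = (y : OnePoint (ZMod q)) →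
      ∀ i : ℕ, f w ((ω ^ i * x : ZMod q) : OnePoint (ZMod q)) =
        ((ω ^ (e * i) * y : ZMod q) : OnePoint (ZMod q)) := by
    intro x y hx hxy i
    induction i with
    | zero => simpa using hxy
    | succ i ih =>
      have h0 : ω ^ i * x ≠ 0 := mul_ne_zero (pow_ne_zero _ hω0) hx
      obtain ⟨z, -, hz⟩ := exists_coe_of_ne_zero hw1₀ hw2₀ h0
      rw [hwdef, map_mul, Equiv.Perm.mul_apply, hz, hμ2, coe_eq_coe] at ih
      rw [hwdef, map_mul, Equiv.Perm.mul_apply, show ω ^ (i + 1) * x = ω * (ω ^ i * x) by ring, hi₀, hz,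
        OnePoint.map_some, hμ2, heω, coe_eq_coe]
      calc ω ^ (k / 2 * (m - 1)) * (ω ^ e * z) = ω ^ e * (ω ^ (k / 2 * (m - 1)) * z) := by ring
        _ = _ := by rw [ih, Nat.mul_succ, pow_add]; ring
  obtain ⟨c, hcmem, hc⟩ : ∃ c ∈ [1, g % q], f w ((1 : ZMod q) : OnePoint (ZMod q)) = ((c : ZMod q) : OnePoint (ZMod q)) := by
    have h1 : f w ((1 : ZMod q) : OnePoint (ZMod q)) = (((g : ZMod q) ^ (k % 2) : ZMod q) : OnePoint (ZMod q)) := by
      rw [hwdef, map_mul, Equiv.Perm.mul_apply, hc0, hμ2, coe_eq_coe, ← hk]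
      have hgk : (g : ZMod q) ^ k = (g : ZMod q) ^ (k % 2) * ω ^ (k / 2) := by
        rw [hω, ← pow_mul, ← pow_add, Nat.mod_add_div]
      rw [hgk, mul_left_comm, ← pow_add,
        show k / 2 * (m - 1) + k / 2 = m * (k / 2) by
          obtain ⟨m', hm'⟩ : ∃ m', m = m' + 1 := ⟨m - 1, by omega⟩
          rw [hm', Nat.add_sub_cancel]; ring,
        pow_mul, hωpow, one_pow, mul_one]
    rcases Nat.mod_two_eq_zero_or_one k with h | h <;> rw [h] at h1
    · exact ⟨1, by simp, by simpa using h1⟩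
    · exact ⟨g % q, by simp, by rw [ZMod.natCast_mod]; simpa using h1⟩
  obtain ⟨d', hd'0, hd'⟩ := exists_coe_of_ne_zero hw1 hw2 hg0
  set d := d'.val with hd
  have hdv : (d : ZMod q) = d' := ZMod.natCast_zmod_val d'
  -- the table
  set F := oddVal q g e c d with hF
  have hval : ∀ x : ℕ, (x : ZMod q) ≠ 0 → x < q → F x < q ∧
      f w (((x : ZMod q)) : OnePoint (ZMod q)) = ((F x : ZMod q) : OnePoint (ZMod q)) := by
    intro x hx hxq
    rw [hF, oddVal]
    cases h1 : (List.range ((q - 1) / 2)).find? (fun i => g ^ (2 * i) % q == x) with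
    | some i =>
      have hi := List.find?_some h1
      rw [beq_iff_eq] at hi
      refine ⟨Nat.mod_lt _ (by omega), ?_⟩
      have hxi : (x : ZMod q) = ω ^ i * 1 := by
        rw [← hi, ZMod.natCast_mod, Nat.cast_pow, pow_mul, mul_one]
      rw [hxi, hwv 1 _ one_ne_zero hc i, ZMod.natCast_mod, Nat.cast_mul, Nat.cast_pow, pow_mul, mul_comm, hω]
      simp only [← pow_mul, mul_assoc]
    | none =>
      cases h1' : (List.range ((q - 1) / 2)).find? (fun i => g ^ (2 * i + 1) % q == x) with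
      | some i =>
        have hi := List.find?_some h1'
        rw [beq_iff_eq] at hi
        refine ⟨Nat.mod_lt _ (by omega), ?_⟩
        have hxi : (x : ZMod q) = ω ^ i * (g : ZMod q) := by
          rw [← hi, ZMod.natCast_mod, Nat.cast_pow, pow_succ, pow_mul]
        rw [hxi, hwv _ _ hg0 hd' i, ZMod.natCast_mod, Nat.cast_mul, Nat.cast_pow, pow_mul, mul_comm, hdv, hω]
        simp only [← pow_mul, mul_assoc]
      | none =>
        exfalso
        obtain ⟨k, hkq, hk⟩ := hgen (x : ZMod q) hx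
        rw [List.find?_eq_none] at h1 h1'
        have hkx : g ^ k % q = x := by
          rw [← Nat.cast_pow, ZMod.natCast_eq_natCast_iff', Nat.mod_eq_of_lt hxq] at hk
          exact hk
        rcases Nat.even_or_odd' k with ⟨l, rfl | rfl⟩
        · exact h1 l (List.mem_range.mpr (by omega)) (by simp [hkx])
        · exact h1' l (List.mem_range.mpr (by omega)) (by simp [hkx])
  have hF' : ∀ x : ZMod q, x ≠ 0 → f w (x : OnePoint (ZMod q)) = ((F x.val : ZMod q) : OnePoint (ZMod q)) := by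
    intro x hx
    have := (hval x.val (by rwa [ZMod.natCast_zmod_val]) (ZMod.val_lt x)).2
    rwa [ZMod.natCast_zmod_val] at this
  have hFne : ∀ x : ZMod q, x ≠ 0 → (F x.val : ZMod q) ≠ 0 := fun x hx h0 => by
    obtain ⟨y, hy0, hy⟩ := exists_coe_of_ne_zero hw1 hw2 hx
    exact hy0 ((coe_eq_coe.mp ((hF' x hx).symm.trans hy)).symm.trans h0)
  -- the exponent squares to one
  have hee : e * e % m = 1 % m := by
    obtain ⟨j, hj⟩ := hst (w * w) (by rw [map_mul, Equiv.Perm.mul_apply, hw1, hw2])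
      (by rw [map_mul, Equiv.Perm.mul_apply, hw2, hw1])
    obtain ⟨y, hy0, hy⟩ := exists_coe_of_ne_zero hw1 hw2 (one_ne_zero (α := ZMod q))
    have hwy := hj 1
    rw [map_mul, Equiv.Perm.mul_apply, hy] at hwy
    have h1 := hj ω
    have h2' := hwv 1 y one_ne_zero hy 1
    rw [pow_one, mul_one] at h2'
    rw [map_mul, Equiv.Perm.mul_apply, h2', hwv y _ hy0 hwy, coe_eq_coe, mul_one, mul_one,
      mul_comm (ω ^ j) (ω)] at h1
    have h3 : ω ^ (e * e) = ω ^ 1 := by
      rw [pow_one]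
      exact mul_right_cancel₀ (pow_ne_zero j hω0) h1
    rw [(isOfFinOrder_iff_pow_eq_one.mpr ⟨m, hm0, hωpow⟩).pow_eq_pow_iff_modEq, hωm] at h3
    exact h3
  -- the preimage of -1
  obtain ⟨y, hy⟩ := (f w).surjective (((-1 : ZMod q)) : OnePoint (ZMod q))
  cases y with
  | infty =>
    rw [hw1, coe_eq_coe, eq_comm, neg_eq_zero] at hy
    exact absurd hy one_ne_zero
  | coe y =>
  have hy0 : y ≠ 0 := fun h => by
    rw [h, hw2] at hy
    exact OnePoint.infty_ne_coe _ hy
  set A := F 1 with hA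
  have hA1 : f w ((1 : ZMod q) : OnePoint (ZMod q)) = ((A : ZMod q) : OnePoint (ZMod q)) := by
    have := (hval 1 (by simp) (by omega)).2
    simpa using this
  set B := (-y).val with hB
  have hBv : (B : ZMod q) = -y := ZMod.natCast_zmod_val _
  have hB0 : (B : ZMod q) ≠ 0 := by rw [hBv]; exact neg_ne_zero.mpr hy0
  obtain ⟨tA, htA1, htA2⟩ := ht (-(A : ZMod q))
  obtain ⟨t1, ht11, ht12⟩ := ht 1
  obtain ⟨tB, htB1, htB2⟩ := ht (-(B : ZMod q))
  set K := tA * (w * (t1 * (w * tB))) with hK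
  have hKap : ∀ z, f K z = f tA (f w (f t1 (f w (f tB z)))) := fun z => by
    simp [hK, map_mul]
  have hKinf : f K ∞ = ((0 : ZMod q) : OnePoint (ZMod q)) := by
    rw [hKap, htB1, hw1, ht12, zero_add, hA1, htA2, add_neg_cancel]
  have hKzero : f K ((0 : ZMod q) : OnePoint (ZMod q)) = ∞ := by
    rw [hKap, htB2, zero_add, hBv, neg_neg, hy, ht12, neg_add_cancel, hw2, htA1]
  obtain ⟨j, hj⟩ := hst (w⁻¹ * K)
    (by rw [map_mul, Equiv.Perm.mul_apply, hKinf, line_apply_inv hw1])
    (by rw [map_mul, Equiv.Perm.mul_apply, hKzero, line_apply_inv hw2])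
  have hj' : ∀ z : ZMod q, f K (z : OnePoint (ZMod q)) = f w ((ω ^ j * z : ZMod q) : OnePoint (ZMod q)) := by
    intro z
    rw [← hj z, ← Equiv.Perm.mul_apply (f w), ← map_mul, mul_inv_cancel_left]
  have hrB : (A : ZMod q) + ω ^ (e * j) * (F B : ZMod q) = 0 := by
    have h := hj' (B : ZMod q)
    rw [hKap, htB2, add_neg_cancel, hw2, ht11, hw1, htA2, zero_add,
      hwv _ _ hB0 (hval B hB0 (ZMod.val_lt _)).2, coe_eq_coe] at h
    rw [← h, add_neg_cancel]
  have hid : ∀ x : ℕ, x < q → (x : ZMod q) ≠ 0 → (F x : ZMod q) + 1 ≠ 0 → (x : ZMod q) + B ≠ 0 →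
      (F ((F x + 1) % q) : ZMod q) * F B + A * F ((x + B) % q) = A * F B := by
    intro x hx hx0 h1 hxB
    have h := hj' ((x : ZMod q) + B)
    rw [hKap, htB2, add_neg_cancel_right, (hval x hx0 hx).2, ht12, hF' _ h1, htA2,
      hwv _ _ hxB (hF' _ hxB), coe_eq_coe] at h
    have e1 : (((F x : ZMod q)) + 1).val = (F x + 1) % q := by
      rw [← ZMod.val_natCast, Nat.cast_add, Nat.cast_one]
    have e2 : (((x : ZMod q)) + B).val = (x + B) % q := by
      rw [← ZMod.val_natCast, Nat.cast_add]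
    rw [e1, e2] at h
    linear_combination (F B : ZMod q) * h + (F ((x + B) % q) : ZMod q) * hrB
  have hsq : oddIsSq q ((q - A) * F B) = true := by
    have hAq : A ≤ q := (hval 1 (by simp) (by omega)).1.le
    refine oddIsSq_of_sq (s := (g : ZMod q) ^ (e * j) * (F B : ZMod q))
      (mul_ne_zero (pow_ne_zero _ hg0) ?_) ?_
    · have := hFne _ hB0
      rwa [ZMod.val_natCast, Nat.mod_eq_of_lt (ZMod.val_lt _)] at this
    · rw [Nat.cast_mul, Nat.cast_sub hAq, ZMod.natCast_self, zero_sub, mul_pow, ← pow_mul, mul_comm (e * j) 2,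
        pow_mul, ← hω]
      linear_combination (F B : ZMod q) * hrB
  have hem : e < m := Nat.mod_lt _ hm0
  simp only [oddCheck, List.all_eq_true, List.mem_range] at hchk
  have hgood := hchk e hem c hcmem d (ZMod.val_lt _) B (ZMod.val_lt _)
  rw [Bool.or_eq_true, Bool.not_eq_true', ← Bool.not_eq_true] at hgood
  have hgood' := hgood.resolve_left (not_not.mpr ?_)
  swap
  · simp only [Bool.and_eq_true, bne_iff_ne, beq_iff_eq, ne_eq, List.all_eq_true, List.mem_range,
      Bool.or_eq_true]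
    have hBq : B < q := ZMod.val_lt _
    have hBn : B ≠ 0 := fun h => hB0 (by rw [h, Nat.cast_zero])
    refine ⟨⟨⟨⟨⟨fun h => hd'0 ?_, hee⟩, hBn⟩, ?_⟩, hsq⟩, fun x hx => ?_⟩
    · rw [← hdv, h, Nat.cast_zero]
    · have hcast : ((q - B : ℕ) : ZMod q) = y := by
        rw [Nat.cast_sub hBq.le, ZMod.natCast_self, hBv, zero_sub, neg_neg]
      obtain ⟨hlt, hh'⟩ := hval (q - B) (by rw [hcast]; exact hy0) (by omega)
      rw [hcast, hy, coe_eq_coe] at hh'
      have hcast2 : ((q - 1 : ℕ) : ZMod q) = -1 := by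
        rw [Nat.cast_sub (by omega : 1 ≤ q), ZMod.natCast_self, Nat.cast_one, zero_sub]
      rw [← hcast2, ZMod.natCast_eq_natCast_iff', Nat.mod_eq_of_lt (by omega), Nat.mod_eq_of_lt hlt] at hh'
      exact hh'.symm
    · by_cases hx0 : x = 0
      · exact Or.inl (Or.inl (Or.inl hx0))
      by_cases h1 : (F x + 1) % q = 0
      · exact Or.inl (Or.inl (Or.inr h1))
      by_cases h2 : (x + B) % q = 0
      · exact Or.inl (Or.inr h2)
      refine Or.inr ?_
      have hxz : (x : ZMod q) ≠ 0 := fun h => by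
        rw [ZMod.natCast_eq_zero_iff] at h
        exact hx0 (Nat.eq_zero_of_dvd_of_lt h hx)
      have h1' : (F x : ZMod q) + 1 ≠ 0 := fun h => h1 (by
        rw [← Nat.cast_one, ← Nat.cast_add, ZMod.natCast_eq_zero_iff] at h
        exact Nat.mod_eq_zero_of_dvd h)
      have h2' : (x : ZMod q) + B ≠ 0 := fun h => h2 (by
        rw [← Nat.cast_add, ZMod.natCast_eq_zero_iff] at h
        exact Nat.mod_eq_zero_of_dvd h)
      have := hid x hx hxz h1' h2'
      rw [← Nat.cast_mul, ← Nat.cast_mul, ← Nat.cast_add, ← Nat.cast_mul,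
        ZMod.natCast_eq_natCast_iff'] at this
      exact this
  rw [Bool.and_eq_true, List.all_eq_true] at hgood'
  obtain ⟨hinv, hsqc⟩ := hgood'
  have hcq : c < q := by
    simp only [List.mem_cons, List.not_mem_nil, or_false] at hcmem
    rcases hcmem with rfl | rfl
    · omega
    · exact Nat.mod_lt _ (by omega)
  obtain ⟨s, hs0, hs⟩ := exists_sq_of_oddIsSq hsqc
  refine nonempty_mulEquiv_of_generators f hinj hcard ht (fun u => ?_)
    ⟨w, (c : ZMod q), s, hs0, ?_, hw1, hw2, fun x hx => ?_⟩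
  · obtain ⟨k, -, hk⟩ := hgen (u : ZMod q) u.ne_zero
    obtain ⟨ν, hν1, hν2⟩ := exists_mult hfl k
    refine ⟨ν, hν1, fun x => ?_⟩
    rw [hν2, ← hk, hω, ← pow_mul, ← pow_mul, mul_comm 2 k]
  · rw [hs, Nat.cast_sub hcq.le, ZMod.natCast_self, zero_sub]
  · rw [hF' x hx, coe_eq_coe, eq_div_iff hx]
    have h := hinv x.val (List.mem_range.mpr (ZMod.val_lt x))
    rw [Bool.or_eq_true, beq_iff_eq, beq_iff_eq] at h
    rcases h with h | h
    · exact absurd ((ZMod.val_eq_zero x).mp h) hx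
    · rw [← ZMod.natCast_zmod_val x, ← Nat.cast_mul, ← ZMod.natCast_mod, ZMod.natCast_zmod_val]
      exact congrArg _ h

theorem oddCheck_seventeen : oddCheck 17 3 = true := by decide +kernel
theorem oddCheck_nineteen : oddCheck 19 2 = true := by decide +kernel
theorem oddCheck_twentythree : oddCheck 23 5 = true := by decide +kernel

end CfsgLib.SmallGroups.PSLTwo
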