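import Cfsg.Agent.Lib.SmallGroups.QuasiSimpleProduct

/-!
# The degree `p - e`: counting

The products into the exceptional families of the square of the central character and of the
trivial one force `N = t - 2`.
-/

set_option autoImplicit false
set_option linter.style.haveILetI false
set_option linter.unusedSectionVars false

namespace CfsgLib.SmallGroups.QuasiSimple

open Cfsg CfsgLib.CharTheory CfsgLib.Blocks CfsgLib.DefectOne CfsgLib.SmallGroups.SmallDegree Finset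
open scoped ComplexConjugate Classical

variable {p : ℕ} [hp : Fact p.Prime] {G : Type*} [Group G] [Fintype G]
  (hG : ExactPrime G p) (S : Sect G p) (hc : ∀ (v : S.V) (x : G), (v : G) * x = x * (v : G))
  {E : Subgroup G} (hE : Comp S E) {φ : S.V →* ℂˣ} {f : ZMod p → ZMod p → G → ℂ}

include hG hc hE

/-- The bounds from the fixed vectors for one family of targets. -/
theorem fix_bound {T : ℤ} (hf : IsProd S φ f) (X : Fam S φ T) {t : ℕ}
    (hpt : p = rowE S (trivIrr S.V) * t + 1) {n : ZMod p → ZMod p → ZMod p → ℕ}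
    (hn : ∀ a b z, classInner (f a b) (X.x z : G → ℂ) = n a b z) {K : ℤ}
    (hrow : ∀ a b : ZMod p, a ≠ 0 → b ≠ 0 → T * ((∑ z ∈ (univ : Finset (ZMod p)).erase 0, n a b z : ℕ) : ℤ) =
        (rowE S (trivIrr S.V) : ℤ) * ((t : ℤ) * K - rowE S (trivIrr S.V) +
          if -a ∈ orb (eGroup S (trivIrr S.V)) b then 1 else 0))
    {γ : E →* ℂˣ} (hγ : ∀ v : S.V, γ ⟨v, hE.le v.2⟩ = φ v)
    {a b : ZMod p} (ha : a ≠ 0) (hb : b ≠ 0) (hab : -a ∉ orb (eGroup S (trivIrr S.V)) b)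
    (hfγ : ∀ y : E, (y : G) ∉ S.V → f a b y = (γ y : ℂ))
    {β : E →* ℂˣ} {ω : ℕ} (hω : wt S E (X.x 1 : G → ℂ) β = ω) (hω0 : ω ≠ 0) :
    0 ≤ T * ((t : ℤ) * K - rowE S (trivIrr S.V)) ∧
      T * ((t : ℤ) * K - rowE S (trivIrr S.V)) * ω ≤ (t : ℤ) - 2 + if β = γ then 1 else 0 := by
  have hβ : ∀ v : S.V, β ⟨v, hE.le v.2⟩ = φ v := fun v => by
    by_contra h
    rw [hE.wt_eq_zero hG S hc (X.central 1) h] at hω
    exact hω0 (by exact_mod_cast hω.symm)
  obtain ⟨W, hW⟩ := hE.exists_wt_nat hG S hc (hf.char a b) β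
  have h1 := hf.wt_eq hG S hc hE hpt hβ hγ ha hb hfγ hW
  rw [if_neg hab, add_zero] at h1
  have h2 := X.sum_mult_le hG S hc hE (hf.char a b) (fun z _ => hn a b z) hω hW
  have h3 := hrow a b ha hb
  rw [if_neg hab, add_zero] at h3
  have he : (0 : ℤ) < rowE S (trivIrr S.V) := by exact_mod_cast rowE_pos hG S _
  have hs : ((∑ z ∈ (univ : Finset (ZMod p)).erase 0, n a b z : ℕ) : ℤ) =
      (rowE S (trivIrr S.V) : ℤ) * (T * ((t : ℤ) * K - rowE S (trivIrr S.V))) := by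
    linear_combination T * h3 - ((∑ z ∈ (univ : Finset (ZMod p)).erase 0, n a b z : ℕ) : ℤ) * X.T_sq
  constructor
  · have h4 : (0 : ℤ) ≤ ((∑ z ∈ (univ : Finset (ZMod p)).erase 0, n a b z : ℕ) : ℤ) := Int.natCast_nonneg _
    rw [hs] at h4
    exact (mul_nonneg_iff_of_pos_left he).1 h4
  · have h4 := Int.ofNat_le.2 h2
    rw [Nat.cast_mul, Nat.cast_mul, hs, h1, mul_assoc] at h4
    exact le_of_mul_le_mul_left h4 he

variable {φ₁ : S.V →* ℂˣ} {T₀ : ℤ}

set_option maxHeartbeats 1000000 in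
/-- The value of `N`. -/
theorem energy (X₁ : Fam S φ₁ 1) (X₂ : Fam S (φ₁ * φ₁) 1) (X₀ : Fam S (1 : S.V →* ℂˣ) T₀)
    (hd₁ : (charDegree (X₁.x 1 : G → ℂ) : ℤ) = (p : ℤ) - rowE S (trivIrr S.V))
    (hd₂ : (charDegree (X₂.x 1 : G → ℂ) : ℤ) = (p : ℤ) - rowE S (trivIrr S.V))
    {L : ℕ} (hd₀ : (charDegree (X₀.x 1 : G → ℂ) : ℤ) = (p : ℤ) * L - T₀ * rowE S (trivIrr S.V))
    (hL : 1 ≤ L) (hL2 : T₀ = 1 → 2 ≤ L) {t : ℕ} (hpt : p = rowE S (trivIrr S.V) * t + 1)
    (ht : 3 ≤ t) (he3 : 3 ≤ rowE S (trivIrr S.V)) :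
    ∃ K : ℤ, 2 ≤ K ∧ (t : ℤ) * K - rowE S (trivIrr S.V) = (t : ℤ) - 2 ∧ 2 ∣ rowE S (trivIrr S.V) ∧
      (∀ a b z : ZMod p, a ≠ 0 → b ≠ 0 → z ≠ 0 → ∃ m : ℕ,
        classInner (fun g => (X₁.x a : G → ℂ) g * (X₁.x b : G → ℂ) g) (X₂.x z : G → ℂ) = m ∧
        (m : ℤ) + circ (eGroup S (trivIrr S.V)) a b z = K) ∧
      ∑ b ∈ (univ : Finset (ZMod p)).erase 0, ∑ z ∈ (univ : Finset (ZMod p)).erase 0,
        (K - circ (eGroup S (trivIrr S.V)) 1 b z) * circ (eGroup S (trivIrr S.V)) 1 b z =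
          (rowE S (trivIrr S.V) : ℤ) * rowE S (trivIrr S.V) * ((K - 1) * ((t : ℤ) - 1)) := by
  set H := eGroup S (trivIrr S.V) with hH
  set e := rowE S (trivIrr S.V) with he
  have hcardH : Nat.card H = e := rfl
  set nzs := (univ : Finset (ZMod p)).erase 0 with hnzs
  have h1 : (1 : ZMod p) ≠ 0 := one_ne_zero
  have hp0 : (p : ℂ) ≠ 0 := Nat.cast_ne_zero.2 hp.out.ne_zero
  have hdc : ∀ a, (X₁.x a : G → ℂ) 1 = (p : ℂ) - e := fun a => by
    rw [X₁.reg a 1 1 (by rw [orderOf_one]; exact hp.out.not_dvd_one), ← charDegree_cast,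
      ← Int.cast_natCast, hd₁]
    push_cast
    ring
  -- the two products
  set f₂ : ZMod p → ZMod p → G → ℂ := fun a b g => (X₁.x a : G → ℂ) g * (X₁.x b : G → ℂ) g with hf₂d
  set f₀ : ZMod p → ZMod p → G → ℂ := fun a b g => (X₁.x a : G → ℂ) g * conj ((X₁.x (-b) : G → ℂ) g) with hf₀d
  have hirr : ∀ a, IsCharacter G (X₁.x a : G → ℂ) := fun a => IsIrrCharacter.isCharacter (X₁.x a).2
  have hf₂ : IsProd S (φ₁ * φ₁) f₂ :=
    ⟨fun a b => isCharacter_mul (hirr a) (hirr b),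
      fun a b g v => by
        simp only [hf₂d, X₁.central a g v, X₁.central b g v, MonoidHom.mul_apply, Units.val_mul]; ring,
      fun a b a' b' g hg => by simp only [hf₂d, X₁.reg a a' g hg, X₁.reg b b' g hg],
      fun a b => by simp only [hf₂d, hdc]; rw [he]; ring,
      fun a b ha hb i hi => by simp only [hf₂d, X₁.val a ha i hi, X₁.val b hb i hi]; push_cast; ring⟩
  have hf₀ : IsProd S (1 : S.V →* ℂˣ) f₀ :=
    ⟨fun a b => isCharacter_mul (hirr a) (isCharacter_conj (hirr (-b))),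
      fun a b g v => by
        simp only [hf₀d, X₁.central a g v, X₁.central (-b) g v, map_mul, MonoidHom.one_apply, Units.val_one]
        linear_combination ((X₁.x a : G → ℂ) g * conj ((X₁.x (-b) : G → ℂ) g)) * mul_conj_linear φ₁ v,
      fun a b a' b' g hg => by simp only [hf₀d, X₁.reg a a' g hg, X₁.reg (-b) (-b') g hg],
      fun a b => by simp only [hf₀d, hdc, map_sub, Complex.conj_natCast]; rw [he]; ring,
      fun a b ha hb i hi => by
        simp only [hf₀d, X₁.val a ha i hi, X₁.val (-b) (neg_ne_zero.2 hb) i hi, map_mul, map_neg, map_intCast,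
          conj_Th, neg_neg]
        push_cast
        ring⟩
  choose n₂ hn₂ using fun a b z => IsCharacter.exists_classInner_eq_nat (hf₂.char a b) (X₂.x z)
  choose n₀ hn₀ using fun a b z => IsCharacter.exists_classInner_eq_nat (hf₀.char a b) (X₀.x z)
  obtain ⟨K, hK, hrow⟩ := hf₂.exists_K hG S hc X₂ hpt hn₂
  obtain ⟨K₀, hK₀, hrow₀⟩ := hf₀.exists_K hG S hc X₀ hpt hn₀
  simp only [one_mul, ← hH, ← he] at hK hrow
  simp only [← hH, ← he] at hK₀ hrow₀
  -- the values off the centre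
  have hpm1 : ∀ {φ : S.V →* ℂˣ} (X : Fam S φ 1), (charDegree (X.x 1 : G → ℂ) : ℤ) = (p : ℤ) - e →
      pm S (X.x 1 : G → ℂ) 0 = 1 := fun X hd => by
    rw [X.pm_eq hG S h1, if_neg fun h => ne_zero_of_mem_orb h1 h rfl, sub_zero,
      ← Int.cast_natCast (charDegree _), hd, ← he]
    push_cast
    field_simp
    ring
  obtain ⟨α, hα, hαv⟩ := hE.exists_alpha hG S hc (hirr 1) (X₁.central 1) (hpm1 X₁ hd₁)
  have hv : ∀ a (y : E), (y : G) ∉ S.V → (X₁.x a : G → ℂ) y = (α y : ℂ) := fun a y hy => by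
    rw [X₁.reg a 1 _ (hE.reg _ y.2), hαv y hy]
  have hγ₂ : ∀ v : S.V, (α * α) ⟨v, hE.le v.2⟩ = (φ₁ * φ₁) v := fun v => by
    simp only [MonoidHom.mul_apply, hα]
  obtain ⟨α', hα', hα'v⟩ := hE.exists_alpha hG S hc (IsIrrCharacter.isCharacter (X₂.x 1).2) (X₂.central 1)
    (hpm1 X₂ hd₂)
  have hω₂ : wt S E (X₂.x 1 : G → ℂ) α' = ((1 : ℕ) : ℂ) := by
    have h := hE.wt_eq hG S hc (IsIrrCharacter.isClassFunction (X₂.x 1).2) (X₂.central 1) hα' hα' hα'v
    rw [hpm1 X₂ hd₂, if_pos rfl, sub_self, zero_add] at h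
    rw [Nat.cast_one]
    exact mul_left_cancel₀ (Nat.cast_ne_zero.2 (rowE_pos hG S _).ne' : ((rowE S (trivIrr S.V) : ℕ) : ℂ) ≠ 0)
      (h.trans (mul_one _).symm)
  obtain ⟨b₀, hb₀, hb₀'⟩ : ∃ b : ZMod p, b ≠ 0 ∧ -(1 : ZMod p) ∉ orb H b := by
    by_contra h
    push Not at h
    have hsub : nzs ⊆ orb H (-1) := fun b hb => mem_orb_symm (h b (ne_of_mem_erase hb))
    have h5 := card_le_card hsub
    rw [card_orb (neg_ne_zero.2 h1), hcardH, hnzs, card_ne_zero_univ] at h5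
    have : e * 3 ≤ e * t := Nat.mul_le_mul_left e ht
    omega
  set N : ℤ := (t : ℤ) * K - e with hN
  obtain ⟨hN0, hN1⟩ := fix_bound hG S hc hE hf₂ X₂ hpt hn₂ (by simpa using hrow) hγ₂ h1 hb₀ hb₀'
    (fun y hy => by simp only [hf₂d, hv 1 y hy, hv b₀ y hy, MonoidHom.mul_apply, Units.val_mul]) hω₂ one_ne_zero
  rw [one_mul, ← he, ← hN] at hN0 hN1
  rw [Nat.cast_one, mul_one] at hN1
  have hNt : N ≤ (t : ℤ) - 1 := by split_ifs at hN1 <;> linarith
  set N₀ : ℤ := T₀ * ((t : ℤ) * K₀ - e) with hN₀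
  have hfix₀ : ∀ (β : E →* ℂˣ) (ω : ℕ), wt S E (X₀.x 1 : G → ℂ) β = ω → ω ≠ 0 →
      0 ≤ N₀ ∧ N₀ * ω ≤ (t : ℤ) - 2 + if β = 1 then 1 else 0 := fun β ω hω hω0 =>
    fix_bound hG S hc hE hf₀ X₀ hpt hn₀ hrow₀ (γ := 1) (fun v => rfl) h1 hb₀ hb₀'
      (fun y hy => by
        simp only [hf₀d, hv 1 y hy, hv (-b₀) y hy, MonoidHom.one_apply, Units.val_one]
        exact mul_conj_linear α y) hω hω0
  haveI : Finite (E →* ℂˣ) := by
    letI : CommGroup E := { (inferInstance : Group E) with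
      mul_comm := fun a b => Subtype.ext (hE.comm a a.2 b b.2) }
    infer_instance
  haveI : Fintype (E →* ℂˣ) := Fintype.ofFinite _
  choose ω₀ hω₀ using hE.exists_wt_nat hG S hc (IsIrrCharacter.isCharacter (X₀.x 1).2)
  have hωsum : ∑ β : E →* ℂˣ, ω₀ β = L := by
    apply Nat.cast_injective (R := ℂ)
    push_cast
    rw [sum_congr rfl fun β _ => (hω₀ β).symm, hE.sum_wt hG S hc,
      X₀.pm_eq hG S h1, if_neg fun h => ne_zero_of_mem_orb h1 h rfl, sub_zero,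
      ← Int.cast_natCast (charDegree _), hd₀, ← he]
    push_cast
    field_simp
    ring
  obtain ⟨β₀, -, hβ₀⟩ : ∃ β ∈ (univ : Finset (E →* ℂˣ)), 0 < ω₀ β :=
    sum_pos_iff.1 (by rw [hωsum]; omega)
  obtain ⟨hN00, hN01⟩ := hfix₀ β₀ _ (hω₀ β₀) hβ₀.ne'
  have hN0t : N₀ ≤ (t : ℤ) - 1 := by
    have : N₀ * 1 ≤ N₀ * (ω₀ β₀ : ℤ) := mul_le_mul_of_nonneg_left (by exact_mod_cast hβ₀) hN00
    split_ifs at hN01 <;> linarith
  have hcirc0 : ∀ a b z : ZMod p, a ≠ 0 → b ≠ 0 → z ≠ 0 → 0 ≤ T₀ * (K₀ - circ H a b z) := fun a b z ha hb hz => by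
    have h := hK₀ a b z ha hb hz
    rw [← h, add_sub_cancel_right, ← mul_assoc, X₀.T_sq, one_mul]
    exact Int.natCast_nonneg _
  have he0 : (0 : ℤ) < e := by exact_mod_cast (by omega : 0 < e)
  have htZ : (3 : ℤ) ≤ t := by exact_mod_cast ht
  have heZ : (3 : ℤ) ≤ e := by exact_mod_cast he3
  have hpZ : (p : ℤ) = e * t + 1 := by exact_mod_cast hpt
  have hK1 : 1 ≤ K := by
    by_contra h
    push Not at h
    have : (t : ℤ) * K ≤ 0 := mul_nonpos_of_nonneg_of_nonpos (by linarith) (by linarith)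
    linarith
  -- the energy
  have hcirc : ∑ b ∈ nzs, ∑ z ∈ nzs, (circ H 1 b z : ℤ) ^ 2 =
      (e : ℤ) * e * ((p : ℤ) - 2 + ((e : ℤ) - 1) * ((e : ℤ) - 2)) := by
    have h := sum_circ_sq (H := H) h1
    rw [hcardH] at h
    have h' := congrArg (fun m : ℕ => (m : ℤ)) h
    have := hp.out.two_le
    push_cast [Nat.cast_sub (by omega : 1 ≤ e), Nat.cast_sub (by omega : 2 ≤ e),
      Nat.cast_sub (by omega : 2 ≤ p)] at h'
    exact h'
  have hsumn : ∑ b ∈ nzs, ((∑ z ∈ nzs, n₂ 1 b z : ℕ) : ℤ) = (e : ℤ) * ((e : ℤ) * t * N + e) := by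
    rw [sum_congr rfl fun b hb => hrow 1 b h1 (ne_of_mem_erase hb), ← mul_sum, sum_add_distrib, sum_const,
      nsmul_eq_mul, sum_boole, card_orb_containing (neg_ne_zero.2 h1), hcardH, card_ne_zero_univ,
      show p - 1 = e * t by omega, hN]
    push_cast
    ring
  have hnr : ∑ b ∈ nzs, ∑ z ∈ nzs, (K - circ H 1 b z) * circ H 1 b z = (e : ℤ) * e *
      ((t : ℤ) ^ 2 * K ^ 2 - K * ((t : ℤ) * N + 1) - ((p : ℤ) - 2 + ((e : ℤ) - 1) * ((e : ℤ) - 2))) := by
    have hid : ∀ b ∈ nzs, ∀ z ∈ nzs, (K - circ H 1 b z) * circ H 1 b z =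
        K ^ 2 - K * (n₂ 1 b z : ℤ) - (circ H 1 b z : ℤ) ^ 2 := fun b hb z hz => by
      rw [← hK 1 b z h1 (ne_of_mem_erase hb) (ne_of_mem_erase hz)]
      ring
    push_cast at hsumn
    rw [sum_congr rfl fun b hb => sum_congr rfl (hid b hb)]
    simp only [sum_sub_distrib, ← mul_sum, sum_const, nsmul_eq_mul, hsumn, hcirc]
    rw [hnzs, card_ne_zero_univ, show p - 1 = e * t by omega]
    push_cast
    ring
  rcases mul_self_eq_one_iff.1 X₀.T_sq with hT | hT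
  swap
  · -- the negative sign
    exfalso
    rw [hT] at hcirc0
    rw [hN₀, hT] at hN0t
    have hKK : K ≤ K₀ + 1 := by
      by_contra h
      push Not at h
      have : (t : ℤ) * 2 ≤ t * (K - K₀) := mul_le_mul_of_nonneg_left (by omega) (by linarith)
      linarith
    have hsmall : ∀ b ∈ nzs, ∀ z ∈ nzs,
        (K - circ H 1 b z) * circ H 1 b z = (K - 1) * (n₂ 1 b z : ℤ) := fun b hb z hz => by
      have h2 := hcirc0 1 b z h1 (ne_of_mem_erase hb) (ne_of_mem_erase hz)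
      have h3 := hK 1 b z h1 (ne_of_mem_erase hb) (ne_of_mem_erase hz)
      have h4 : (n₂ 1 b z : ℤ) = 0 ∨ (n₂ 1 b z : ℤ) = 1 := by omega
      rcases h4 with h4 | h4 <;> rw [h4] at h3 ⊢
      · rw [show K - (circ H 1 b z : ℤ) = 0 by linarith]; ring
      · rw [show K - (circ H 1 b z : ℤ) = 1 by linarith, show (circ H 1 b z : ℤ) = K - 1 by linarith]; ring
    rw [sum_congr rfl fun b hb => sum_congr rfl (hsmall b hb)] at hnr
    simp only [← mul_sum] at hnr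
    push_cast at hsumn
    rw [hsumn] at hnr
    have h5 : (K - 1) * ((t : ℤ) * N + 1) = (t : ℤ) ^ 2 * K ^ 2 - K * ((t : ℤ) * N + 1) -
        ((p : ℤ) - 2 + ((e : ℤ) - 1) * ((e : ℤ) - 2)) :=
      mul_left_cancel₀ (mul_pos he0 he0).ne' (by rw [← hnr]; ring)
    have he' : (e : ℤ) = t * K - N := by rw [hN]; ring
    rw [hpZ, he'] at h5
    have h6 : K * (((t : ℤ) - 1) * ((t : ℤ) - 2)) = N * (2 * (t : ℤ) - 3 - N) := by linear_combination h5
    rcases eq_or_lt_of_le hK1 with hK1' | hK1'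
    · rw [← hK1'] at h6 he'
      have h7 : ((t : ℤ) - 1 - N) * ((t : ℤ) - 2 - N) = 0 := by linear_combination h6
      rcases mul_eq_zero.1 h7 with h8 | h8 <;> linarith
    · have hmax : 0 ≤ ((t : ℤ) - 1 - N) * ((t : ℤ) - 2 - N) := by
        by_cases hc' : N ≤ (t : ℤ) - 2
        · exact mul_nonneg (by linarith) (by linarith)
        · rw [show (t : ℤ) - 1 - N = 0 by omega, zero_mul]
      have hpos : 0 < ((t : ℤ) - 1) * ((t : ℤ) - 2) := mul_pos (by linarith) (by linarith)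
      have h2K : 2 * (((t : ℤ) - 1) * ((t : ℤ) - 2)) ≤ K * (((t : ℤ) - 1) * ((t : ℤ) - 2)) :=
        mul_le_mul_of_nonneg_right (by omega) hpos.le
      linarith
  · -- the positive sign
    have hN02 : N₀ ≤ (t : ℤ) - 2 := by
      by_contra h
      push Not at h
      have hzero : ∀ β : E →* ℂˣ, β ≠ 1 → ω₀ β = 0 := fun β hβ => by
        by_contra h0
        obtain ⟨-, h2⟩ := hfix₀ β _ (hω₀ β) h0
        rw [if_neg hβ, add_zero] at h2
        have : N₀ * 1 ≤ N₀ * (ω₀ β : ℤ) :=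
          mul_le_mul_of_nonneg_left (by exact_mod_cast Nat.pos_of_ne_zero h0) hN00
        linarith
      have hL' : ω₀ 1 = L := by
        rw [← hωsum, sum_eq_single 1 (fun β _ hβ => hzero β hβ) (fun h' => absurd (mem_univ _) h')]
      have h2L := hL2 hT
      obtain ⟨-, h2⟩ := hfix₀ 1 _ (hω₀ 1) (by omega)
      rw [if_pos rfl, hL'] at h2
      have : N₀ * 2 ≤ N₀ * (L : ℤ) := mul_le_mul_of_nonneg_left (by exact_mod_cast h2L) hN00
      linarith
    rw [hN₀, hT, one_mul] at hN00 hN02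
    have hKK : K ≤ K₀ := by
      by_contra h
      push Not at h
      have : (t : ℤ) * 1 ≤ t * (K - K₀) := mul_le_mul_of_nonneg_left (by omega) (by linarith)
      linarith
    have hN2 : N ≤ (t : ℤ) - 2 := by
      have : (t : ℤ) * K ≤ t * K₀ := mul_le_mul_of_nonneg_left hKK (by linarith)
      linarith
    have hnn : (0 : ℤ) ≤ (t : ℤ) ^ 2 * K ^ 2 - K * ((t : ℤ) * N + 1) -
        ((p : ℤ) - 2 + ((e : ℤ) - 1) * ((e : ℤ) - 2)) := by
      have h : (0 : ℤ) ≤ ∑ b ∈ nzs, ∑ z ∈ nzs, (K - circ H 1 b z) * circ H 1 b z :=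
        sum_nonneg fun b hb => sum_nonneg fun z hz => mul_nonneg (by
          have := hK 1 b z h1 (ne_of_mem_erase hb) (ne_of_mem_erase hz)
          omega) (Int.natCast_nonneg _)
      rw [hnr] at h
      exact (mul_nonneg_iff_of_pos_left (mul_pos he0 he0)).1 h
    have hNeq : N = (t : ℤ) - 2 := by
      by_contra hne
      have hN3 : N ≤ (t : ℤ) - 3 := by omega
      have he' : (e : ℤ) = t * K - N := by rw [hN]; ring
      rw [hpZ, he'] at hnn
      have hb : (t : ℤ) * N ≤ t * ((t : ℤ) - 3) := mul_le_mul_of_nonneg_left hN3 (Int.natCast_nonneg _)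
      have hcoef : (1 : ℤ) ≤ (t : ℤ) ^ 2 - 3 * t + 1 - t * N := by linarith
      have h6 : (t : ℤ) ^ 2 - 3 * t + 1 - t * N ≤ K * ((t : ℤ) ^ 2 - 3 * t + 1 - t * N) :=
        le_mul_of_one_le_left (by linarith) hK1
      have h7 : 2 * 1 ≤ ((t : ℤ) - 1 - N) * ((t : ℤ) - 2 - N) :=
        mul_le_mul (by linarith) (by linarith) (by norm_num) (by linarith)
      linarith
    have hK2 : 2 ≤ K := by
      by_contra h
      have hK' : K = 1 := by omega
      rw [hN, hK'] at hNeq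
      omega
    have hte : 2 ∣ e := by
      by_contra hodd
      have heven : 2 ∣ e * t := by
        rcases hp.out.eq_two_or_odd' with h | ⟨k, hk⟩
        · have : e * 3 ≤ e * t := Nat.mul_le_mul_left e ht
          omega
        · omega
      obtain ⟨s, hs⟩ := (Nat.prime_two.dvd_mul.1 heven).resolve_left hodd
      refine hodd (Int.natCast_dvd_natCast.1 ⟨(s : ℤ) * K - s + 1, ?_⟩)
      have hsZ : (t : ℤ) = 2 * s := by exact_mod_cast hs
      rw [hN, hsZ] at hNeq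
      push_cast
      linarith
    refine ⟨K, hK2, hNeq, hte, fun a b z ha hb hz => ⟨n₂ a b z, hn₂ a b z, hK a b z ha hb hz⟩, ?_⟩
    rw [hnr, hNeq, hpZ, show (e : ℤ) = t * K - ((t : ℤ) - 2) by rw [← hNeq, hN]; ring]
    ring

end CfsgLib.SmallGroups.QuasiSimple
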