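import Cfsg.Agent.Lib.SmallGroups.SmallDegreeSquare
import Cfsg.Agent.Lib.SmallGroups.BrauerReynoldsMain
import Cfsg.Agent.Lib.SmallGroups.BrauerReynoldsTwoBound
import Cfsg.Agent.Lib.DefectOne.SmallModule
import Cfsg.Agent.Lib.DefectOne.Principal
import Cfsg.Agent.Lib.BrauerCharacters.PSL2Degrees
import Cfsg.Agent.S4503

/-!
# Simple groups with a character of degree less than `p - 1`

Let `G` be simple with a Sylow subgroup `P` of order `p` and a non-trivial irreducible character of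
degree `D < p - 1`. Then `G` is `PSL(2, p)` with `2 D = p ± 1`, or `PSL(2, 2 ^ a)` with
`p = 2 ^ a + 1` and `D = p - 2`, or `C(P) = P`, `|N(P)| = p (p - 1) / 2` and `2 D = p ± 1`.
-/

set_option autoImplicit false
set_option linter.unusedSectionVars false

namespace CfsgLib.SmallGroups.SmallDegree

open Cfsg CfsgLib.CharTheory CfsgLib.Blocks CfsgLib.BrauerCharacters CfsgLib.DefectOne Finset
  CfsgLib.SmallGroups.BrauerReynolds
open scoped ComplexConjugate IsMulCommutative Classical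

universe u

variable {G : Type u} [Group G] [Fintype G] [IsSimpleGroup G] {p : ℕ} [hp : Fact p.Prime]

/-- `C(P) = P` in the presence of a non-trivial character of degree less than `p`. -/
theorem card_centralizer (hnc : ¬ IsMulCommutative G) (P : Sylow p G)
    (hP : Nat.card ↥(P : Subgroup G) = p) {θ : IrrCharacter G} (h1 : θ ≠ trivIrr G)
    (hθ : charDegree (θ : G → ℂ) < p) :
    Nat.card ↥(Subgroup.centralizer ((P : Subgroup G) : Set G)) = p := by
  obtain ⟨S, hS⟩ := exists_sect_sylow P hP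
  have hG := exactPrime_of_sylow P hP
  have hu1 : S.u ≠ 1 := fun h => by
    have := S.ord
    rw [h, orderOf_one] at this
    exact hp.out.ne_one this.symm
  have hgen : ∀ K : Subgroup G, K.Normal → S.u ∈ K → K = ⊤ := fun K hK hu => by
    rcases IsSimpleGroup.eq_bot_or_eq_top_of_normal K hK with h | h
    · exact absurd (Subgroup.mem_bot.1 (h ▸ hu)) hu1
    · exact h
  have hnn : ∀ H : Subgroup G, H.Normal → Nat.card H ≠ p := fun H hH hc => by
    rcases IsSimpleGroup.eq_bot_or_eq_top_of_normal H hH with h | h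
    · rw [h, Subgroup.card_bot] at hc; exact hp.out.ne_one hc.symm
    · rw [h, Subgroup.card_top] at hc
      haveI : IsCyclic G := isCyclic_of_prime_card hc
      exact hnc ⟨⟨fun a b => IsCyclic.commGroup.mul_comm a b⟩⟩
  have hcen := Below.central_of_lt hG S hgen hnn (IsIrrCharacter.isCharacter θ.2)
    (fun g hg => eq_one_of_apply_eq h1 hg) hθ
  have hV : ∀ v : S.V, (v : G) = 1 := fun v => by
    have hv : (v : G) ∈ Subgroup.center G := Subgroup.mem_center_iff.2 fun g => (hcen v g).symm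
    rcases IsSimpleGroup.eq_bot_or_eq_top_of_normal (Subgroup.center G) inferInstance with h | h
    · rwa [h, Subgroup.mem_bot] at hv
    · exact absurd ⟨⟨fun a b => (Subgroup.mem_center_iff.1 (h ▸ Subgroup.mem_top b) a)⟩⟩ hnc
  obtain ⟨M, hM⟩ := exists_isPModular_of_prime hp.out
  haveI := isPrime_of_isPModular hM
  have hle : Subgroup.centralizer ((P : Subgroup G) : Set G) ≤ (P : Subgroup G) := by
    intro c hc
    rw [← hS] at hc ⊢
    obtain ⟨x, hx, v, hv⟩ := exists_decomp S.ord hG.sq hM S.V.subtype S.range_subtype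
      (Subgroup.mem_centralizer_iff.1 hc _ (Subgroup.mem_zpowers S.u)).symm
    rw [hv, Subgroup.coe_subtype, hV v, mul_one]
    exact hx
  refine le_antisymm ((Subgroup.card_le_of_le hle).trans hP.le) ?_
  haveI : IsCyclic ↥(P : Subgroup G) := isCyclic_of_prime_card hP
  haveI : IsMulCommutative ↥(P : Subgroup G) := ⟨⟨fun a b => IsCyclic.commGroup.mul_comm a b⟩⟩
  exact hP.ge.trans (Subgroup.card_le_of_le (P : Subgroup G).le_centralizer)

/-- With `|N(P)| = p (p - 1)` there is no such character. -/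
theorem false_of_t_one {P : Sylow p G} [IsMulCommutative P] {r : ℕ} (S : Core P (p - 1) 1 r 1)
    {θ : IrrCharacter G} (h1 : θ ≠ trivIrr G) (hθ : charDegree (θ : G → ℂ) + 1 < p) : False := by
  obtain ⟨E, F⟩ := S.exists_frame
  obtain ⟨y, hy, hy1⟩ := S.exists_mem_ne
  set c := (θ : G → ℂ) y with hc
  have hmem : ∀ a : ↥E, (a : G) * y * (a : G)⁻¹ ∈ (P : Subgroup G) :=
    fun a => (Subgroup.mem_normalizer_iff.1 (F.le a.2) y).1 hy
  let f : ↥E → ↥(P : Subgroup G) := fun a => ⟨_, hmem a⟩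
  have hf : Function.Injective f := fun a b h => by
    have h' : (a : G) * y * (a : G)⁻¹ = (b : G) * y * (b : G)⁻¹ := congrArg Subtype.val h
    have hcom : (b : G)⁻¹ * a * y = y * ((b : G)⁻¹ * a) := by
      calc (b : G)⁻¹ * a * y = (b : G)⁻¹ * ((a : G) * y * (a : G)⁻¹) * a := by group
        _ = (b : G)⁻¹ * ((b : G) * y * (b : G)⁻¹) * a := by rw [h']
        _ = _ := by group
    rcases S.eq_one_of_commute F (E.mul_mem (E.inv_mem b.2) a.2) hy hcom with h2 | h2
    · exact Subtype.ext (inv_mul_eq_one.1 h2).symm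
    · exact absurd h2 hy1
  have himg : univ.image f = univ.erase 1 := by
    refine eq_of_subset_of_card_le (fun w hw => ?_) ?_
    · obtain ⟨a, -, rfl⟩ := mem_image.1 hw
      refine mem_erase.2 ⟨fun h => hy1 ?_, mem_univ _⟩
      have h' : (a : G) * y * (a : G)⁻¹ = 1 := congrArg Subtype.val h
      exact conj_eq_one_iff.1 h'
    · rw [card_image_of_injective _ hf, card_erase_of_mem (mem_univ _), card_univ, card_univ,
        ← Nat.card_eq_fintype_card, ← Nat.card_eq_fintype_card, S.cardP, F.card]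
  have hval : ∀ w : ↥(P : Subgroup G), w ≠ 1 → (θ : G → ℂ) w = c := by
    intro w hw
    have hw' : w ∈ univ.image f := by rw [himg]; exact mem_erase.2 ⟨hw, mem_univ _⟩
    obtain ⟨a, -, rfl⟩ := mem_image.1 hw'
    exact IsIrrCharacter.isClassFunction θ.2 y a
  obtain ⟨ψ, hψ⟩ : ∃ ψ : ↥(P : Subgroup G) →* ℂˣ, ψ ≠ 1 := by
    haveI : Finite (↥(P : Subgroup G) →* ℂˣ) := Nat.finite_of_card_ne_zero (by
      rw [CommGroup.card_monoidHom_of_hasEnoughRootsOfUnity, S.cardP]; exact hp.out.ne_zero)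
    haveI : Nontrivial (↥(P : Subgroup G) →* ℂˣ) := Finite.one_lt_card_iff_nontrivial.1 (by
      rw [CommGroup.card_monoidHom_of_hasEnoughRootsOfUnity, S.cardP]; exact hp.out.one_lt)
    exact exists_ne 1
  have hj : ∀ φ : ↥(P : Subgroup G) →* ℂˣ, φ ≠ 1 →
      (multP θ φ : ℂ) = ((p : ℂ))⁻¹ * ((charDegree (θ : G → ℂ) : ℂ) - c) := fun φ hφ => by
    rw [coe_multP, S.cardP, ← add_sum_erase _ _ (mem_univ (1 : ↥(P : Subgroup G))), Subgroup.coe_one,
      (charDegree_spec θ).1, inv_one, map_one, Units.val_one, mul_one,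
      sum_congr rfl fun w hw => by rw [hval w (ne_of_mem_erase hw)], ← mul_sum, sum_erase_eq_sub (mem_univ _),
      Fintype.sum_equiv (Equiv.inv _) (fun w : ↥(P : Subgroup G) => ((φ w⁻¹ : ℂˣ) : ℂ))
        (fun w => (φ w : ℂ)) (fun w => rfl), (Brauer.sum_homUnit φ).trans (if_neg hφ), inv_one, map_one,
      Units.val_one]
    ring
  have hsum := sum_multP (P := P) θ
  have hconst : ∀ φ ∈ univ.erase (1 : ↥(P : Subgroup G) →* ℂˣ), multP θ φ = multP θ ψ := fun φ hφ =>
    Nat.cast_injective (R := ℂ) ((hj φ (ne_of_mem_erase hφ)).trans (hj ψ hψ).symm)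
  rw [← add_sum_erase _ _ (mem_univ (1 : ↥(P : Subgroup G) →* ℂˣ)), sum_congr rfl hconst, sum_const,
    card_erase_of_mem (mem_univ _), card_univ, ← Nat.card_eq_fintype_card,
    CommGroup.card_monoidHom_of_hasEnoughRootsOfUnity, S.cardP, smul_eq_mul] at hsum
  rcases Nat.eq_zero_or_pos (multP θ ψ) with h | h
  · have h' := hj ψ hψ
    rw [h, Nat.cast_zero] at h'
    have : (charDegree (θ : G → ℂ) : ℂ) = c :=
      sub_eq_zero.1 ((mul_eq_zero.1 h'.symm).resolve_left (inv_ne_zero (Nat.cast_ne_zero.2 hp.out.ne_zero)))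
    exact hy1 (eq_one_of_apply_eq h1 (this.symm.trans (charDegree_spec θ).1.symm))
  · have : p - 1 ≤ (p - 1) * multP θ ψ := Nat.le_mul_of_pos_right _ h
    omega

/-- The degrees of `PSL(2, p)` below `p - 1`. -/
theorem degree_of_psl (hnc : ¬ IsMulCommutative G) {F : Type} [Field F] [Fintype F] (hF : Fintype.card F = p) (h3 : 3 < p)
    (e : G ≃* Matrix.ProjectiveSpecialLinearGroup (Fin 2) F) {θ : IrrCharacter G}
    (h1 : θ ≠ trivIrr G) (hθ : charDegree (θ : G → ℂ) + 1 < p) :
    2 * charDegree (θ : G → ℂ) = p + 1 ∨ 2 * charDegree (θ : G → ℂ) + 1 = p := by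
  classical
  obtain ⟨χ, hχ⟩ : ∃ χ : IrrCharacter (Matrix.ProjectiveSpecialLinearGroup (Fin 2) F),
      ∀ x, (χ : _ → ℂ) x = (θ : G → ℂ) (e.symm x) :=
    ⟨⟨_, CharTheory.isIrrCharacter_comp_mulEquiv θ.2 e.symm⟩, fun x => rfl⟩
  have hdeg : charDegree (χ : Matrix.ProjectiveSpecialLinearGroup (Fin 2) F → ℂ) = charDegree (θ : G → ℂ) := by
    rw [charDegree, charDegree, hχ, map_one]
  have hodd : Odd (Fintype.card F) := hF ▸ hp.out.odd_of_ne_two (by omega)
  have hne1 : charDegree (θ : G → ℂ) ≠ 1 := fun hd => by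
    have hθ1 : ∀ a b : G, (θ : G → ℂ) (a * b) = (θ : G → ℂ) a * (θ : G → ℂ) b := by
      obtain ⟨n, ρ, hρ, hc⟩ := θ.2
      have hn : n = 1 := by
        have := hd
        rw [charDegree, ← hc, Representation.char_one, Module.finrank_fin_fun, Complex.natCast_re,
          Nat.floor_natCast] at this
        exact this
      subst hn
      intro a b
      rw [← hc]
      show LinearMap.trace ℂ _ (ρ (a * b)) = LinearMap.trace ℂ _ (ρ a) * LinearMap.trace ℂ _ (ρ b)
      rw [LinearMap.trace_eq_matrix_trace ℂ (Pi.basisFun ℂ (Fin 1)),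
        LinearMap.trace_eq_matrix_trace ℂ (Pi.basisFun ℂ (Fin 1)),
        LinearMap.trace_eq_matrix_trace ℂ (Pi.basisFun ℂ (Fin 1)), map_mul, LinearMap.toMatrix_mul,
        Matrix.trace_fin_one, Matrix.trace_fin_one, Matrix.trace_fin_one, Matrix.mul_apply,
        Fin.sum_univ_one]
    have hone : (θ : G → ℂ) 1 = 1 := by rw [(charDegree_spec θ).1, hd, Nat.cast_one]
    -- a linear character of a perfect group is trivial
    have hker : ∀ a b : G, a * b * a⁻¹ * b⁻¹ = 1 := fun a b => by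
      refine eq_one_of_apply_eq h1 ?_
      have ha : (θ : G → ℂ) a * (θ : G → ℂ) a⁻¹ = 1 := by rw [← hθ1, mul_inv_cancel, hone]
      have hb : (θ : G → ℂ) b * (θ : G → ℂ) b⁻¹ = 1 := by rw [← hθ1, mul_inv_cancel, hone]
      rw [hθ1, hθ1, hθ1, hone]
      linear_combination ((θ : G → ℂ) b * (θ : G → ℂ) b⁻¹) * ha + hb
    haveI : IsMulCommutative G := ⟨⟨fun a b => by
      have := hker a b
      rwa [mul_inv_eq_one, mul_inv_eq_iff_eq_mul] at this⟩⟩
    exact hnc inferInstance
  rcases BrauerCharacters.PSL2.degree_cases_odd hodd (BrauerCharacters.PSL2.inflate χ) with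
    h | h | h | h | h | h <;> rw [BrauerCharacters.PSL2.charDegree_inflate, hdeg] at h <;>
    (try rw [hF] at h) <;> obtain ⟨k, hk⟩ := hp.out.odd_of_ne_two (by omega : p ≠ 2) <;> omega

/-- The first classification. -/
theorem small_degree_cases (hnc : ¬ IsMulCommutative G) (P : Sylow p G)
    (hP : Nat.card ↥(P : Subgroup G) = p) {θ : IrrCharacter G} (h1 : θ ≠ trivIrr G)
    (hθ : charDegree (θ : G → ℂ) + 1 < p) :
    (∃ (F : Type) (_ : Field F) (_ : Fintype F), Fintype.card F = p ∧ 3 < p ∧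
      Nonempty (G ≃* Matrix.ProjectiveSpecialLinearGroup (Fin 2) F) ∧
      (2 * charDegree (θ : G → ℂ) = p + 1 ∨ 2 * charDegree (θ : G → ℂ) + 1 = p)) ∨
    (∃ (m : ℕ) (F : Type) (_ : Field F) (_ : Fintype F), Fintype.card F = 2 ^ m ∧ p = 2 ^ m + 1 ∧
      3 < p ∧ Nonempty (G ≃* Matrix.ProjectiveSpecialLinearGroup (Fin 2) F) ∧
      charDegree (θ : G → ℂ) + 2 = p) ∨
    (∃ (e r : ℕ), Setup P e 1 r 2 ∧
      (2 * charDegree (θ : G → ℂ) = p + 1 ∨ 2 * charDegree (θ : G → ℂ) + 1 = p)) := by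
  obtain ⟨m, hm⟩ : p ∣ Nat.card G := hP ▸ Subgroup.card_subgroup_dvd_card _
  have hm' : ¬ p ∣ m := fun h => by
    have hidx := (P : Subgroup G).card_mul_index
    rw [hP, hm] at hidx
    exact P.not_dvd_index (by rwa [Nat.eq_of_mul_eq_mul_left hp.out.pos hidx])
  obtain ⟨c, e, hC, hN, he1, hedvd, hceq⟩ := sylow_prime_data hnc hm hm' P
  have hc : c = 1 := by
    rw [card_centralizer hnc P hP h1 (by omega)] at hC
    exact (Nat.eq_of_mul_eq_mul_left hp.out.pos (by rw [mul_one]; exact hC)).symm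
  subst hc
  obtain ⟨t, ht⟩ := hedvd
  obtain ⟨r, hr⟩ : ∃ r, Nat.card (Sylow p G) = 1 + r * p := by
    refine ⟨Nat.card (Sylow p G) / p, ?_⟩
    have hmod := card_sylow_modEq_one p G
    have h := Nat.div_add_mod (Nat.card (Sylow p G)) p
    rw [Nat.ModEq, Nat.mod_eq_of_lt hp.out.one_lt] at hmod
    rw [hmod, mul_comm] at h
    omega
  have hr0 : 1 ≤ r := by
    have := one_lt_card_sylow hnc (p := p) ⟨m, hm⟩
    rw [hr] at this
    rcases Nat.eq_zero_or_pos r with h | h
    · rw [h, zero_mul] at this; omega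
    · exact h
  have hep : e < p := by
    have := Nat.le_of_dvd (by have := hp.out.two_le; omega) (Dvd.intro t ht.symm)
    have := hp.out.two_le
    omega
  rcases hr0.eq_or_lt with h | h2
  · -- `p + 1` Sylow subgroups
    subst h
    rw [one_mul] at hr
    left
    obtain ⟨F, iF, jF, hF, h3, ⟨iso⟩⟩ := psl_of_one hnc (d := e) (by rw [hr, add_comm])
      (by rw [← card_sylow_mul_card_normalizer P, hr, hN]; ring) he1 hep
    exact ⟨F, iF, jF, hF, h3, ⟨iso⟩, degree_of_psl hnc hF h3 iso h1 hθ⟩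
  haveI : IsMulCommutative ↥(P : Subgroup G) := by
    haveI : IsCyclic ↥(P : Subgroup G) := isCyclic_of_prime_card hP
    exact ⟨⟨fun a b => IsCyclic.commGroup.mul_comm a b⟩⟩
  have hcore : Core P e 1 r t := ⟨hnc, hP, hC, hN, hr, he1, ht, h2⟩
  rcases (show t = 1 ∨ 2 ≤ t by have := hcore.t_pos; omega) with ht1 | ht2
  · subst ht1
    have he : e = p - 1 := by rw [ht, mul_one]
    subst he
    exact (false_of_t_one hcore h1 hθ).elim
  have S : Setup P e 1 r t := { hcore with t2 := ht2 }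
  obtain ⟨M, hM⟩ := CfsgLib.CharDegreesTheory.exists_isPModular hp.out
  haveI : M.IsPrime := hM.2.1.isPrime
  haveI : Fintype (IrrCharacter G) := Fintype.ofFinite _
  obtain ⟨E, F⟩ := hcore.exists_frame
  haveI := hcore.comm_E F
  obtain ⟨D, L, T, HS, hY⟩ := exists_small S hM F h1 hθ
  have hdeg := HS.deg θ hY
  have hpe := S.p_eq
  rcases HS.LT with ⟨hL, hT⟩ | ⟨hL, hT⟩
  · subst hT
    rw [hL] at hdeg
    push_cast at hdeg
    rcases two_cases S hM F HS with he2 | ht2'
    · subst he2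
      have hD2 : charDegree (θ : G → ℂ) + 2 = p := by omega
      have hlt := S.card_lt_cube hM D F ⟨θ, hD2⟩
      have hnotcyc : ¬ IsCyclic G := fun h => hnc ⟨⟨fun a b => IsCyclic.commGroup.mul_comm a b⟩⟩
      rcases brauer_reynolds hnotcyc ⟨m, hm⟩ hlt with
        ⟨F', iF, jF, hF, h3, ⟨iso⟩⟩ | ⟨k, F', iF, jF, hF, hk, h3, iso⟩
      · exact Or.inl ⟨F', iF, jF, hF, h3, ⟨iso⟩, degree_of_psl hnc hF h3 iso h1 hθ⟩
      · exact Or.inr (Or.inl ⟨k, F', iF, jF, hF, hk, h3, iso, hD2⟩)
    · subst ht2'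
      exact Or.inr (Or.inr ⟨e, r, S, Or.inl (by omega)⟩)
  · subst hT
    rw [hL] at hdeg
    push_cast at hdeg
    have hle : p ≤ 2 * charDegree (θ : G → ℂ) + 1 := by
      refine Cfsg.Agent.S4503.result p hp.out ⟨m, hm⟩ (exactPrime_of_sylow P hP).sq ?_ (θ : G → ℂ)
        (IsIrrCharacter.isCharacter θ.2) fun g hg => eq_one_of_apply_eq h1 hg
      intro H hH hcH
      rcases IsSimpleGroup.eq_bot_or_eq_top_of_normal H hH with h | h
      · rw [h, Subgroup.card_bot] at hcH; exact hp.out.ne_one hcH.symm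
      · rw [h, Subgroup.card_top] at hcH
        haveI : IsCyclic G := isCyclic_of_prime_card hcH
        exact hnc ⟨⟨fun a b => IsCyclic.commGroup.mul_comm a b⟩⟩
    have ht2' : t = 2 := by
      by_contra hne
      have h3 : e * 3 ≤ e * t := Nat.mul_le_mul_left _ (by omega)
      omega
    subst ht2'
    exact Or.inr (Or.inr ⟨e, r, S, Or.inr (by omega)⟩)

end CfsgLib.SmallGroups.SmallDegree
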