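import Cfsg.Agent.Lib.SmallGroups.QuasiSimpleSquares
import Cfsg.Agent.Lib.SmallGroups.SmallDegreeCore
import Cfsg.Agent.Lib.CharTheory.Inflation
import Cfsg.Agent.Lib.DefectOne.SmallDegree

/-!
# The degrees below `p - 1` of a quasi-simple group with a centre of odd order
-/

set_option autoImplicit false
set_option linter.style.haveILetI false
set_option linter.unusedSectionVars false

namespace CfsgLib.SmallGroups.QuasiSimple

open Cfsg CfsgLib.CharTheory CfsgLib.Blocks CfsgLib.DefectOne CfsgLib.SmallGroups.SmallDegree Finset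
open scoped ComplexConjugate Classical

variable {G : Type*} [Group G] [Fintype G] {p : ℕ} [hp : Fact p.Prime] {S : Sect G p}

/-- With a central character only its row is not zero. -/
theorem eq_linIrr_of_rowT_ne (hG : ExactPrime G p) {φ : S.V →* ℂˣ} {x : IrrCharacter G}
    (hx : HasCentral S φ (x : G → ℂ)) {ψ' : IrrCharacter S.V} (h : rowT hG S x ψ' ≠ 0) :
    ψ' = linIrr φ := by
  by_contra hne
  refine h ?_
  have hrow : ∀ i, row S (x : G → ℂ) ψ' i = 0 := fun i => by
    have h1 : (fun v : S.V => (x : G → ℂ) (S.u ^ i * v)) = (x : G → ℂ) (S.u ^ i) • (linIrr φ : S.V → ℂ) :=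
      funext fun v => by rw [hx, Pi.smul_apply, smul_eq_mul, linIrr_apply, mul_comm]
    show classInner (fun v : S.V => (x : G → ℂ) (S.u ^ i * v)) _ = 0
    rw [h1, classInner_smul_left, classInner_irrCharacter, if_neg (Ne.symm hne), mul_zero]
  have h' := sum_row_units hG S x ψ'
  rw [Finset.sum_eq_zero fun k _ => hrow _] at h'
  exact (mul_eq_zero.1 h'.symm).resolve_left (Nat.cast_ne_zero.2 (galStab_pos hG x).ne')

variable {ψ : G → ℂ} (h : Hyp S ψ)
include h

/-- A character meeting a section in a proper orbit heads a family. -/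
theorem Hyp.exists_fam {φ : S.V →* ℂˣ} {x : IrrCharacter G} (hx : HasCentral S φ (x : G → ℂ))
    {s : ℤ} (hs : rowT h.exact S x (linIrr φ) = s) (hs1 : s = 1 ∨ s = -1)
    (hg : galStab h.exact x = rowE S (trivIrr S.V)) :
    ∃ X : Fam S φ s, ∀ a, charDegree (X.x a : G → ℂ) = charDegree (x : G → ℂ) := by
  have hG := h.exact
  have hc := h.cent
  set H := eGroup S (trivIrr S.V) with hH
  have hcl := IsIrrCharacter.isClassFunction x.2
  have hval1 : ∀ (k : (ZMod p)ˣ) (i : ZMod p),
      (gal hG k x : G → ℂ) (S.u ^ i.val) = (x : G → ℂ) (S.u ^ ((k : ZMod p) * i).val) := fun k i => by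
    rw [gal_apply, ← pow_mul]
    refine congrArg (x : G → ℂ) ?_
    rw [pow_eq_pow_iff_modEq, S.ord]
    refine ((gexp_modEq_left hG _).mul_left i.val).trans ((ZMod.natCast_eq_natCast_iff _ _ _).1 ?_)
    rw [Nat.cast_mul, ZMod.natCast_zmod_val, ZMod.natCast_zmod_val, ZMod.natCast_zmod_val, mul_comm]
  have hcen : ∀ k : (ZMod p)ˣ, HasCentral S φ (gal hG k x : G → ℂ) := fun k g v => by
    rw [gal_apply, gal_apply, (show Commute g (v : G) from (hc v g).symm).mul_pow,
      gexp_pow_regular hG (S.reg v), hx]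
  have hfix : ∀ l ∈ H, gal hG l x = x := fun l hl => by
    refine Subtype.ext (ext_sect hG S hc (IsIrrCharacter.isClassFunction (gal hG l x).2) hcl (hcen l) hx
      (fun g hg' => gal_regular hG l x hg') fun k => ?_)
    rw [hval1]
    exact apply_orb hG S hc hcl (mem_orb.2 ⟨⟨l, hl⟩, rfl⟩)
  set d := dfun hG S x (linIrr φ) with hd
  have hs0 : rowT hG S x (linIrr φ) ≠ 0 := by
    rw [hs]; rcases hs1 with h' | h' <;> simp [h']
  have hsq : ∑ j, d j ^ 2 = (rowE S (trivIrr S.V) : ℤ) := by rw [hd, h.sum_sq_eq hs0, hg]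
  have hsum : ∑ j, d j = -((rowE S (trivIrr S.V) : ℤ) * s) := by
    refine Int.cast_injective (α := ℂ) ?_
    push_cast
    rw [sum_dfun hG, hg, hs]
  have he0 : (0 : ℤ) < rowE S (trivIrr S.V) := by exact_mod_cast rowE_pos hG S _
  obtain ⟨j₀, hj₀⟩ : ∃ j, d j ≠ 0 := by
    by_contra hno
    push Not at hno
    simp only [hno, Finset.sum_const_zero] at hsum
    rcases hs1 with h' | h' <;> rw [h'] at hsum <;> linarith
  set C := (univ : Finset H).image fun l : H => j₀ * (l : (ZMod p)ˣ) with hC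
  have hinj : Function.Injective fun l : H => j₀ * (l : (ZMod p)ˣ) := fun a b hab =>
    Subtype.ext (mul_left_cancel hab)
  have hconst : ∀ j ∈ C, d j = d j₀ := fun j hj => by
    obtain ⟨l, -, rfl⟩ := mem_image.1 hj
    exact dfun_mul hG S x _ (hfix l l.2) j₀
  have hCcard : C.card = rowE S (trivIrr S.V) := by
    rw [hC, card_image_of_injective _ hinj, card_univ, rowE, Nat.card_eq_fintype_card]
  have hC2 : ∑ j ∈ C, d j ^ 2 = (rowE S (trivIrr S.V) : ℤ) * d j₀ ^ 2 := by
    rw [sum_congr rfl fun j hj => by rw [hconst j hj], sum_const, hCcard, nsmul_eq_mul]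
  have hsplit := sum_sdiff (f := fun j => d j ^ 2) (subset_univ C)
  rw [hsq, hC2] at hsplit
  have hrest0 : (0 : ℤ) ≤ ∑ j ∈ univ \ C, d j ^ 2 := sum_nonneg fun j _ => sq_nonneg _
  have hd1 : d j₀ ^ 2 = 1 := by
    have h1 : (rowE S (trivIrr S.V) : ℤ) * d j₀ ^ 2 ≤ rowE S (trivIrr S.V) * 1 := by linarith
    have := le_of_mul_le_mul_left h1 he0
    have : 0 < d j₀ ^ 2 := sq_pos_of_ne_zero hj₀
    omega
  have hout : ∀ j, j ∉ C → d j = 0 := fun j hj => by
    rw [hd1, mul_one] at hsplit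
    have h0 : ∑ j ∈ univ \ C, d j ^ 2 = 0 := by linarith
    exact pow_eq_zero_iff two_ne_zero |>.1
      ((sum_eq_zero_iff_of_nonneg fun j _ => sq_nonneg _).1 h0 j (mem_sdiff.2 ⟨mem_univ _, hj⟩))
  have hdj : d j₀ = -s := by
    rw [← sum_subset (subset_univ C) fun j _ hj => hout j hj, sum_congr rfl hconst, sum_const, hCcard,
      nsmul_eq_mul] at hsum
    refine mul_left_cancel₀ he0.ne' ?_
    linarith
  have hrow : ∀ i : (ZMod p)ˣ, (x : G → ℂ) (S.u ^ (i : ZMod p).val) =
      -(s : ℂ) * Th H (j₀ : ZMod p) i := fun i => by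
    have h1 := rowU_eq hG S x (linIrr φ) i
    rw [rowU, row_linIrr (f := (x : G → ℂ)) hx, ← hd] at h1
    rw [h1, ← sum_subset (subset_univ C) fun j _ hj => by rw [hout j hj, Int.cast_zero, zero_mul],
      hC, sum_image fun a _ b _ hab => hinj hab, Th, mul_sum]
    refine sum_congr rfl fun l _ => ?_
    rw [hconst _ (mem_image_of_mem _ (mem_univ l)), hdj, Units.val_mul, Int.cast_neg,
      mul_comm (j₀ : ZMod p)]
  let f : ZMod p → IrrCharacter G := fun a =>
    if ha : a = 0 then x else gal hG (Units.mk0 a ha * j₀⁻¹) x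
  have hfreg : ∀ a g, ¬ p ∣ orderOf g → (f a : G → ℂ) g = (x : G → ℂ) g := fun a g hg' => by
    simp only [f]
    split_ifs with ha
    · rfl
    · exact gal_regular hG _ x hg'
  refine ⟨⟨f, by rcases hs1 with h' | h' <;> rw [h'] <;> norm_num, fun a => ?_,
    fun a b g hg' => by rw [hfreg a g hg', hfreg b g hg'], fun a ha i hi => ?_⟩, fun a => ?_⟩
  · simp only [f]
    split_ifs with ha
    · exact hx
    · exact hcen _
  · simp only [f, dif_neg ha]
    rw [hval1]
    set k : (ZMod p)ˣ := Units.mk0 a ha * j₀⁻¹ * Units.mk0 i hi with hk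
    have hk' : ((Units.mk0 a ha * j₀⁻¹ : (ZMod p)ˣ) : ZMod p) * i = (k : ZMod p) := by
      rw [hk, Units.val_mul _ (Units.mk0 i hi), Units.val_mk0]
    rw [hk', hrow k, Th, Th]
    congr 1
    refine sum_congr rfl fun l _ => congrArg zp ?_
    rw [hk, Units.val_mul, Units.val_mul, Units.val_mk0, Units.val_mk0]
    have hj : (j₀ : ZMod p) * ((j₀⁻¹ : (ZMod p)ˣ) : ZMod p) = 1 := Units.mul_inv j₀
    linear_combination (((l : (ZMod p)ˣ) : ZMod p) * a * i) * hj
  · rw [charDegree, charDegree, hfreg a 1 (by rw [orderOf_one]; exact hG.prime.not_dvd_one)]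

/-- The family of the square of the central character. -/
theorem Hyp.exists_fam_sq (hodd : Odd (Nat.card S.V)) {φ : S.V →* ℂˣ} (X : Fam S φ 1) :
    ∃ Y : Fam S (φ * φ) 1, ∀ a, charDegree (Y.x a : G → ℂ) = charDegree (X.x a : G → ℂ) := by
  have hG := h.exact
  have hc := h.cent
  haveI : NeZero (Nat.card G) := ⟨Nat.card_pos.ne'⟩
  have hpc : Nat.Coprime p (Nat.card S.V) := hG.prime.coprime_iff_not_dvd.2 S.not_dvd_card
  obtain ⟨r, hr1, hr2⟩ := Nat.chineseRemainder hpc 1 2
  have hm : p * Nat.card S.V ∣ Nat.card G :=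
    hpc.mul_dvd_of_dvd_of_dvd hG.dvd (Subgroup.card_subgroup_dvd_card _)
  have hr : r.Coprime (p * Nat.card S.V) := by
    refine Nat.Coprime.mul_right ?_ ?_
    · rw [Nat.Coprime, Nat.ModEq.gcd_eq hr1, Nat.gcd_one_left]
    · rw [Nat.Coprime, Nat.ModEq.gcd_eq hr2]
      exact Nat.prime_two.coprime_iff_not_dvd.2 (fun h2 => (Nat.not_even_iff_odd.2 hodd) (even_iff_two_dvd.2 h2))
  obtain ⟨z, hz⟩ := ZMod.unitsMap_surjective hm (ZMod.unitOfCoprime r hr)
  set k := (z : ZMod (Nat.card G)).val with hk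
  have hkG : k.Coprime (Nat.card G) := ZMod.val_coe_unit_coprime z
  have hkm : k ≡ r [MOD p * Nat.card S.V] := by
    rw [← ZMod.natCast_eq_natCast_iff, hk, ← ZMod.coe_unitOfCoprime r hr, ← hz, ZMod.unitsMap_val,
      ZMod.natCast_val]
  have hkp : k ≡ 1 [MOD p] := (hkm.of_dvd (dvd_mul_right _ _)).trans hr1
  have hkc : k ≡ 2 [MOD Nat.card S.V] := (hkm.of_dvd (dvd_mul_left _ _)).trans hr2
  obtain ⟨σ, hσ⟩ := CharDegreesTheory.exists_ringAut_complex (Nat.card G) k hkG
  have hirr : ∀ a, IsIrrCharacter G fun g => (X.x a : G → ℂ) (g ^ k) := fun a => by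
    have h1 := CharDegreesTheory.isIrrCharacter_ringAut σ (X.x a).2
    simpa only [CharDegreesTheory.ringAut_apply_character σ hσ (IsIrrCharacter.isCharacter (X.x a).2)
      (orderOf_dvd_natCard _)] using h1
  refine ⟨⟨fun a => ⟨_, hirr a⟩, X.T_sq, fun a g v => ?_, fun a b g hg => ?_, fun a ha i hi => ?_⟩, fun a => ?_⟩
  · show (X.x a : G → ℂ) ((g * v) ^ k) = _ * (X.x a : G → ℂ) (g ^ k)
    rw [(show Commute g (v : G) from (hc v g).symm).mul_pow, ← SubmonoidClass.coe_pow, X.central]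
    congr 1
    rw [map_pow, MonoidHom.mul_apply, ← pow_two]
    congr 1
    exact pow_eq_pow_iff_modEq.2 (hkc.of_dvd (((orderOf_map_dvd φ v).trans (orderOf_dvd_natCard v))))
  · exact X.reg a b _ fun hd => hg (hd.trans (orderOf_pow_dvd k))
  · show (X.x a : G → ℂ) ((S.u ^ i.val) ^ k) = _
    rw [← X.val a ha i hi, ← pow_mul]
    refine congrArg _ ?_
    rw [pow_eq_pow_iff_modEq, S.ord]
    simpa using hkp.mul_left i.val
  · show charDegree (fun g => (X.x a : G → ℂ) (g ^ k)) = _
    rw [charDegree, charDegree, one_pow]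

/-- The simple quotient has no other small degrees. -/
theorem Hyp.small_trivial {θ : IrrCharacter G}
    (hker : ∀ z ∈ Subgroup.center G, (θ : G → ℂ) z = (θ : G → ℂ) 1)
    (hne : charDegree (θ : G → ℂ) ≠ 1) (hdeg : charDegree (θ : G → ℂ) + 1 < p) :
    2 * charDegree (θ : G → ℂ) = p + 1 ∨ 2 * charDegree (θ : G → ℂ) + 1 = p ∨
      charDegree (θ : G → ℂ) + 2 = p := by
  have hG := h.exact
  obtain ⟨θ', hθ', hθeq⟩ := exists_descend θ.2 (Subgroup.center G) hker
  haveI := h.simple
  haveI : Fintype (G ⧸ Subgroup.center G) := Fintype.ofFinite _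
  haveI : Fintype (IrrCharacter (G ⧸ Subgroup.center G)) := Fintype.ofFinite _
  let χ : IrrCharacter (G ⧸ Subgroup.center G) := ⟨θ', hθ'⟩
  have hd : charDegree (χ : G ⧸ Subgroup.center G → ℂ) = charDegree (θ : G → ℂ) := by
    show charDegree θ' = _
    rw [charDegree, charDegree, hθeq 1, QuotientGroup.mk_one]
  have hmul := Subgroup.card_mul_index (Subgroup.center G)
  rw [Subgroup.index] at hmul
  have hdvd : p ∣ Nat.card (G ⧸ Subgroup.center G) :=
    (hG.prime.dvd_mul.1 (hmul.symm ▸ hG.dvd)).resolve_left h.not_dvd_center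
  have hfac : (Nat.card (G ⧸ Subgroup.center G)).factorization p = 1 := by
    refine le_antisymm ?_ (hG.prime.factorization_pos_of_dvd Nat.card_pos.ne' hdvd)
    by_contra h'
    push Not at h'
    refine hG.sq (((hG.prime.pow_dvd_iff_le_factorization Nat.card_pos.ne').2 h').trans ?_)
    exact Dvd.intro_left _ hmul
  obtain ⟨P⟩ : Nonempty (Sylow p (G ⧸ Subgroup.center G)) := inferInstance
  have hP : Nat.card ↥(P : Subgroup (G ⧸ Subgroup.center G)) = p := by
    rw [P.card_eq_multiplicity, hfac, pow_one]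
  have h1 : χ ≠ trivIrr (G ⧸ Subgroup.center G) := fun h' => hne (by
    rw [← hd, h', charDegree]
    simp [trivIrr_apply])
  rcases small_degree_cases h.not_comm P hP h1 (by rw [hd]; exact hdeg) with
    ⟨_, _, _, _, _, _, h'⟩ | ⟨_, _, _, _, _, _, _, _, h'⟩ | ⟨_, _, _, h'⟩
  · rw [hd] at h'; rcases h' with h' | h'
    · exact Or.inl h'
    · exact Or.inr (Or.inl h')
  · rw [hd] at h'; exact Or.inr (Or.inr h')
  · rw [hd] at h'; rcases h' with h' | h'
    · exact Or.inl h'
    · exact Or.inr (Or.inl h')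

/-- The degree of a faithful character below `p - 1`. -/
theorem Hyp.degree_cases (hodd : Odd (Nat.card (Subgroup.center G))) :
    2 * charDegree ψ + 1 = p ∨ 2 * charDegree ψ = p + 1 ∨ p ≤ charDegree ψ + 2 := by
  by_contra hcon
  push Not at hcon
  obtain ⟨hA, hB, hbig⟩ := hcon
  have hG := h.exact
  have hc := h.cent
  obtain ⟨M, hM⟩ := exists_isPModular_of_prime hG.prime
  haveI := isPrime_of_isPModular hM
  haveI := Fintype.ofFinite (IrrCharacter G)
  have hoddV : Odd (Nat.card S.V) := by rwa [h.center_eq] at hodd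
  set e := rowE S (trivIrr S.V) with he
  set D := charDegree ψ with hD
  have hDchi : charDegree (h.chi : G → ℂ) = D := rfl
  have hD0 : charDegree (h.chi : G → ℂ) ≠ 0 := charDegree_ne_zero' h.chi
  -- the family of `ψ`
  obtain ⟨φ', hφ'⟩ := (not_dvd_degree_iff hG S hM h.chi).1 fun hd => by
    have h1 := Nat.le_of_dvd (Nat.pos_of_ne_zero hD0) hd
    omega
  have hcen : HasCentral S h.lamHom (h.chi : G → ℂ) := fun g v => h.chi_mul g v
  have hφl := eq_linIrr_of_rowT_ne hG hcen hφ'
  subst hφl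
  have hnfix : galStab hG h.chi ≠ p - 1 := fun hf => by
    have h1 := apply_eq_of_fixed_small hG S hf (by omega)
    exact h.u_ne_one (h.faith _ h1)
  obtain ⟨-, θ₁, -, hθ₁e, hdich, -⟩ := count hG S hM (linIrr h.lamHom)
  have hg : galStab hG h.chi = e := by
    rw [galStab_eq hG ((hdich h.chi hφ').resolve_right hnfix), hθ₁e, he, h.rowE_eq _ (trivIrr S.V)]
  obtain ⟨s, hs, hs3⟩ := (rowT_spec hG S hM h.chi).1 (linIrr h.lamHom)
  have hs1 : s = 1 ∨ s = -1 := hs3.resolve_left fun h0 => hφ' (by rw [hs, h0, Int.cast_zero])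
  obtain ⟨X₁, hX₁⟩ := h.exists_fam hcen hs hs1 hg
  obtain ⟨E, hE⟩ := exists_comp hG S hc
  haveI : Finite (E →* ℂˣ) := by
    letI : CommGroup E := { (inferInstance : Group E) with
      mul_comm := fun a b => Subtype.ext (hE.comm a a.2 b b.2) }
    infer_instance
  haveI : Fintype (E →* ℂˣ) := Fintype.ofFinite _
  have hdegnat : ∀ {φ : S.V →* ℂˣ} {T : ℤ} (X : Fam S φ T), ∃ L : ℕ,
      (charDegree (X.x 1 : G → ℂ) : ℤ) = (p : ℤ) * L - T * e := by
    intro φ T X
    choose w hw using hE.exists_wt_nat hG S hc (IsIrrCharacter.isCharacter (X.x 1).2)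
    refine ⟨∑ β, w β, Int.cast_injective (α := ℂ) ?_⟩
    push_cast
    rw [sum_congr rfl fun β _ => (hw β).symm, hE.sum_wt hG S hc, X.pm_eq hG S one_ne_zero,
      if_neg fun h' => ne_zero_of_mem_orb one_ne_zero h' rfl, sub_zero, ← he,
      mul_div_cancel₀ _ (Nat.cast_ne_zero.2 hp.out.ne_zero : (p : ℂ) ≠ 0)]
    ring
  obtain ⟨L₁, hL₁⟩ := hdegnat X₁
  rw [hX₁, hDchi] at hL₁
  have hedvd : e ∣ p - 1 := rowE_dvd hG S _
  have hep : e < p := by
    have h1 := Nat.le_of_dvd (by have := hG.prime.two_le; omega) hedvd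
    have := hG.prime.two_le
    omega
  obtain ⟨t, ht⟩ := hedvd
  have he1 : e ≠ p - 1 := fun h' => hnfix (hg.trans h')
  have ht2 : 2 ≤ t := by
    rcases t with _ | _ | t
    · rw [mul_zero] at ht; have := hG.prime.two_le; omega
    · exact absurd (by rw [ht]; simp) he1
    · omega
  have he2 : 2 * e ≤ p - 1 := by rw [ht, mul_comm 2]; exact Nat.mul_le_mul_left e ht2
  have hD2 : 2 ≤ D := by
    by_contra hlt
    have hd1 : D = 1 := by omega
    have hab : ∀ a b : G, a * b = b * a := comm_of_linear h.faith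
      (m := fun x => if x = h.chi then 1 else 0)
      (by rw [sum_eq_single h.chi (fun b _ hb => by simp [hb]) (fun h' => absurd (mem_univ _) h')]
          simp only [if_true, Nat.cast_one, one_smul]
          rfl)
      (fun x hx => by
        have : x = h.chi := by by_contra h'; exact hx (if_neg h')
        rw [this, hDchi, hd1])
    exact h.u_not_mem_center (Subgroup.mem_center_iff.2 fun x => hab x S.u)
  have hpt : p = e * t + 1 := by have := hG.prime.one_le; omega
  rcases hs1 with rfl | rfl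
  · -- `D = p - e`
    have hL₁' : L₁ = 1 := by
      rw [one_mul] at hL₁
      rcases Nat.lt_or_ge L₁ 2 with h' | h'
      · rcases Nat.lt_or_ge L₁ 1 with h'' | h''
        · obtain rfl : L₁ = 0 := by omega
          simp at hL₁; omega
        · omega
      · have : (p : ℤ) * 2 ≤ p * L₁ := mul_le_mul_of_nonneg_left (by exact_mod_cast h') (Int.natCast_nonneg _)
        omega
    rw [hL₁', Nat.cast_one, mul_one, one_mul] at hL₁
    have he3 : 3 ≤ e := by omega
    have ht3 : 3 ≤ t := by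
      by_contra h'
      obtain rfl : t = 2 := by omega
      omega
    have hd₁ : (charDegree (X₁.x 1 : G → ℂ) : ℤ) = (p : ℤ) - e := by rw [hX₁, hDchi, hL₁]
    obtain ⟨X₂, hX₂⟩ := h.exists_fam_sq hoddV X₁
    have hd₂ : (charDegree (X₂.x 1 : G → ℂ) : ℤ) = (p : ℤ) - e := by rw [hX₂, hd₁]
    -- the principal family
    obtain ⟨θ, hθ, hθe, -, -, -, -, -⟩ := exists_exceptional hG S hM (trivIrr S.V)
    obtain ⟨s₀, hs₀, hs₀3⟩ := (rowT_spec hG S hM θ).1 (trivIrr S.V)
    have hs₀1 : s₀ = 1 ∨ s₀ = -1 := hs₀3.resolve_left fun h0 => hθ (by rw [hs₀, h0, Int.cast_zero])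
    have hz : ∀ v : S.V, ∃ c : ℂˣ, ∀ g, (θ : G → ℂ) (g * v) = (c : ℂ) * (θ : G → ℂ) g := fun v => by
      obtain ⟨c, hc1, hcv, -⟩ := exists_central_apply θ.2 (h.center_eq.ge v.2)
      exact ⟨Units.mk0 c (fun h0 => by rw [h0, norm_zero] at hc1; exact zero_ne_one hc1), hcv⟩
    choose μ hμ using hz
    have hθ10 : (θ : G → ℂ) 1 ≠ 0 := apply_one_ne_zero_of_isIrr θ.2
    have hμmul : ∀ v w : S.V, μ (v * w) = μ v * μ w := fun v w => Units.ext (mul_right_cancel₀ hθ10 (by
      rw [Units.val_mul, ← hμ, one_mul, Subgroup.coe_mul, hμ w, ← one_mul (v : G), hμ v]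
      ring))
    let μh : S.V →* ℂˣ := MonoidHom.mk' μ hμmul
    have hθc : HasCentral S μh (θ : G → ℂ) := fun g v => hμ v g
    have htriv : linIrr (1 : S.V →* ℂˣ) = trivIrr S.V := Subtype.ext (funext fun v => by
      rw [linIrr_apply, trivIrr_apply, MonoidHom.one_apply, Units.val_one])
    have hμ1 : μh = 1 := by
      have h1 := eq_linIrr_of_rowT_ne hG hθc hθ
      refine MonoidHom.ext fun v => Units.ext ?_
      rw [← linIrr_apply μh, ← h1, trivIrr_apply, MonoidHom.one_apply, Units.val_one]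
    rw [hμ1] at hθc
    rw [← htriv] at hs₀
    obtain ⟨X₀, hX₀⟩ := h.exists_fam hθc hs₀ hs₀1 hθe
    obtain ⟨L, hd₀⟩ := hdegnat X₀
    have hker : ∀ z ∈ Subgroup.center G, (θ : G → ℂ) z = (θ : G → ℂ) 1 := fun z hz => by
      have hv := hθc 1 ⟨z, h.center_eq.le hz⟩
      rwa [one_mul, MonoidHom.one_apply, Units.val_one, one_mul] at hv
    have hLs : 1 ≤ L ∧ (s₀ = 1 → 2 ≤ L) := by
      have hd0 := hd₀
      rw [hX₀] at hd0
      have hθ0 : charDegree (θ : G → ℂ) ≠ 0 := charDegree_ne_zero' θ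
      have het : e * 3 ≤ e * t := Nat.mul_le_mul_left e ht3
      rcases hs₀1 with rfl | rfl
      · have h2 : 2 ≤ L := by
          by_contra hlt
          rcases (show L = 0 ∨ L = 1 by omega) with rfl | rfl
          · simp at hd0; omega
          · simp only [Nat.cast_one, mul_one, one_mul] at hd0
            have hle := h.small_trivial hker (by omega) (by omega)
            omega
        exact ⟨by omega, fun _ => h2⟩
      · refine ⟨?_, fun h' => absurd h' (by norm_num)⟩
        by_contra hlt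
        obtain rfl : L = 0 := by omega
        simp at hd0
        have hle := h.small_trivial hker (by omega) (by omega)
        omega
    exact false_of_families hG S hc hE hoddV X₁ X₂ X₀ hd₁ hd₂ hd₀ hLs.1 hLs.2 hpt ht3 he3
  · -- `D = e`
    have hL₁' : L₁ = 0 := by
      by_contra h'
      have : (p : ℤ) * 1 ≤ p * L₁ := mul_le_mul_of_nonneg_left (by exact_mod_cast Nat.pos_of_ne_zero h')
        (Int.natCast_nonneg _)
      rw [neg_mul, one_mul] at hL₁
      omega
    rw [hL₁'] at hL₁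
    simp only [Nat.cast_zero, mul_zero, neg_mul, one_mul, zero_sub, neg_neg] at hL₁
    exact false_of_small hG S h.gen hc h.chi (by rw [hDchi]; exact hD2) (by rw [hDchi]; omega)

end CfsgLib.SmallGroups.QuasiSimple
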