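import Cfsg.Agent.Lib.SmallGroups.QuasiSimpleLocal
import Cfsg.Agent.Lib.Brauer.Dual

/-!
# The fixed vectors of `u` as a module of the regular part of its normalizer
-/

set_option autoImplicit false
set_option linter.style.haveILetI false
set_option linter.unusedSectionVars false

namespace CfsgLib.SmallGroups.QuasiSimple

open Cfsg CfsgLib.CharTheory CfsgLib.Blocks CfsgLib.DefectOne CfsgLib.SmallGroups.SmallDegree Finset
open scoped ComplexConjugate Classical

variable {p : ℕ} [hp : Fact p.Prime] {G : Type*} [Group G] [Fintype G]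
  (hG : ExactPrime G p) (S : Sect G p)

/-- An abelian regular subgroup of the normalizer inducing all its automorphisms. -/
structure Comp (E : Subgroup G) : Prop where
  le : S.V ≤ E
  norm : E ≤ S.N
  reg : ∀ y ∈ E, ¬ p ∣ orderOf y
  comm : ∀ a ∈ E, ∀ b ∈ E, a * b = b * a
  card : Nat.card E = rowE S (trivIrr S.V) * Nat.card S.V

/-- The averaged function on `E`. -/
noncomputable def fixc (E : Subgroup G) (f : G → ℂ) (y : E) : ℂ :=
  (p : ℂ)⁻¹ * ∑ i : ZMod p, f (S.u ^ i.val * (y : G))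

/-- The multiplicity of a linear character of `E` on the fixed vectors. -/
noncomputable def wt (E : Subgroup G) (f : G → ℂ) (β : E →* ℂˣ) : ℂ :=
  classInner (fixc S E f) fun y => (β y : ℂ)

include hG

variable (hc : ∀ (v : S.V) (x : G), (v : G) * x = x * (v : G))
include hc

omit hp in
theorem mem_V_iff {y : G} (hy : ¬ p ∣ orderOf y) : y ∈ S.V ↔ y * S.u * y⁻¹ = S.u := by
  rw [S.mem_iff, mul_inv_eq_iff_eq_mul]
  exact ⟨fun h => h.1, fun h => ⟨h, hy⟩⟩

theorem exists_comp : ∃ E : Subgroup G, Comp S E := by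
  set H := eGroup S (trivIrr S.V) with hH
  obtain ⟨⟨k, hk⟩, hkgen⟩ := IsCyclic.exists_generator (α := H)
  obtain ⟨y, hy⟩ := (mem_eGroup_iff hG S hc).1 hk
  set g := (y : G) ^ p with hg
  have hgN : g ∈ S.N := Subgroup.pow_mem _ y.2 p
  have hgreg : ¬ p ∣ orderOf g := by
    intro hdvd
    rw [hg, orderOf_pow] at hdvd
    by_cases hpg : p ∣ orderOf (y : G)
    · rw [Nat.gcd_eq_right hpg] at hdvd
      refine hG.sq ?_
      rw [pow_two]
      exact (Nat.mul_dvd_of_dvd_div hpg hdvd).trans (orderOf_dvd_natCard _)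
    · rw [Nat.gcd_comm, Nat.Coprime.gcd_eq_one (hG.prime.coprime_iff_not_dvd.2 hpg), Nat.div_one] at hdvd
      exact hpg hdvd
  have hpow : ∀ n : ℕ, (y : G) ^ n * S.u * ((y : G) ^ n)⁻¹ = S.u ^ ((k : ZMod p).val ^ n) := by
    intro n
    induction n with
    | zero => simp
    | succ n ih =>
      calc (y : G) ^ (n + 1) * S.u * ((y : G) ^ (n + 1))⁻¹
          = y * ((y : G) ^ n * S.u * ((y : G) ^ n)⁻¹) * (y : G)⁻¹ := by
            rw [pow_succ', mul_inv_rev]; simp only [mul_assoc]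
        _ = ((y : G) * S.u * (y : G)⁻¹) ^ ((k : ZMod p).val ^ n) := by rw [ih, conj_pow]
        _ = _ := by rw [hy, ← pow_mul, ← pow_succ']
  -- the subgroup
  haveI hVn : S.V.Normal := ⟨fun v hv x => by
    rw [← hc ⟨v, hv⟩ x, mul_inv_cancel_right]; exact hv⟩
  set E := S.V ⊔ Subgroup.zpowers g with hE
  have hmem : ∀ x ∈ E, ∃ (v : S.V) (n : ℕ), x = v * g ^ n := fun x hx => by
    obtain ⟨v, hv, z, hz, rfl⟩ := Subgroup.mem_sup_of_normal_left.1 hx
    obtain ⟨n, rfl⟩ := mem_powers_iff_mem_zpowers.2 hz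
    exact ⟨⟨v, hv⟩, n, rfl⟩
  have hle : S.V ≤ E := le_sup_left
  have hreg : ∀ x ∈ E, ¬ p ∣ orderOf x := fun x hx hd => by
    obtain ⟨v, n, rfl⟩ := hmem x hx
    have hcomm : Commute (v : G) (g ^ n) := hc v _
    have h1 := hd.trans hcomm.orderOf_mul_dvd_lcm
    rcases (Nat.Prime.dvd_mul hG.prime).1 (h1.trans (Nat.lcm_dvd_mul _ _)) with h | h
    · exact S.reg v h
    · exact hgreg (h.trans (orderOf_pow_dvd n))
  have hcomm : ∀ a ∈ E, ∀ b ∈ E, a * b = b * a := fun a ha b hb => by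
    obtain ⟨v, m, rfl⟩ := hmem a ha
    obtain ⟨w, n, rfl⟩ := hmem b hb
    have h1 : Commute (v : G) ((w : G) * g ^ n) := hc v _
    have h2 : Commute (g ^ m) ((w : G) * g ^ n) :=
      (Commute.symm (hc w _)).mul_right (Commute.pow_pow_self g m n)
    exact (h1.mul_left h2).eq
  have hnorm : E ≤ S.N := sup_le (fun v hv => S.V_le hv) (Subgroup.zpowers_le.2 hgN)
  refine ⟨E, hle, hnorm, hreg, hcomm, ?_⟩
  -- the automorphisms of `⟨u⟩`
  have hunit : ∀ x : E, ∃ l : (ZMod p)ˣ, (x : G) * S.u * (x : G)⁻¹ = S.u ^ (l : ZMod p).val := fun x =>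
    S.exists_unit_conj ⟨x, hnorm x.2⟩
  choose l hl using hunit
  have hlmul : ∀ a b : E, l (a * b) = l a * l b := fun a b => Units.ext (pow_val_inj hG S (by
    rw [← hl (a * b), Units.val_mul, ← S.pow_val_mul, pow_mul, ← hl a, conj_pow, ← hl b,
      Subgroup.coe_mul, mul_inv_rev]
    simp only [mul_assoc]))
  let Φ : E →* (ZMod p)ˣ := MonoidHom.mk' l hlmul
  have hker : Φ.ker = S.V.subgroupOf E := by
    ext x
    rw [MonoidHom.mem_ker, Subgroup.mem_subgroupOf, mem_V_iff hG S hc (hreg _ x.2)]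
    constructor
    · intro h
      rw [hl x, show l x = 1 from h, Units.val_one, ZMod.val_one, pow_one]
    · intro h
      refine Units.ext (pow_val_inj hG S ?_)
      show S.u ^ (l x : ZMod p).val = _
      rw [← hl x, h, Units.val_one, ZMod.val_one, pow_one]
  have hrange : Φ.range = H := by
    apply le_antisymm
    · rintro _ ⟨x, rfl⟩
      exact (mem_eGroup_iff hG S hc).2 ⟨⟨x, hnorm x.2⟩, hl x⟩
    · intro a ha
      obtain ⟨n, hn⟩ := mem_powers_iff_mem_zpowers.2 (hkgen ⟨a, ha⟩)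
      refine ⟨⟨g ^ n, Subgroup.pow_mem _ (le_sup_right (a := S.V) (Subgroup.mem_zpowers g)) n⟩,
        Units.ext (pow_val_inj hG S ?_)⟩
      show S.u ^ (l _ : ZMod p).val = _
      rw [← hl]
      show g ^ n * S.u * (g ^ n)⁻¹ = _
      have ha' : a = k ^ n := (congrArg Subtype.val hn).symm
      rw [hg, ← pow_mul, hpow, ha', pow_eq_pow_iff_modEq, S.ord, ← ZMod.natCast_eq_natCast_iff,
        Nat.cast_pow, ZMod.natCast_zmod_val, ZMod.natCast_zmod_val, pow_mul, ZMod.pow_card,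
        Units.val_pow_eq_pow_val]
  have h := Subgroup.card_mul_index Φ.ker
  rw [Subgroup.index_ker, hrange, hker, Nat.card_congr (Subgroup.subgroupOfEquivOfLe hle).toEquiv] at h
  rw [← h, rowE, mul_comm]

variable {E : Subgroup G} (hE : Comp S E)
include hE

/-- The unit induced by an element of `E`. -/
theorem Comp.exists_unit (y : E) : ∃ l : (ZMod p)ˣ,
    (y : G) * S.u * (y : G)⁻¹ = S.u ^ (l : ZMod p).val ∧ (l = 1 ↔ (y : G) ∈ S.V) := by
  obtain ⟨l, hl⟩ := S.exists_unit_conj ⟨y, hE.norm y.2⟩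
  refine ⟨l, hl, ?_⟩
  rw [mem_V_iff hG S hc (hE.reg _ y.2)]
  constructor
  · intro h; rw [hl, h, Units.val_one, ZMod.val_one, pow_one]
  · intro h
    refine Units.ext (pow_val_inj hG S ?_)
    rw [← hl, h, Units.val_one, ZMod.val_one, pow_one]

theorem Comp.apply_mul {f : G → ℂ} (hf : IsClassFunction G f) {y : E} (hy : (y : G) ∉ S.V) (i : ZMod p) :
    f (S.u ^ i.val * (y : G)) = f y := by
  obtain ⟨l, hl, hl1⟩ := hE.exists_unit hG S hc y
  have hl0 : (1 : ZMod p) - (l : ZMod p) ≠ 0 := fun h => hy (hl1.1 (Units.ext (by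
    rw [Units.val_one]; exact (sub_eq_zero.1 h).symm)))
  set j := i / (1 - (l : ZMod p)) with hj
  have e2 : S.u ^ i.val * S.u ^ ((l : ZMod p) * j).val = S.u ^ j.val := by
    rw [← pow_add, pow_eq_pow_iff_modEq, S.ord, ← ZMod.natCast_eq_natCast_iff, Nat.cast_add,
      ZMod.natCast_zmod_val, ZMod.natCast_zmod_val, ZMod.natCast_zmod_val, hj]
    field_simp
    ring
  have e3 : (y : G) * S.u ^ j.val * (y : G)⁻¹ = S.u ^ ((l : ZMod p) * j).val := by
    rw [← S.pow_val_mul, pow_mul, ← hl, conj_pow]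
  rw [← hf (y : G) (S.u ^ j.val)]
  congr 1
  symm
  calc S.u ^ j.val * (y : G) * (S.u ^ j.val)⁻¹
      = S.u ^ i.val * ((y : G) * S.u ^ j.val * (y : G)⁻¹) * (y : G) * (S.u ^ j.val)⁻¹ := by rw [e3, e2]
    _ = _ := by group

theorem Comp.fixc_apply {φ : S.V →* ℂˣ} {f : G → ℂ} (hf : IsClassFunction G f) (hfφ : HasCentral S φ f)
    (y : E) : fixc S E f y = if h : (y : G) ∈ S.V then (φ ⟨y, h⟩ : ℂ) * pm S f 0 else f y := by
  split_ifs with h
  · rw [fixc, pm, mul_left_comm]
    congr 1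
    rw [mul_sum]
    refine sum_congr rfl fun i _ => ?_
    rw [zero_mul, neg_zero, zp_zero, mul_one]
    exact hfφ _ ⟨y, h⟩
  · rw [fixc, sum_congr rfl fun i _ => hE.apply_mul hG S hc hf h i, sum_const, card_univ, ZMod.card,
      nsmul_eq_mul, ← mul_assoc, inv_mul_cancel₀ (Nat.cast_ne_zero.2 hp.out.ne_zero : (p : ℂ) ≠ 0), one_mul]

omit hE in
theorem card_filter_mem {E : Subgroup G} (hle : S.V ≤ E) :
    ((univ : Finset E).filter fun y : E => (y : G) ∈ S.V).card = Nat.card S.V := by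
  rw [Nat.card_eq_fintype_card, ← card_univ]
  exact card_bij' (fun y hy => ⟨(y : G), (mem_filter.1 hy).2⟩) (fun v _ => ⟨(v : G), hle v.2⟩)
    (fun y _ => mem_univ _) (fun v _ => mem_filter.2 ⟨mem_univ _, v.2⟩) (fun y _ => rfl) fun v _ => rfl

/-- The multiplicity when the values off `S.V` come from a linear character. -/
theorem Comp.wt_eq {φ : S.V →* ℂˣ} {f : G → ℂ} (hf : IsClassFunction G f) (hfφ : HasCentral S φ f)
    {β γ : E →* ℂˣ} (hβ : ∀ v : S.V, β ⟨v, hE.le v.2⟩ = φ v) (hγ : ∀ v : S.V, γ ⟨v, hE.le v.2⟩ = φ v)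
    (hfγ : ∀ y : E, (y : G) ∉ S.V → f y = (γ y : ℂ)) :
    (rowE S (trivIrr S.V) : ℂ) * wt S E f β =
      pm S f 0 - 1 + if β = γ then (rowE S (trivIrr S.V) : ℂ) else 0 := by
  have hval : ∀ y : E, fixc S E f y * conj (β y : ℂ) =
      (γ y : ℂ) * conj (β y : ℂ) + if (y : G) ∈ S.V then pm S f 0 - 1 else 0 := by
    intro y
    rw [hE.fixc_apply hG S hc hf hfφ]
    by_cases h : (y : G) ∈ S.V
    · rw [dif_pos h, if_pos h]
      have e1 : β y = φ ⟨y, h⟩ := hβ ⟨y, h⟩
      have e2 : γ y = φ ⟨y, h⟩ := hγ ⟨y, h⟩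
      rw [e1, e2]
      linear_combination (pm S f 0 - 1) * mul_conj_linear φ ⟨y, h⟩
    · rw [dif_neg h, if_neg h, hfγ y h, add_zero]
  have hsum : ∑ y : E, (γ y : ℂ) * conj (β y : ℂ) = if β = γ then (Nat.card E : ℂ) else 0 := by
    by_cases h : β = γ
    · subst h
      rw [if_pos rfl, sum_congr rfl fun y _ => mul_conj_linear β y, sum_const, card_univ, nsmul_one,
        Nat.card_eq_fintype_card]
    · rw [if_neg h]
      have e : ∀ y : E, (γ y : ℂ) * conj (β y : ℂ) = (((γ * β⁻¹) y : ℂˣ) : ℂ) := fun y => by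
        rw [MonoidHom.mul_apply, MonoidHom.inv_apply, Units.val_mul, Units.val_inv_eq_inv_val,
          inv_eq_of_mul_eq_one_right (mul_conj_linear β y)]
      rw [sum_congr rfl fun y _ => e y, Brauer.sum_homUnit, if_neg]
      intro h1
      exact h (mul_inv_eq_one.1 h1).symm
  rw [wt, classInner, sum_congr rfl fun y _ => hval y, sum_add_distrib, hsum, ← sum_filter, sum_const,
    card_filter_mem hG S hc hE.le, nsmul_eq_mul, hE.card]
  have hV : (Nat.card S.V : ℂ) ≠ 0 := Nat.cast_ne_zero.2 Nat.card_pos.ne'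
  have he : (rowE S (trivIrr S.V) : ℂ) ≠ 0 := Nat.cast_ne_zero.2 (rowE_pos hG S _).ne'
  push_cast
  split_ifs <;> field_simp <;> ring

/-- The averaged function of a character is a character. -/
theorem Comp.isCharacter_fixc {f : G → ℂ} (hf : IsCharacter G f) : IsCharacter E (fixc S E f) := by
  obtain ⟨n, ρ, rfl⟩ := hf
  have hp0 : (p : ℂ) ≠ 0 := Nat.cast_ne_zero.2 hp.out.ne_zero
  set π : Module.End ℂ (Fin n → ℂ) := (p : ℂ)⁻¹ • ∑ i : ZMod p, ρ (S.u ^ i.val) with hπ
  have hupow : ∀ i j : ZMod p, S.u ^ i.val * S.u ^ j.val = S.u ^ (i + j).val := fun i j => by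
    rw [← pow_add, pow_eq_pow_iff_modEq, S.ord, ← ZMod.natCast_eq_natCast_iff, Nat.cast_add,
      ZMod.natCast_zmod_val, ZMod.natCast_zmod_val, ZMod.natCast_zmod_val]
  have hidem : π * π = π := by
    rw [hπ, smul_mul_assoc, sum_mul, sum_congr rfl (g := fun _ => (p : ℂ)⁻¹ • ∑ i : ZMod p, ρ (S.u ^ i.val))
      fun i _ => by
        rw [mul_smul_comm, mul_sum]
        congr 1
        refine Fintype.sum_equiv (Equiv.addLeft i) _ _ fun j => ?_
        rw [Equiv.coe_addLeft, ← map_mul, hupow],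
      sum_const, card_univ, ZMod.card, ← Nat.cast_smul_eq_nsmul ℂ, smul_smul, inv_mul_cancel₀ hp0, one_smul]
  have hcomm : ∀ y : E, Commute (ρ (y : G)) π := fun y => by
    refine Commute.smul_right ?_ _
    obtain ⟨l, hl, -⟩ := hE.exists_unit hG S hc y
    show ρ (y : G) * ∑ i : ZMod p, ρ (S.u ^ i.val) = (∑ i : ZMod p, ρ (S.u ^ i.val)) * ρ (y : G)
    rw [mul_sum, sum_mul]
    refine Fintype.sum_equiv (Units.mulLeft l) _ _ fun i => ?_
    rw [Units.mulLeft_apply, ← map_mul, ← map_mul, ← S.pow_val_mul, pow_mul, ← hl, conj_pow,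
      inv_mul_cancel_right]
  set W := LinearMap.range π with hW
  have hinv : ∀ y : E, ∀ x ∈ W, ρ (y : G) x ∈ W := by
    rintro y _ ⟨x, rfl⟩
    exact ⟨ρ (y : G) x, by rw [← Module.End.mul_apply, ← (hcomm y).eq, Module.End.mul_apply]⟩
  let σ : Representation ℂ E W :=
    { toFun := fun y => (ρ (y : G)).restrict (hinv y)
      map_one' := LinearMap.ext fun x => Subtype.ext (by simp)
      map_mul' := fun y z => LinearMap.ext fun x => Subtype.ext (by simp) }
  have e : fixc S E ρ.character = σ.character := funext fun y => by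
    have hmem : ∀ x, (ρ (y : G) * π) x ∈ W := fun x => hinv y _ ⟨x, rfl⟩
    have h1 : fixc S E ρ.character y = LinearMap.trace ℂ _ (π * ρ (y : G)) := by
      rw [fixc, hπ, smul_mul_assoc, map_smul, sum_mul, map_sum, smul_eq_mul]
      simp only [Representation.character, map_mul]
    rw [h1, ← (hcomm y).eq, ← LinearMap.trace_restrict_eq_of_forall_mem W _ hmem, Representation.character]
    congr 1
    refine LinearMap.ext fun x => Subtype.ext ?_
    obtain ⟨z, hz⟩ := x.2
    show ρ (y : G) (π x) = ρ (y : G) x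
    rw [← hz, ← Module.End.mul_apply π π, hidem]
  rw [e]
  exact CharTheory.isCharacter_character σ

theorem Comp.exists_wt_nat {f : G → ℂ} (hf : IsCharacter G f) (β : E →* ℂˣ) :
    ∃ n : ℕ, wt S E f β = n :=
  IsCharacter.exists_classInner_eq_nat (hE.isCharacter_fixc hG S hc hf) ⟨_, isIrrCharacter_linear β⟩

omit hE hG hc in
theorem fixc_one (f : G → ℂ) : fixc S E f 1 = pm S f 0 := by
  rw [fixc, pm]
  exact congrArg _ (sum_congr rfl fun i _ => by rw [zero_mul, neg_zero, zp_zero, OneMemClass.coe_one, mul_one, mul_one])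

/-- Fourier inversion on `E`. -/
theorem Comp.fixc_eq_sum [Fintype (E →* ℂˣ)] (f : G → ℂ) (y : E) :
    fixc S E f y = ∑ β : E →* ℂˣ, wt S E f β * (β y : ℂ) := by
  letI : CommGroup E := { (inferInstance : Group E) with
    mul_comm := fun a b => Subtype.ext (hE.comm a a.2 b b.2) }
  have hE0 : (Nat.card E : ℂ) ≠ 0 := Nat.cast_ne_zero.2 Nat.card_pos.ne'
  simp only [wt, classInner, mul_sum, sum_mul]
  rw [sum_comm]
  have e : ∀ x : E, ∑ β : E →* ℂˣ, (Nat.card E : ℂ)⁻¹ * (fixc S E f x * conj (β x : ℂ)) * (β y : ℂ) =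
      (Nat.card E : ℂ)⁻¹ * fixc S E f x * if x = y then (Nat.card E : ℂ) else 0 := fun x => by
    rw [show (if x = y then (Nat.card E : ℂ) else 0) = if y * x⁻¹ = 1 then (Nat.card E : ℂ) else 0 from
      if_congr (by rw [mul_inv_eq_one]; exact eq_comm) rfl rfl, ← Brauer.sum_homUnits_apply, mul_sum]
    refine Finset.sum_congr (by ext; simp) fun β _ => ?_
    rw [map_mul, map_inv, Units.val_mul, Units.val_inv_eq_inv_val,
      inv_eq_of_mul_eq_one_right (mul_conj_linear β x)]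
    ring
  rw [sum_congr rfl fun x _ => e x, sum_eq_single y (fun x _ hx => by rw [if_neg hx, mul_zero])
    (fun h => absurd (mem_univ y) h), if_pos rfl, mul_right_comm, inv_mul_cancel₀ hE0, one_mul]

/-- The multiplicities sum to the dimension of the fixed space. -/
theorem Comp.sum_wt [Fintype (E →* ℂˣ)] (f : G → ℂ) : ∑ β : E →* ℂˣ, wt S E f β = pm S f 0 := by
  rw [← fixc_one S f, hE.fixc_eq_sum hG S hc]
  exact sum_congr rfl fun β _ => by rw [map_one, Units.val_one, mul_one]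

/-- Only extensions of the central character occur. -/
theorem Comp.wt_eq_zero {φ : S.V →* ℂˣ} {f : G → ℂ} (hfφ : HasCentral S φ f) {β : E →* ℂˣ} {v : S.V}
    (hv : β ⟨v, hE.le v.2⟩ ≠ φ v) : wt S E f β = 0 := by
  set v' : E := ⟨v, hE.le v.2⟩ with hv'
  have hfix : ∀ y : E, fixc S E f (y * v') = (φ v : ℂ) * fixc S E f y := fun y => by
    simp only [fixc]
    rw [mul_left_comm]
    congr 1
    rw [mul_sum]
    refine sum_congr rfl fun i _ => ?_
    rw [Subgroup.coe_mul, ← mul_assoc]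
    exact hfφ _ v
  have key : ∑ y : E, fixc S E f y * conj (β y : ℂ) =
      (φ v : ℂ) * conj (β v' : ℂ) * ∑ y : E, fixc S E f y * conj (β y : ℂ) := by
    conv_lhs => rw [← Equiv.sum_comp (Equiv.mulRight v')]
    rw [mul_sum]
    refine sum_congr rfl fun y _ => ?_
    rw [Equiv.coe_mulRight, hfix, map_mul, Units.val_mul, map_mul]
    ring
  have hne : (φ v : ℂ) * conj (β v' : ℂ) ≠ 1 := fun h => hv (Units.ext (by
    linear_combination (φ v : ℂ) * mul_conj_linear β v' - (β v' : ℂ) * h))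
  rw [wt, classInner]
  refine mul_eq_zero_of_right _ ?_
  have : ((φ v : ℂ) * conj (β v' : ℂ) - 1) * ∑ y : E, fixc S E f y * conj (β y : ℂ) = 0 := by
    linear_combination -key
  exact (mul_eq_zero.1 this).resolve_left (sub_ne_zero.2 hne)

/-- With one fixed vector the values off `S.V` form a linear character. -/
theorem Comp.exists_alpha {φ : S.V →* ℂˣ} {f : G → ℂ} (hf : IsCharacter G f) (hfφ : HasCentral S φ f)
    (h1 : pm S f 0 = 1) :
    ∃ α : E →* ℂˣ, (∀ v : S.V, α ⟨v, hE.le v.2⟩ = φ v) ∧ ∀ y : E, (y : G) ∉ S.V → f y = (α y : ℂ) := by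
  have hcl := IsCharacter.isClassFunction hf
  haveI : Finite (E →* ℂˣ) := by
    letI : CommGroup E := { (inferInstance : Group E) with
      mul_comm := fun a b => Subtype.ext (hE.comm a a.2 b b.2) }
    infer_instance
  haveI : Fintype (E →* ℂˣ) := Fintype.ofFinite _
  choose n hn using hE.exists_wt_nat hG S hc hf
  have hinv : ∀ y : E, fixc S E f y = ∑ β : E →* ℂˣ, (n β : ℂ) * (β y : ℂ) := fun y => by
    rw [hE.fixc_eq_sum hG S hc]
    exact sum_congr rfl fun β _ => by rw [hn]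
  have hone : ∑ β : E →* ℂˣ, n β = 1 := by
    apply Nat.cast_injective (R := ℂ)
    push_cast
    rw [sum_congr rfl fun β _ => (hn β).symm, hE.sum_wt hG S hc, h1]
  obtain ⟨α, -, hα⟩ : ∃ α ∈ (univ : Finset (E →* ℂˣ)), 0 < n α :=
    sum_pos_iff.1 (by rw [hone]; exact one_pos)
  rw [← add_sum_erase _ _ (mem_univ α)] at hone
  have hz : ∀ β ∈ univ.erase α, n β = 0 := sum_eq_zero_iff.1 (by omega)
  have hα1 : n α = 1 := by omega
  have hval : ∀ y : E, fixc S E f y = (α y : ℂ) := fun y => by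
    rw [hinv, ← add_sum_erase _ _ (mem_univ α), hα1, Nat.cast_one, one_mul,
      sum_eq_zero fun β hβ => by rw [hz β hβ, Nat.cast_zero, zero_mul], add_zero]
  refine ⟨α, fun v => Units.ext ?_, fun y hy => ?_⟩
  · rw [← hval, hE.fixc_apply hG S hc hcl hfφ, dif_pos v.2, h1, mul_one]
  · rw [← hval, hE.fixc_apply hG S hc hcl hfφ, dif_neg hy]

theorem Comp.wt_congr {φ : S.V →* ℂˣ} {f g : G → ℂ} (hf : IsClassFunction G f) (hg : IsClassFunction G g)
    (hfφ : HasCentral S φ f) (hgφ : HasCentral S φ g) (hreg : ∀ x, ¬ p ∣ orderOf x → f x = g x)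
    (h0 : pm S f 0 = pm S g 0) (β : E →* ℂˣ) : wt S E f β = wt S E g β := by
  rw [wt, wt, show fixc S E f = fixc S E g from funext fun y => by
    rw [hE.fixc_apply hG S hc hf hfφ, hE.fixc_apply hG S hc hg hgφ, h0, hreg _ (hE.reg _ y.2)]]

theorem Comp.wt_eq_sum [Fintype (IrrCharacter G)] {f : G → ℂ} (hf : IsClassFunction G f) (β : E →* ℂˣ) :
    wt S E f β = ∑ χ : IrrCharacter G, classInner f (χ : G → ℂ) * wt S E (χ : G → ℂ) β := by
  have e : fixc S E f = ∑ χ : IrrCharacter G, classInner f (χ : G → ℂ) • fixc S E (χ : G → ℂ) := by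
    funext y
    simp only [fixc, Finset.sum_apply, Pi.smul_apply, smul_eq_mul, mul_sum]
    rw [sum_comm]
    refine sum_congr rfl fun i _ => ?_
    conv_lhs => rw [eq_sum_classInner hf]
    simp only [Finset.sum_apply, Pi.smul_apply, smul_eq_mul, mul_sum]
    exact sum_congr rfl fun χ _ => by ring
  rw [wt, e, classInner_sum_left]
  exact sum_congr rfl fun χ _ => classInner_smul_left _ _ _

/-- The members of a family are limited by the fixed vectors. -/
theorem Fam.sum_mult_le {φ : S.V →* ℂˣ} {T : ℤ} (X : Fam S φ T) {f : G → ℂ} (hf : IsCharacter G f)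
    {β : E →* ℂˣ} {m : ZMod p → ℕ} (hm : ∀ z : ZMod p, z ≠ 0 → classInner f (X.x z : G → ℂ) = m z)
    {ω W : ℕ} (hω : wt S E (X.x 1 : G → ℂ) β = ω) (hW : wt S E f β = W) :
    (∑ z ∈ (univ : Finset (ZMod p)).erase 0, m z) * ω ≤ rowE S (trivIrr S.V) * W := by
  haveI := Fintype.ofFinite (IrrCharacter G)
  choose M hM using fun χ : IrrCharacter G => IsCharacter.exists_classInner_eq_nat hf χ
  choose V hV using fun χ : IrrCharacter G => hE.exists_wt_nat hG S hc (IsIrrCharacter.isCharacter χ.2) β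
  have hWsum : W = ∑ χ : IrrCharacter G, M χ * V χ := by
    apply Nat.cast_injective (R := ℂ)
    push_cast
    rw [← hW, hE.wt_eq_sum hG S hc (IsCharacter.isClassFunction hf) β]
    exact sum_congr rfl fun χ _ => by rw [hM, hV]
  have hVz : ∀ z : ZMod p, z ≠ 0 → V (X.x z) = ω := fun z hz => by
    apply Nat.cast_injective (R := ℂ)
    rw [← hV, ← hω]
    refine hE.wt_congr hG S hc (IsIrrCharacter.isClassFunction (X.x z).2)
      (IsIrrCharacter.isClassFunction (X.x 1).2) (X.central z) (X.central 1) (X.reg z 1) ?_ β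
    rw [X.pm_eq hG S hz, X.pm_eq hG S one_ne_zero, X.deg_eq hG S z 1,
      if_neg fun h => ne_zero_of_mem_orb hz h rfl, if_neg fun h => ne_zero_of_mem_orb one_ne_zero h rfl]
  set nzs := (univ : Finset (ZMod p)).erase 0 with hnzs
  have h1 : (∑ z ∈ nzs, m z) * ω = ∑ z ∈ nzs, M (X.x z) * V (X.x z) := by
    rw [sum_mul]
    refine sum_congr rfl fun z hz => ?_
    rw [hVz z (ne_of_mem_erase hz)]
    congr 1
    exact Nat.cast_injective (R := ℂ) ((hm z (ne_of_mem_erase hz)).symm.trans (hM _))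
  have h2 : ∑ z ∈ nzs, M (X.x z) * V (X.x z) =
      rowE S (trivIrr S.V) * ∑ χ ∈ nzs.image (fun z => X.x z), M χ * V χ := by
    rw [← sum_fiberwise_of_maps_to (g := fun z => X.x z) (t := nzs.image fun z => X.x z)
      (fun z hz => mem_image_of_mem _ hz), mul_sum]
    refine sum_congr rfl fun χ hχ => ?_
    obtain ⟨a, ha, rfl⟩ := mem_image.1 hχ
    have ha0 := ne_of_mem_erase ha
    rw [sum_congr rfl (g := fun _ => M (X.x a) * V (X.x a)) fun z hz => by rw [(mem_filter.1 hz).2],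
      sum_const, smul_eq_mul]
    congr 1
    rw [rowE, ← card_orb (H := eGroup S (trivIrr S.V)) ha0]
    refine congrArg card (Finset.ext fun z => ?_)
    rw [mem_filter, hnzs, mem_erase]
    exact ⟨fun h => X.mem_orb_of_eq hG S ha0 h.1.1 h.2, fun h =>
      ⟨⟨ne_zero_of_mem_orb ha0 h, mem_univ _⟩, X.eq_of_mem_orb hG S hc ha0 h⟩⟩
  rw [h1, h2, hWsum]
  exact Nat.mul_le_mul_left _ (sum_le_sum_of_subset (subset_univ _))

end CfsgLib.SmallGroups.QuasiSimple
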