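import Cfsg.Agent.Lib.SmallGroups.QuasiSimpleValues
import Cfsg.Agent.Lib.SmallGroups.SmallDegreeCircle

/-!
# Functions living on the sections of `u` when the regular part of the centralizer is central

A product of class functions which vanishes on the elements of order prime to `p` is summed on
the powers of `u` only.
-/

set_option autoImplicit false
set_option linter.style.haveILetI false
set_option linter.unusedSectionVars false

namespace CfsgLib.SmallGroups.QuasiSimple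

open Cfsg CfsgLib.CharTheory CfsgLib.Blocks CfsgLib.DefectOne CfsgLib.SmallGroups.SmallDegree Finset
open scoped ComplexConjugate Classical

variable {p : ℕ} [hp : Fact p.Prime]

/-- Sums of the additive character over `ZMod p`. -/
theorem sum_zp {G : Type*} [Group G] [Fintype G] (hG : ExactPrime G p) (c : ZMod p) :
    ∑ i : ZMod p, zp (c * i) = if c = 0 then (p : ℂ) else 0 := by
  have h := sum_units_zp hG c
  rw [← add_sum_erase _ _ (mem_univ (0 : ZMod p)), mul_zero, zp_zero]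
  have e : ∑ k : (ZMod p)ˣ, zp (c * (k : ZMod p)) = ∑ i ∈ (univ : Finset (ZMod p)).erase 0, zp (c * i) := by
    refine sum_bij (fun k _ => (k : ZMod p)) (fun k _ => mem_erase.2 ⟨k.ne_zero, mem_univ _⟩)
      (fun a _ b _ h => Units.ext h) (fun i hi => ⟨Units.mk0 i (ne_of_mem_erase hi), mem_univ _, rfl⟩)
      fun k _ => rfl
  rw [← e, h]
  split_ifs <;> ring

theorem sum_units_eq_sum_sub (F : ZMod p → ℂ) :
    ∑ k : (ZMod p)ˣ, F (k : ZMod p) = ∑ i, F i - F 0 := by
  rw [← sum_erase_eq_sub (mem_univ (0 : ZMod p))]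
  exact sum_bij (fun k _ => (k : ZMod p)) (fun k _ => mem_erase.2 ⟨k.ne_zero, mem_univ _⟩)
    (fun a _ b _ h => Units.ext h) (fun i hi => ⟨Units.mk0 i (ne_of_mem_erase hi), mem_univ _, rfl⟩)
    fun k _ => rfl

/-- The Gauss period of the orbit of `a`. -/
noncomputable def Th (H : Subgroup (ZMod p)ˣ) (a i : ZMod p) : ℂ :=
  ∑ l : H, zp (((l : (ZMod p)ˣ) : ZMod p) * a * i)

theorem Th_zero (H : Subgroup (ZMod p)ˣ) (a : ZMod p) : Th H a 0 = Nat.card H := by
  simp [Th, zp_zero, Nat.card_eq_fintype_card]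

theorem Th_orb {H : Subgroup (ZMod p)ˣ} {a b : ZMod p} (h : b ∈ orb H a) (i : ZMod p) :
    Th H b i = Th H a i := by
  obtain ⟨m, rfl⟩ := mem_orb.1 h
  refine Fintype.sum_equiv (Equiv.mulRight m) _ _ fun l => ?_
  rw [Equiv.coe_mulRight, Subgroup.coe_mul, Units.val_mul]
  ring_nf

theorem conj_Th (H : Subgroup (ZMod p)ˣ) (a i : ZMod p) : conj (Th H a i) = Th H (-a) i := by
  rw [Th, map_sum]
  exact sum_congr rfl fun l _ => by rw [conj_zp]; ring_nf

theorem Th_two_mul (H : Subgroup (ZMod p)ˣ) (a i : ZMod p) : Th H a (2 * i) = Th H (2 * a) i :=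
  sum_congr rfl fun l _ => by ring_nf

variable {G : Type*} [Group G] [Fintype G] (hG : ExactPrime G p) (S : Sect G p)

/-- A linear character of finite order has absolute value one. -/
theorem mul_conj_linear {A : Type*} [Group A] [Finite A] (φ : A →* ℂˣ) (a : A) :
    (φ a : ℂ) * conj (φ a : ℂ) = 1 := by
  rw [Complex.mul_conj', norm_eq_one_of_pow_eq_one' Nat.card_pos.ne' (by
    rw [← Units.val_pow_eq_pow_val, ← map_pow, pow_card_eq_one', map_one, Units.val_one] :
    (φ a : ℂ) ^ Nat.card A = 1)]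
  simp
where
  norm_eq_one_of_pow_eq_one' {z : ℂ} {n : ℕ} (hn : n ≠ 0) (h : z ^ n = 1) : ‖z‖ = 1 :=
    Complex.norm_eq_one_of_pow_eq_one h hn

/-- The function `f` has central character `φ` on `S.V`. -/
def HasCentral (φ : S.V →* ℂˣ) (f : G → ℂ) : Prop := ∀ (g : G) (v : S.V), f (g * v) = (φ v : ℂ) * f g

/-- The multiplicity of the character `z` of `⟨u⟩` in `f`. -/
noncomputable def pm (f : G → ℂ) (z : ZMod p) : ℂ :=
  (p : ℂ)⁻¹ * ∑ i : ZMod p, f (S.u ^ i.val) * zp (-(z * i))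

theorem p_ne_zero' : (p : ℂ) ≠ 0 := Nat.cast_ne_zero.2 hp.out.ne_zero

include hG

theorem pow_val_inj {a b : ZMod p} (h : S.u ^ a.val = S.u ^ b.val) : a = b := by
  rw [pow_eq_pow_iff_modEq, S.ord, ← ZMod.natCast_eq_natCast_iff, ZMod.natCast_zmod_val,
    ZMod.natCast_zmod_val] at h
  exact h

theorem not_dvd_val (k : (ZMod p)ˣ) : ¬ p ∣ (k : ZMod p).val := fun h =>
  k.ne_zero ((ZMod.val_eq_zero _).1 (Nat.eq_zero_of_dvd_of_lt h (ZMod.val_lt _)))

variable (hc : ∀ (v : S.V) (x : G), (v : G) * x = x * (v : G))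
include hc

theorem mem_eGroup_iff {l : (ZMod p)ˣ} : l ∈ eGroup S (trivIrr S.V) ↔
    ∃ y : S.N, (y : G) * S.u * (y : G)⁻¹ = S.u ^ (l : ZMod p).val :=
  ⟨fun ⟨y, _, hy⟩ => ⟨y, hy⟩, fun ⟨y, hy⟩ => ⟨y, smul_trivIrr S hG y, hy⟩⟩

/-- Conjugation moves the powers of `u` within the orbits. -/
theorem apply_orb {f : G → ℂ} (hf : IsClassFunction G f) {i j : ZMod p}
    (h : j ∈ orb (eGroup S (trivIrr S.V)) i) : f (S.u ^ j.val) = f (S.u ^ i.val) := by
  obtain ⟨⟨l, hl⟩, rfl⟩ := mem_orb.1 h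
  obtain ⟨y, hy⟩ := (mem_eGroup_iff hG S hc).1 hl
  rw [← S.pow_val_mul, pow_mul, ← hy, conj_pow, hf]

/-- The multiplicities are constant on the orbits. -/
theorem pm_orb {f : G → ℂ} (hf : IsClassFunction G f) {z w : ZMod p}
    (h : w ∈ orb (eGroup S (trivIrr S.V)) z) : pm S f w = pm S f z := by
  obtain ⟨l, rfl⟩ := mem_orb.1 h
  unfold pm
  congr 1
  refine Fintype.sum_equiv (Units.mulLeft (l : (ZMod p)ˣ)) _ _ fun i => ?_
  rw [Units.mulLeft_apply, apply_orb hG S hc hf (i := i) (mem_orb.2 ⟨l, rfl⟩)]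
  congr 2
  ring

/-- The sum of a class function which vanishes on the regular elements. -/
theorem sum_singular {F : G → ℂ} (hF : IsClassFunction G F) (h0 : ∀ g, ¬ p ∣ orderOf g → F g = 0) :
    (rowE S (trivIrr S.V) : ℂ) * ((p : ℂ) * Nat.card S.V) * ∑ g, F g =
      (Nat.card G : ℂ) * ∑ k : (ZMod p)ˣ, ∑ v : S.V, F (S.u ^ (k : ZMod p).val * v) := by
  set H := eGroup S (trivIrr S.V) with hH
  let s : (ZMod p)ˣ × S.V → G := fun q => S.u ^ (q.1 : ZMod p).val * (q.2 : G)
  have hconjV : ∀ (y : S.N) (v : S.V), S.conjV y v = v := fun y v => Subtype.ext (by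
    rw [Sect.conjV_apply, ← hc v (y : G), mul_inv_cancel_right])
  have hcv : ∀ v : S.V, Nat.card (Subgroup.centralizer ({v} : Set S.V)) = Nat.card S.V := fun v => by
    rw [show Subgroup.centralizer ({v} : Set S.V) = ⊤ from eq_top_iff.2 fun w _ =>
      Subgroup.mem_centralizer_singleton_iff.2 (Subtype.ext (hc w v)), Subgroup.card_top]
  have hfib : ∀ (q : (ZMod p)ˣ × S.V) (g : G), ((univ.filter fun x : G => x * s q * x⁻¹ = g).card : ℕ) =
      if IsConj (s q) g then p * Nat.card S.V else 0 := by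
    intro q g
    split_ifs with hc'
    · obtain ⟨x₀, hx₀⟩ := isConj_iff.1 hc'
      rw [← hcv q.2, ← S.card_centralizer hG (not_dvd_val hG q.1) q.2, Nat.card_eq_fintype_card,
        ← card_univ]
      refine card_bij' (fun x hx => (⟨x₀⁻¹ * x, ?_⟩ : Subgroup.centralizer ({s q} : Set G)))
        (fun y _ => x₀ * (y : G)) (fun x _ => mem_univ _) (fun y _ => ?_) (fun x _ => by simp)
        fun y _ => Subtype.ext (by simp)
      · rw [Subgroup.mem_centralizer_singleton_iff]
        have h1 : x * s q * x⁻¹ = x₀ * s q * x₀⁻¹ := (mem_filter.1 hx).2.trans hx₀.symm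
        calc x₀⁻¹ * x * s q = x₀⁻¹ * (x * s q * x⁻¹) * x := by group
          _ = _ := by rw [h1]; group
      · rw [mem_filter]
        refine ⟨mem_univ _, ?_⟩
        rw [← hx₀]
        have h1 : (y : G) * s q = s q * (y : G) := Subgroup.mem_centralizer_singleton_iff.1 y.2
        rw [mul_assoc x₀, h1]
        group
    · rw [card_eq_zero, filter_eq_empty_iff]
      exact fun x _ hx => hc' (isConj_iff.2 ⟨x, hx⟩)
  have hcount : ∀ g, p ∣ orderOf g →
      (univ.filter fun q : (ZMod p)ˣ × S.V => IsConj (s q) g).card = Nat.card H := by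
    intro g hg
    obtain ⟨c, i, v₀, hi, hci⟩ := Sect.exists_conj_sect hG S hg
    set k₀ : (ZMod p)ˣ := Units.mk0 (i : ZMod p) (fun h => hi ((ZMod.natCast_eq_zero_iff i p).1 h)) with hk₀
    have hg0 : IsConj g (s (k₀, v₀)) := isConj_iff.2 ⟨c, by
      show c * g * c⁻¹ = S.u ^ (i : ZMod p).val * (v₀ : G)
      rw [hci, ZMod.val_natCast, pow_mod_u]⟩
    rw [Nat.card_eq_fintype_card, ← card_univ]
    refine (card_bij (fun (l : H) _ => ((l : (ZMod p)ˣ) * k₀, v₀)) (fun l _ => ?_) (fun l _ l' _ h =>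
      Subtype.ext (mul_right_cancel (congrArg Prod.fst h))) (fun q hq => ?_)).symm
    · rw [mem_filter]
      refine ⟨mem_univ _, IsConj.trans ?_ hg0.symm⟩
      obtain ⟨y, hy⟩ := (mem_eGroup_iff hG S hc).1 l.2
      refine ((S.isConj_sect_iff hG (not_dvd_val hG _) (not_dvd_val hG _) _ _).2
        ⟨y, ?_, hconjV y v₀⟩).symm
      rw [← conj_pow, hy, ← pow_mul, S.pow_val_mul, Units.val_mul]
    · have h1 : IsConj (s q) (s (k₀, v₀)) := (mem_filter.1 hq).2.trans hg0
      obtain ⟨y, hy, hv⟩ := (S.isConj_sect_iff hG (not_dvd_val hG _) (not_dvd_val hG _) _ _).1 h1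
      rw [hconjV] at hv
      obtain ⟨l, hl⟩ := S.exists_unit_conj y
      have hl' : l ∈ H := (mem_eGroup_iff hG S hc).2 ⟨y, hl⟩
      have hlk : l * q.1 = k₀ := Units.ext (pow_val_inj hG S (by
        rw [Units.val_mul, ← S.pow_val_mul, pow_mul, ← hl, conj_pow]
        exact hy))
      exact ⟨⟨l⁻¹, inv_mem hl'⟩, mem_univ _, Prod.ext (by simp [← hlk]) hv.symm⟩
  have h1 : ∀ q, ∑ x : G, F (x * s q * x⁻¹) = (Nat.card G : ℂ) * F (s q) := fun q => by
    rw [sum_congr rfl fun x _ => hF (s q) x, sum_const, nsmul_eq_mul, card_univ, Nat.card_eq_fintype_card]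
  have h2 : ∀ q, ∑ x : G, F (x * s q * x⁻¹) =
      ∑ g, F g * ((if IsConj (s q) g then p * Nat.card S.V else 0 : ℕ) : ℂ) := fun q => by
    rw [← sum_fiberwise (univ : Finset G) (fun x => x * s q * x⁻¹) fun x => F (x * s q * x⁻¹)]
    refine sum_congr rfl fun g _ => ?_
    rw [sum_congr rfl (g := fun _ => F g) fun x hx => by rw [(mem_filter.1 hx).2], sum_const,
      nsmul_eq_mul, hfib q g, mul_comm]
  calc (rowE S (trivIrr S.V) : ℂ) * ((p : ℂ) * Nat.card S.V) * ∑ g, F g
      = ∑ g, F g * ∑ q : (ZMod p)ˣ × S.V, ((if IsConj (s q) g then p * Nat.card S.V else 0 : ℕ) : ℂ) := by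
        rw [mul_sum]
        refine sum_congr rfl fun g _ => ?_
        by_cases hg : p ∣ orderOf g
        · rw [← Nat.cast_sum, ← sum_filter, sum_const, hcount g hg, smul_eq_mul, rowE]
          push_cast
          ring
        · rw [h0 g hg]; simp
    _ = ∑ q : (ZMod p)ˣ × S.V, ∑ g, F g * ((if IsConj (s q) g then p * Nat.card S.V else 0 : ℕ) : ℂ) := by
        simp only [mul_sum]; exact sum_comm
    _ = (Nat.card G : ℂ) * ∑ k : (ZMod p)ˣ, ∑ v : S.V, F (S.u ^ (k : ZMod p).val * v) := by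
        rw [sum_congr rfl fun q _ => (h2 q).symm.trans (h1 q), ← mul_sum, Fintype.sum_prod_type]

/-- The inner product of two functions with the same central character whose product vanishes
on the regular elements. -/
theorem inner_singular {φ : S.V →* ℂˣ} {f g : G → ℂ} (hf : IsClassFunction G f)
    (hg : IsClassFunction G g) (hfφ : HasCentral S φ f) (hgφ : HasCentral S φ g)
    (h0 : ∀ x, ¬ p ∣ orderOf x → f x * conj (g x) = 0) :
    (rowE S (trivIrr S.V) : ℂ) * (p : ℂ) * classInner f g =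
      ∑ k : (ZMod p)ˣ, f (S.u ^ (k : ZMod p).val) * conj (g (S.u ^ (k : ZMod p).val)) := by
  have h := sum_singular hG S hc (F := fun x => f x * conj (g x))
    (fun a b => by simp only [hf a b, hg a b]) h0
  have hv : ∀ (x : G) (v : S.V), f (x * v) * conj (g (x * v)) = f x * conj (g x) := fun x v => by
    rw [hfφ, hgφ, map_mul]
    linear_combination (f x * conj (g x)) * mul_conj_linear φ v
  simp only [hv, sum_const, card_univ, nsmul_eq_mul, ← Nat.card_eq_fintype_card, ← mul_sum] at h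
  have hV : (Nat.card S.V : ℂ) ≠ 0 := Nat.cast_ne_zero.2 Nat.card_pos.ne'
  have hGne : (Nat.card G : ℂ) ≠ 0 := Nat.cast_ne_zero.2 Nat.card_pos.ne'
  rw [classInner]
  field_simp
  refine mul_right_cancel₀ hV ?_
  linear_combination h

/-- Class functions with the same central character equal on the regular elements and on the
powers of `u` are equal. -/
theorem ext_sect {φ : S.V →* ℂˣ} {f g : G → ℂ} (hf : IsClassFunction G f) (hg : IsClassFunction G g)
    (hfφ : HasCentral S φ f) (hgφ : HasCentral S φ g) (hreg : ∀ x, ¬ p ∣ orderOf x → f x = g x)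
    (hu : ∀ k : (ZMod p)ˣ, f (S.u ^ (k : ZMod p).val) = g (S.u ^ (k : ZMod p).val)) : f = g := by
  funext x
  by_cases hx : p ∣ orderOf x
  · obtain ⟨c, i, v, hi, hci⟩ := Sect.exists_conj_sect hG S hx
    rw [← hf x c, ← hg x c, hci, hfφ, hgφ]
    have h := hu (Units.mk0 (i : ZMod p) (fun h => hi ((ZMod.natCast_eq_zero_iff i p).1 h)))
    rw [Units.val_mk0, ZMod.val_natCast, pow_mod_u] at h
    rw [h]
  · exact hreg x hx

omit hc in
theorem sum_zp_orb {H : Subgroup (ZMod p)ˣ} (a z : ZMod p) (ha : a ≠ 0) :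
    ∑ i : ZMod p, Th H a i * zp (-(z * i)) = if z ∈ orb H a then (p : ℂ) else 0 := by
  simp only [Th, sum_mul]
  rw [sum_comm]
  have e : ∀ l : H, ∑ i : ZMod p, zp (((l : (ZMod p)ˣ) : ZMod p) * a * i) * zp (-(z * i)) =
      if ((l : (ZMod p)ˣ) : ZMod p) * a = z then (p : ℂ) else 0 := fun l => by
    rw [sum_congr rfl (g := fun i => zp ((((l : (ZMod p)ˣ) : ZMod p) * a - z) * i)) fun i _ => by
      rw [← zp_add]; ring_nf, sum_zp hG]
    simp only [sub_eq_zero]
  rw [sum_congr rfl fun l _ => e l]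
  split_ifs with h
  · obtain ⟨m, hm⟩ := mem_orb.1 h
    rw [sum_eq_single m (fun l _ hl => if_neg fun h' => hl (mul_right_inj_of_ne ha (h'.trans hm.symm)))
      (fun h' => absurd (mem_univ m) h'), if_pos hm]
  · exact sum_eq_zero fun l _ => if_neg fun h' => h (mem_orb.2 ⟨l, h'⟩)

omit hc in
/-- The multiplicities when the values on the powers of `u` are a multiple of a period. -/
theorem pm_single {H : Subgroup (ZMod p)ˣ} {f : G → ℂ} {b : ZMod p} (hb : b ≠ 0) {c : ℂ}
    (hval : ∀ i : ZMod p, i ≠ 0 → f (S.u ^ i.val) = c * Th H b i) (z : ZMod p) :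
    pm S f z = (f 1 - c * Nat.card H) / p + if z ∈ orb H b then c else 0 := by
  have e : ∀ i : ZMod p, f (S.u ^ i.val) * zp (-(z * i)) = c * (Th H b i * zp (-(z * i))) +
      if i = 0 then f 1 - c * Nat.card H else 0 := fun i => by
    by_cases hi : i = 0
    · subst hi; simp [Th_zero, zp_zero]
    · rw [if_neg hi, hval i hi]; ring
  rw [pm, sum_congr rfl fun i _ => e i, sum_add_distrib, ← mul_sum, sum_zp_orb hG b z hb, sum_ite_eq',
    if_pos (mem_univ _)]
  have hp0 : (p : ℂ) ≠ 0 := p_ne_zero'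
  split_ifs <;> field_simp <;> ring

omit hc in
/-- The multiplicities when the values on the powers of `u` are a product of two periods. -/
theorem pm_double {H : Subgroup (ZMod p)ˣ} {f : G → ℂ} {a b : ZMod p} (hb : b ≠ 0)
    (hval : ∀ i : ZMod p, i ≠ 0 → f (S.u ^ i.val) = Th H a i * Th H b i) (z : ZMod p) :
    pm S f z = (f 1 - (Nat.card H : ℂ) * Nat.card H) / p + (circ H a b z : ℂ) := by
  have e : ∀ i : ZMod p, f (S.u ^ i.val) * zp (-(z * i)) = Th H a i * Th H b i * zp (-(z * i)) +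
      if i = 0 then f 1 - (Nat.card H : ℂ) * Nat.card H else 0 := fun i => by
    by_cases hi : i = 0
    · subst hi; simp [Th_zero, zp_zero]
    · rw [if_neg hi, hval i hi, add_zero]
  have hconv : ∑ i : ZMod p, Th H a i * Th H b i * zp (-(z * i)) = (p : ℂ) * (circ H a b z : ℂ) := by
    have e2 : ∀ i : ZMod p, Th H a i * Th H b i * zp (-(z * i)) =
        ∑ l : H, Th H b i * zp (-((z - ((l : (ZMod p)ˣ) : ZMod p) * a) * i)) := fun i => by
      rw [Th, sum_mul, sum_mul]
      refine sum_congr rfl fun l _ => ?_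
      rw [show -((z - ((l : (ZMod p)ˣ) : ZMod p) * a) * i) =
        ((l : (ZMod p)ˣ) : ZMod p) * a * i + -(z * i) by ring, zp_add]
      ring
    rw [sum_congr rfl fun i _ => e2 i, sum_comm, sum_congr rfl fun l _ => sum_zp_orb hG b _ hb,
      circ, card_filter, Nat.cast_sum, mul_sum]
    exact sum_congr rfl fun l _ => by split_ifs <;> simp
  rw [pm, sum_congr rfl fun i _ => e i, sum_add_distrib, hconv, sum_ite_eq', if_pos (mem_univ _)]
  have hp0 : (p : ℂ) ≠ 0 := p_ne_zero'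
  field_simp
  ring

/-- An exceptional family with central character `φ`. -/
structure Fam (φ : S.V →* ℂˣ) (T : ℤ) where
  /-- the members -/
  x : ZMod p → IrrCharacter G
  T_sq : T * T = 1
  central : ∀ a, HasCentral S φ (x a : G → ℂ)
  reg : ∀ a b g, ¬ p ∣ orderOf g → (x a : G → ℂ) g = (x b : G → ℂ) g
  val : ∀ a : ZMod p, a ≠ 0 → ∀ i : ZMod p, i ≠ 0 →
    (x a : G → ℂ) (S.u ^ i.val) = -(T : ℂ) * Th (eGroup S (trivIrr S.V)) a i

variable {φ : S.V →* ℂˣ} {T : ℤ}

omit hc in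
theorem Fam.pm_eq (X : Fam S φ T) {a : ZMod p} (ha : a ≠ 0) (z : ZMod p) :
    pm S (X.x a : G → ℂ) z = ((charDegree (X.x a : G → ℂ) : ℂ) + (T : ℂ) * rowE S (trivIrr S.V)) / p -
      if z ∈ orb (eGroup S (trivIrr S.V)) a then (T : ℂ) else 0 := by
  rw [pm_single hG S ha (X.val a ha) z, charDegree_cast, rowE]
  split_ifs <;> ring

theorem Fam.eq_of_mem_orb (X : Fam S φ T) {a b : ZMod p} (ha : a ≠ 0)
    (h : b ∈ orb (eGroup S (trivIrr S.V)) a) : X.x b = X.x a := by
  refine Subtype.ext (ext_sect hG S hc (IsIrrCharacter.isClassFunction (X.x b).2)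
    (IsIrrCharacter.isClassFunction (X.x a).2) (X.central b) (X.central a) (X.reg b a) fun k => ?_)
  rw [X.val b (ne_zero_of_mem_orb ha h) _ k.ne_zero, X.val a ha _ k.ne_zero, Th_orb h]

omit hc in
theorem Fam.deg_eq (X : Fam S φ T) (a b : ZMod p) :
    charDegree (X.x a : G → ℂ) = charDegree (X.x b : G → ℂ) := by
  rw [charDegree, charDegree, X.reg a b 1 (by rw [orderOf_one]; exact hG.prime.not_dvd_one)]

omit hc in
theorem Fam.mem_orb_of_eq (X : Fam S φ T) {a b : ZMod p} (ha : a ≠ 0) (hb : b ≠ 0) (h : X.x b = X.x a) :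
    b ∈ orb (eGroup S (trivIrr S.V)) a := by
  by_contra hn
  have h1 := X.pm_eq hG S hb b
  rw [h, X.pm_eq hG S ha b, if_pos (mem_orb_self b), if_neg hn] at h1
  have hT : (T : ℂ) ≠ 0 := by
    rw [Int.cast_ne_zero]
    intro h0
    have := X.T_sq
    rw [h0] at this
    simp at this
  exact hT (by linear_combination h1)

/-- Replacing a function by another one equal to it on the regular elements. -/
theorem Fam.inner_sub (X : Fam S φ T) {f f' : G → ℂ} (hf : IsClassFunction G f) (hf' : IsClassFunction G f')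
    (hfφ : HasCentral S φ f) (hf'φ : HasCentral S φ f') (heq : ∀ g, ¬ p ∣ orderOf g → f g = f' g)
    {z : ZMod p} (hz : z ≠ 0) :
    classInner f (X.x z : G → ℂ) - classInner f' (X.x z : G → ℂ) = -(T : ℂ) * (pm S f z - pm S f' z) := by
  set H := eGroup S (trivIrr S.V) with hH
  have hF : IsClassFunction G (f - f') := fun a b => by simp [hf a b, hf' a b]
  have hFφ : HasCentral S φ (f - f') := fun g v => by simp [hfφ g v, hf'φ g v, mul_sub]
  have h := inner_singular hG S hc hF (IsIrrCharacter.isClassFunction (X.x z).2) hFφ (X.central z)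
    (fun g hg => by simp [heq g hg])
  rw [classInner_sub_left] at h
  have hR : ∑ k : (ZMod p)ˣ, (f - f') (S.u ^ (k : ZMod p).val) * conj ((X.x z : G → ℂ) (S.u ^ (k : ZMod p).val)) =
      -(T : ℂ) * ((rowE S (trivIrr S.V) : ℂ) * (p : ℂ) * (pm S f z - pm S f' z)) := by
    have e : ∀ k : (ZMod p)ˣ, (f - f') (S.u ^ (k : ZMod p).val) *
        conj ((X.x z : G → ℂ) (S.u ^ (k : ZMod p).val)) = -(T : ℂ) * ∑ l : H,
          (f - f') (S.u ^ (k : ZMod p).val) * zp (-(((l : (ZMod p)ˣ) : ZMod p) * z * (k : ZMod p))) := fun k => by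
      rw [X.val z hz _ k.ne_zero, map_mul, map_neg, map_intCast, Th, map_sum, mul_left_comm, mul_sum]
      simp only [conj_zp]
      rfl
    rw [sum_congr rfl fun k _ => e k, ← mul_sum]
    congr 1
    rw [sum_comm]
    have e2 : ∀ l : H, ∑ k : (ZMod p)ˣ,
        (f - f') (S.u ^ (k : ZMod p).val) * zp (-(((l : (ZMod p)ˣ) : ZMod p) * z * (k : ZMod p))) =
          (p : ℂ) * (pm S f z - pm S f' z) := fun l => by
      have h1 : (f - f') (S.u ^ (0 : ZMod p).val) = 0 := by
        rw [ZMod.val_zero, pow_zero, Pi.sub_apply, heq 1 (by rw [orderOf_one]; exact hG.prime.not_dvd_one),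
          sub_self]
      rw [sum_units_eq_sum_sub (fun i => (f - f') (S.u ^ i.val) *
        zp (-(((l : (ZMod p)ˣ) : ZMod p) * z * i))), h1, zero_mul, sub_zero,
        ← pm_orb hG S hc hf (mem_orb.2 ⟨l, rfl⟩), ← pm_orb hG S hc hf' (mem_orb.2 ⟨l, rfl⟩), pm, pm,
        ← mul_sub, ← sum_sub_distrib, ← mul_assoc, mul_inv_cancel₀ (Nat.cast_ne_zero.2 hp.out.ne_zero : (p : ℂ) ≠ 0), one_mul]
      exact sum_congr rfl fun i _ => by rw [Pi.sub_apply]; ring
    rw [sum_congr rfl fun l _ => e2 l, sum_const, card_univ, nsmul_eq_mul, ← Nat.card_eq_fintype_card, rowE]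
    ring
  rw [hR] at h
  refine mul_left_cancel₀ (mul_ne_zero (Nat.cast_ne_zero.2 (rowE_pos hG S (trivIrr S.V)).ne') (Nat.cast_ne_zero.2 hp.out.ne_zero : (p : ℂ) ≠ 0)) ?_
  rw [h]
  ring

/-- The differences between the members. -/
theorem Fam.inner_sub' (X : Fam S φ T) {f : G → ℂ} (hf : IsClassFunction G f) (hfφ : HasCentral S φ f)
    {z w : ZMod p} (hz : z ≠ 0) (hw : w ≠ 0) :
    classInner f (X.x z : G → ℂ) - classInner f (X.x w : G → ℂ) = -(T : ℂ) * (pm S f z - pm S f w) := by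
  set H := eGroup S (trivIrr S.V) with hH
  have hF : IsClassFunction G ((X.x z : G → ℂ) - (X.x w : G → ℂ)) := fun a b => by
    simp [IsIrrCharacter.isClassFunction (X.x z).2 a b, IsIrrCharacter.isClassFunction (X.x w).2 a b]
  have hFφ : HasCentral S φ ((X.x z : G → ℂ) - (X.x w : G → ℂ)) := fun g v => by
    simp [X.central z g v, X.central w g v, mul_sub]
  have h := inner_singular hG S hc hf hF hfφ hFφ (fun g hg => by simp [X.reg z w g hg])
  rw [classInner_sub_right] at h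
  have e : ∀ k : (ZMod p)ˣ, f (S.u ^ (k : ZMod p).val) *
      conj (((X.x z : G → ℂ) - (X.x w : G → ℂ)) (S.u ^ (k : ZMod p).val)) = -(T : ℂ) * ∑ l : H,
        (f (S.u ^ (k : ZMod p).val) * zp (-(((l : (ZMod p)ˣ) : ZMod p) * z * (k : ZMod p))) -
          f (S.u ^ (k : ZMod p).val) * zp (-(((l : (ZMod p)ˣ) : ZMod p) * w * (k : ZMod p)))) := fun k => by
    rw [Pi.sub_apply, map_sub, X.val z hz _ k.ne_zero, X.val w hw _ k.ne_zero, map_mul, map_mul, map_neg,
      map_intCast, Th, Th, map_sum, map_sum, sum_sub_distrib, ← mul_sum, ← mul_sum]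
    simp only [conj_zp]
    ring
  rw [sum_congr rfl fun k _ => e k, ← mul_sum, sum_comm] at h
  have e2 : ∀ l : H, ∑ k : (ZMod p)ˣ,
      (f (S.u ^ (k : ZMod p).val) * zp (-(((l : (ZMod p)ˣ) : ZMod p) * z * (k : ZMod p))) -
        f (S.u ^ (k : ZMod p).val) * zp (-(((l : (ZMod p)ˣ) : ZMod p) * w * (k : ZMod p)))) =
        (p : ℂ) * (pm S f z - pm S f w) := fun l => by
    rw [sum_sub_distrib,
      sum_units_eq_sum_sub (fun i => f (S.u ^ i.val) * zp (-(((l : (ZMod p)ˣ) : ZMod p) * z * i))),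
      sum_units_eq_sum_sub (fun i => f (S.u ^ i.val) * zp (-(((l : (ZMod p)ˣ) : ZMod p) * w * i))),
      ← pm_orb hG S hc hf (z := z) (mem_orb.2 ⟨l, rfl⟩), ← pm_orb hG S hc hf (z := w) (mem_orb.2 ⟨l, rfl⟩),
      pm, pm, ← mul_sub, ← mul_assoc, mul_inv_cancel₀ (Nat.cast_ne_zero.2 hp.out.ne_zero : (p : ℂ) ≠ 0), one_mul]
    simp
  rw [sum_congr rfl fun l _ => e2 l, sum_const, card_univ, nsmul_eq_mul, ← Nat.card_eq_fintype_card] at h
  refine mul_left_cancel₀ (mul_ne_zero (Nat.cast_ne_zero.2 (rowE_pos hG S (trivIrr S.V)).ne') (Nat.cast_ne_zero.2 hp.out.ne_zero : (p : ℂ) ≠ 0)) ?_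
  rw [h, rowE]
  ring

end CfsgLib.SmallGroups.QuasiSimple
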