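import Cfsg.Agent.Lib.SmallGroups.QuasiSimpleFixed

/-!
# Products of the members of an exceptional family
-/

set_option autoImplicit false
set_option linter.style.haveILetI false
set_option linter.unusedSectionVars false

namespace CfsgLib.SmallGroups.QuasiSimple

open Cfsg CfsgLib.CharTheory CfsgLib.Blocks CfsgLib.DefectOne CfsgLib.SmallGroups.SmallDegree Finset
open scoped ComplexConjugate Classical

/-- The sums of two orbits are symmetric when the group contains `-1`. -/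
theorem circ_swap {p : ℕ} [Fact p.Prime] {H : Subgroup (ZMod p)ˣ} (h : (-1 : (ZMod p)ˣ) ∈ H)
    {b z : ZMod p} (hb : b ≠ 0) (hz : z ≠ 0) : circ H 1 b z = circ H 1 z b := by
  have hmem : ∀ {x y : ZMod p} (l : H), y - ((l : (ZMod p)ˣ) : ZMod p) * 1 ∈ orb H x →
      ∃ m : H, ((m : (ZMod p)ˣ) : ZMod p) * x = y - ((l : (ZMod p)ˣ) : ZMod p) := fun l hl => by
    obtain ⟨m, hm⟩ := mem_orb.1 hl
    exact ⟨m, by rw [hm, mul_one]⟩
  -- the image of an element
  have hkey : ∀ (x y : ZMod p) (l m : H), ((m : (ZMod p)ˣ) : ZMod p) * x = y - ((l : (ZMod p)ˣ) : ZMod p) →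
      ((m⁻¹ : H) : (ZMod p)ˣ) * y = x - (((⟨-1, h⟩ * l * m⁻¹ : H) : (ZMod p)ˣ) : ZMod p) := fun x y l m hm => by
    have hm0 : ((m : (ZMod p)ˣ) : ZMod p) ≠ 0 := Units.ne_zero _
    simp only [Subgroup.coe_mul, InvMemClass.coe_inv, Units.val_mul, Units.val_neg, Units.val_one,
      Units.val_inv_eq_inv_val]
    field_simp
    linear_combination -hm
  let F : ∀ (x y : ZMod p) (l : H), y - ((l : (ZMod p)ˣ) : ZMod p) * 1 ∈ orb H x → H := fun x y l hl =>
    ⟨-1, h⟩ * l * (hmem l hl).choose⁻¹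
  have hF : ∀ (x y : ZMod p) (l : H) (hl : y - ((l : (ZMod p)ˣ) : ZMod p) * 1 ∈ orb H x),
      x - ((F x y l hl : (ZMod p)ˣ) : ZMod p) * 1 ∈ orb H y := fun x y l hl => by
    rw [mul_one]
    exact mem_orb.2 ⟨_, hkey x y l _ (hmem l hl).choose_spec⟩
  have hinv : ∀ (x y : ZMod p) (_ : y ≠ 0) (l : H) (hl : y - ((l : (ZMod p)ˣ) : ZMod p) * 1 ∈ orb H x),
      F y x (F x y l hl) (hF x y l hl) = l := fun x y hy l hl => by
    set m := (hmem l hl).choose with hm
    have h1 := hkey x y l m (hmem l hl).choose_spec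
    have h2 := (hmem (F x y l hl) (hF x y l hl)).choose_spec
    have h3 : (hmem (F x y l hl) (hF x y l hl)).choose = m⁻¹ := mul_right_inj_of_ne hy (h2.trans h1.symm)
    show ⟨-1, h⟩ * (⟨-1, h⟩ * l * m⁻¹) * (hmem (F x y l hl) (hF x y l hl)).choose⁻¹ = l
    rw [h3, inv_inv]
    refine Subtype.ext ?_
    simp [mul_assoc]
  refine card_bij' (fun l hl => F b z l (mem_filter.1 hl).2) (fun l hl => F z b l (mem_filter.1 hl).2)
    (fun l hl => mem_filter.2 ⟨mem_univ _, hF b z l (mem_filter.1 hl).2⟩)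
    (fun l hl => mem_filter.2 ⟨mem_univ _, hF z b l (mem_filter.1 hl).2⟩)
    (fun l hl => hinv b z hz l (mem_filter.1 hl).2) fun l hl => hinv z b hb l (mem_filter.1 hl).2

variable {p : ℕ} [hp : Fact p.Prime] {G : Type*} [Group G] [Fintype G]
  (hG : ExactPrime G p) (S : Sect G p)

/-- The setting of a product of two members of a family with values the periods. -/
structure IsProd (φ : S.V →* ℂˣ) (f : ZMod p → ZMod p → G → ℂ) : Prop where
  char : ∀ a b, IsCharacter G (f a b)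
  central : ∀ a b, HasCentral S φ (f a b)
  reg : ∀ a b a' b' g, ¬ p ∣ orderOf g → f a b g = f a' b' g
  deg : ∀ a b, f a b 1 = ((p : ℂ) - rowE S (trivIrr S.V)) ^ 2
  val : ∀ a b : ZMod p, a ≠ 0 → b ≠ 0 → ∀ i : ZMod p, i ≠ 0 →
    f a b (S.u ^ i.val) = Th (eGroup S (trivIrr S.V)) a i * Th (eGroup S (trivIrr S.V)) b i

include hG

variable {φ : S.V →* ℂˣ} {f : ZMod p → ZMod p → G → ℂ}

/-- The multiplicities on `⟨u⟩` of a product. -/
theorem IsProd.pm_eq (hf : IsProd S φ f) {a b : ZMod p} (ha : a ≠ 0) (hb : b ≠ 0) (z : ZMod p) :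
    pm S (f a b) z = (p : ℂ) - 2 * rowE S (trivIrr S.V) + (circ (eGroup S (trivIrr S.V)) a b z : ℂ) := by
  rw [pm_double hG S hb (hf.val a b ha hb), hf.deg, rowE]
  have hp0 : (p : ℂ) ≠ 0 := Nat.cast_ne_zero.2 hp.out.ne_zero
  field_simp
  ring

omit hG in
theorem circ_zero_right {H : Subgroup (ZMod p)ˣ} {a b : ZMod p} :
    circ H a b 0 = if -a ∈ orb H b then Nat.card H else 0 := by
  have e : ∀ l : H, (0 - ((l : (ZMod p)ˣ) : ZMod p) * a ∈ orb H b) ↔ -a ∈ orb H b := fun l => by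
    rw [zero_sub, ← mul_neg, mem_orb_comm, mem_orb_mul, mem_orb_comm]
  rw [circ, filter_congr fun l _ => e l]
  split_ifs with h
  · rw [filter_true_of_mem fun _ _ => h, card_univ, Nat.card_eq_fintype_card]
  · rw [filter_false_of_mem fun _ _ => h, card_empty]

variable (hc : ∀ (v : S.V) (x : G), (v : G) * x = x * (v : G))
include hc

/-- `T n + circ` is constant, and the row sums follow. -/
theorem IsProd.exists_K {T : ℤ} (hf : IsProd S φ f) (X : Fam S φ T) {t : ℕ}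
    (hpt : p = rowE S (trivIrr S.V) * t + 1) {n : ZMod p → ZMod p → ZMod p → ℕ}
    (hn : ∀ a b z, classInner (f a b) (X.x z : G → ℂ) = n a b z) :
    ∃ K : ℤ, (∀ a b z : ZMod p, a ≠ 0 → b ≠ 0 → z ≠ 0 →
        T * n a b z + circ (eGroup S (trivIrr S.V)) a b z = K) ∧
      ∀ a b : ZMod p, a ≠ 0 → b ≠ 0 → T * ((∑ z ∈ (univ : Finset (ZMod p)).erase 0, n a b z : ℕ) : ℤ) =
        (rowE S (trivIrr S.V) : ℤ) * ((t : ℤ) * K - rowE S (trivIrr S.V) +
          if -a ∈ orb (eGroup S (trivIrr S.V)) b then 1 else 0) := by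
  set H := eGroup S (trivIrr S.V) with hH
  have h1 : (1 : ZMod p) ≠ 0 := one_ne_zero
  set K : ℤ := T * n 1 1 1 + circ H 1 1 1 with hK
  have hT2 : (T : ℂ) * T = 1 := by exact_mod_cast congrArg (Int.cast (R := ℂ)) X.T_sq
  have hconst : ∀ a b z : ZMod p, a ≠ 0 → b ≠ 0 → z ≠ 0 → T * n a b z + circ H a b z = K := by
    intro a b z ha hb hz
    have hA := X.inner_sub' hG S hc (IsCharacter.isClassFunction (hf.char a b)) (hf.central a b) hz h1
    have hB := X.inner_sub hG S hc (IsCharacter.isClassFunction (hf.char a b))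
      (IsCharacter.isClassFunction (hf.char 1 1)) (hf.central a b) (hf.central 1 1)
      (fun g hg => hf.reg a b 1 1 g hg) h1
    rw [hn, hn, hf.pm_eq hG S ha hb, hf.pm_eq hG S ha hb, ← hH] at hA
    rw [hn, hn, hf.pm_eq hG S ha hb, hf.pm_eq hG S h1 h1, ← hH] at hB
    apply Int.cast_injective (α := ℂ)
    rw [hK]
    push_cast
    linear_combination (T : ℂ) * hA + (T : ℂ) * hB +
      (-(circ H a b z : ℂ) + (circ H 1 1 1 : ℂ)) * hT2
  refine ⟨K, hconst, fun a b ha hb => ?_⟩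
  have h2 := sum_congr (rfl : (univ : Finset (ZMod p)).erase 0 = _) fun z hz =>
    hconst a b z ha hb (ne_of_mem_erase hz)
  rw [sum_add_distrib, ← mul_sum, sum_const, card_ne_zero_univ, nsmul_eq_mul] at h2
  have h3 := sum_circ (H := H) ha hb
  have h4 : ((∑ c ∈ (univ : Finset (ZMod p)).erase 0, circ H a b c : ℕ) : ℤ) +
      ((if -a ∈ orb H b then Nat.card H else 0 : ℕ) : ℤ) = (Nat.card H : ℤ) * Nat.card H := by
    exact_mod_cast h3
  push_cast at h4 h2 ⊢
  rw [show p - 1 = rowE S (trivIrr S.V) * t by omega] at h2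
  push_cast at h2
  rw [rowE] at h2 ⊢
  split_ifs at h4 ⊢ <;> linear_combination h2 - h4

variable {E : Subgroup G} (hE : Comp S E)
include hE

/-- The fixed vectors of a product. -/
theorem IsProd.wt_eq (hf : IsProd S φ f) {t : ℕ} (hpt : p = rowE S (trivIrr S.V) * t + 1)
    {β γ : E →* ℂˣ} (hβ : ∀ v : S.V, β ⟨v, hE.le v.2⟩ = φ v) (hγ : ∀ v : S.V, γ ⟨v, hE.le v.2⟩ = φ v)
    {a b : ZMod p} (ha : a ≠ 0) (hb : b ≠ 0) (hfγ : ∀ y : E, (y : G) ∉ S.V → f a b y = (γ y : ℂ))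
    {W : ℕ} (hW : wt S E (f a b) β = W) :
    (W : ℤ) = (t : ℤ) - 2 + (if -a ∈ orb (eGroup S (trivIrr S.V)) b then 1 else 0) +
      if β = γ then 1 else 0 := by
  have h := hE.wt_eq hG S hc (IsCharacter.isClassFunction (hf.char a b)) (hf.central a b) hβ hγ hfγ
  rw [hW, hf.pm_eq hG S ha hb, circ_zero_right] at h
  refine mul_left_cancel₀ (Int.natCast_ne_zero.2 (rowE_pos hG S (trivIrr S.V)).ne') ?_
  apply Int.cast_injective (α := ℂ)
  have hp' : (p : ℂ) = (rowE S (trivIrr S.V) : ℂ) * t + 1 := by exact_mod_cast congrArg (Nat.cast (R := ℂ)) hpt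
  rw [hp', ← rowE] at h
  push_cast
  split_ifs at h ⊢ <;> push_cast at h ⊢ <;> linear_combination h

end CfsgLib.SmallGroups.QuasiSimple
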