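import Cfsg.Agent.Lib.SmallGroups.QuasiSimpleEnergy
import Cfsg.Agent.Lib.CharTheory.SymmetricSquare

/-!
# The degree `p - e` requires `e = 2` or `t = 2`

The exterior or the symmetric square of a member of the family has no exceptional constituents.
-/

set_option autoImplicit false
set_option linter.style.haveILetI false
set_option linter.unusedSectionVars false

namespace CfsgLib.SmallGroups.QuasiSimple

open Cfsg CfsgLib.CharTheory CfsgLib.Blocks CfsgLib.DefectOne CfsgLib.SmallGroups.SmallDegree Finset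
open scoped ComplexConjugate Classical

variable {p : ℕ} [hp : Fact p.Prime] {G : Type*} [Group G] [Fintype G]
  (hG : ExactPrime G p) (S : Sect G p) (hc : ∀ (v : S.V) (x : G), (v : G) * x = x * (v : G))
  {E : Subgroup G} (hE : Comp S E)

include hG hc hE

/-- With `e` even and a centre of odd order `E` has one involution modulo the centre. -/
theorem Comp.exists_involution (he : 2 ∣ rowE S (trivIrr S.V)) (hodd : Odd (Nat.card S.V)) (hp2 : p ≠ 2) :
    ∃ i : E, i * i = 1 ∧ (i : G) ∉ S.V ∧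
      ∀ y : E, ((y : G) * y) ∈ S.V → (y : G) ∈ S.V ∨ (y : G) * i ∈ S.V := by
  haveI : Fact (Nat.Prime 2) := ⟨Nat.prime_two⟩
  obtain ⟨i, hi⟩ := exists_prime_orderOf_dvd_card' (G := E) 2 (by rw [hE.card]; exact he.mul_right _)
  have hi2 : i * i = 1 := by rw [← sq, ← hi]; exact pow_orderOf_eq_one i
  have hiV : (i : G) ∉ S.V := fun h => by
    have h2 : orderOf (⟨(i : G), h⟩ : S.V) = 2 := by
      rw [Subgroup.orderOf_mk, Subgroup.orderOf_coe, hi]
    have h3 := h2 ▸ orderOf_dvd_natCard (⟨(i : G), h⟩ : S.V)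
    exact (Nat.not_even_iff_odd.2 hodd) (even_iff_two_dvd.2 h3)
  have hsq : ∀ (y : E), ((y : G) * y) ∈ S.V → ∀ l : (ZMod p)ˣ,
      (y : G) * S.u * (y : G)⁻¹ = S.u ^ (l : ZMod p).val → l = 1 ∨ l = -1 := by
    intro y hy l hl
    have h1 : (y : G) * y * S.u * ((y : G) * y)⁻¹ = S.u ^ (((l * l : (ZMod p)ˣ)) : ZMod p).val := by
      rw [Units.val_mul, ← S.pow_val_mul, pow_mul, ← hl, conj_pow, ← hl, mul_inv_rev]
      simp only [mul_assoc]
    rw [(mem_V_iff hG S hc (hE.reg _ (E.mul_mem y.2 y.2))).1 hy] at h1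
    have h2 : l * l = 1 := by
      refine Units.ext (pow_val_inj hG S ?_)
      rw [← h1, Units.val_one, ZMod.val_one, pow_one]
    rcases mul_self_eq_one_iff.1 (show (l : ZMod p) * l = 1 by rw [← Units.val_mul, h2, Units.val_one]) with h | h
    · exact Or.inl (Units.ext h)
    · exact Or.inr (Units.ext (by rw [h, Units.val_neg, Units.val_one]))
  obtain ⟨li, hli, hli1⟩ := hE.exists_unit hG S hc i
  have hlim : li = -1 := (hsq i (by rw [← Subgroup.coe_mul, hi2, OneMemClass.coe_one]; exact S.V.one_mem) li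
    hli).resolve_left fun h => hiV (hli1.1 h)
  refine ⟨i, hi2, hiV, fun y hy => ?_⟩
  obtain ⟨l, hl, hl1⟩ := hE.exists_unit hG S hc y
  rcases hsq y hy l hl with h | h
  · exact Or.inl (hl1.1 h)
  · right
    rw [mem_V_iff hG S hc (hE.reg _ (E.mul_mem y.2 i.2))]
    have h1 : (y : G) * i * S.u * ((y : G) * i)⁻¹ = S.u ^ ((l * li : (ZMod p)ˣ) : ZMod p).val := by
      rw [Units.val_mul, ← S.pow_val_mul, pow_mul, ← hl, conj_pow, ← hli, mul_inv_rev]
      simp only [mul_assoc]
    rw [h1, h, hlim, neg_mul_neg, one_mul, Units.val_one, ZMod.val_one, pow_one]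

variable {φ₁ : S.V →* ℂˣ} {T₀ : ℤ}

set_option maxHeartbeats 1000000 in
/-- No such families exist with `e, t ≥ 3`. -/
theorem false_of_families (hodd : Odd (Nat.card S.V))
    (X₁ : Fam S φ₁ 1) (X₂ : Fam S (φ₁ * φ₁) 1) (X₀ : Fam S (1 : S.V →* ℂˣ) T₀)
    (hd₁ : (charDegree (X₁.x 1 : G → ℂ) : ℤ) = (p : ℤ) - rowE S (trivIrr S.V))
    (hd₂ : (charDegree (X₂.x 1 : G → ℂ) : ℤ) = (p : ℤ) - rowE S (trivIrr S.V))
    {L : ℕ} (hd₀ : (charDegree (X₀.x 1 : G → ℂ) : ℤ) = (p : ℤ) * L - T₀ * rowE S (trivIrr S.V))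
    (hL : 1 ≤ L) (hL2 : T₀ = 1 → 2 ≤ L) {t : ℕ} (hpt : p = rowE S (trivIrr S.V) * t + 1)
    (ht : 3 ≤ t) (he3 : 3 ≤ rowE S (trivIrr S.V)) : False := by
  obtain ⟨K, hK2, hN, he, hn, henergy⟩ := energy hG S hc hE X₁ X₂ X₀ hd₁ hd₂ hd₀ hL hL2 hpt ht he3
  have hp2 : p ≠ 2 := by
    have : 3 * 3 ≤ rowE S (trivIrr S.V) * t := Nat.mul_le_mul he3 ht
    omega
  obtain ⟨i, hi2, hiV, hiu⟩ := hE.exists_involution hG S hc he hodd hp2
  set H := eGroup S (trivIrr S.V) with hH
  set e := rowE S (trivIrr S.V) with hedef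
  have hcardH : Nat.card H = e := rfl
  set nzs := (univ : Finset (ZMod p)).erase 0 with hnzs
  have h1 : (1 : ZMod p) ≠ 0 := one_ne_zero
  have h2 : (2 : ZMod p) ≠ 0 := fun h => by
    have h' : ((2 : ℕ) : ZMod p) = 0 := by exact_mod_cast h
    rw [ZMod.natCast_eq_zero_iff] at h'
    have := Nat.le_of_dvd two_pos h'
    have := hp.out.two_le
    omega
  have h21 : (2 : ZMod p) * 1 ≠ 0 := mul_ne_zero h2 h1
  have hneg1 : (-1 : (ZMod p)ˣ) ∈ H := neg_one_mem (by rw [hcardH]; exact he)
  have hneg : -(1 : ZMod p) ∈ orb H 1 :=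
    (neg_mem_orb (by rw [hcardH]; exact he)).2 (mem_orb_self 1)
  set ψ : G → ℂ := (X₁.x 1 : G → ℂ) with hψ
  have hψc : IsCharacter G ψ := IsIrrCharacter.isCharacter (X₁.x 1).2
  have hψcl := IsCharacter.isClassFunction hψc
  have hψd : ψ 1 = (p : ℂ) - e := by
    rw [hψ, ← charDegree_cast, ← Int.cast_natCast, hd₁]
    push_cast
    ring
  have hψV : ∀ v : S.V, ψ v = (φ₁ v : ℂ) * ((p : ℂ) - e) := fun v => by
    have h := X₁.central 1 1 v
    rwa [one_mul, ← hψ, hψd] at h
  have hp0 : (p : ℂ) ≠ 0 := Nat.cast_ne_zero.2 hp.out.ne_zero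
  have hpm1 : ∀ {φ : S.V →* ℂˣ} (X : Fam S φ 1), (charDegree (X.x 1 : G → ℂ) : ℤ) = (p : ℤ) - e →
      pm S (X.x 1 : G → ℂ) 0 = 1 := fun X hd => by
    rw [X.pm_eq hG S h1, if_neg fun h => ne_zero_of_mem_orb h1 h rfl, sub_zero,
      ← Int.cast_natCast (charDegree _), hd, ← hedef]
    push_cast
    field_simp
    ring
  obtain ⟨α, hα, hαv⟩ := hE.exists_alpha hG S hc hψc (X₁.central 1) (hpm1 X₁ hd₁)
  obtain ⟨β, hβ, hβv⟩ := hE.exists_alpha hG S hc (IsIrrCharacter.isCharacter (X₂.x 1).2) (X₂.central 1)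
    (hpm1 X₂ hd₂)
  have hωβ : wt S E (X₂.x 1 : G → ℂ) β = ((1 : ℕ) : ℂ) := by
    have h := hE.wt_eq hG S hc (IsIrrCharacter.isClassFunction (X₂.x 1).2) (X₂.central 1) hβ hβ hβv
    rw [hpm1 X₂ hd₂, if_pos rfl, sub_self, zero_add] at h
    rw [Nat.cast_one]
    exact mul_left_cancel₀ (Nat.cast_ne_zero.2 (rowE_pos hG S _).ne' : ((rowE S (trivIrr S.V) : ℕ) : ℂ) ≠ 0)
      (h.trans (mul_one _).symm)
  have hsign : (β i : ℂ) = 1 ∨ (β i : ℂ) = -1 := by
    refine sq_eq_one_iff.1 ?_
    rw [sq, ← Units.val_mul, ← map_mul, hi2, map_one, Units.val_one]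
  -- a square without exceptional constituents
  have hnoY : ∀ σ : ℤ, IsCharacter G (fun g => (ψ g ^ 2 + (σ : ℂ) * ψ (g * g)) / 2) →
      (σ = 1 ∨ σ = -1) → (β i : ℂ) = -(σ : ℂ) →
      ∃ C : ℤ, ∀ z : ZMod p, z ≠ 0 →
        (circ H 1 1 z : ℤ) = C + σ * if z ∈ orb H (2 * 1) then 1 else 0 := by
    intro σ hc' hσ hβi
    set f := fun g => (ψ g ^ 2 + (σ : ℂ) * ψ (g * g)) / 2 with hf
    have hfφ : HasCentral S (φ₁ * φ₁) f := fun g v => by
      have e1 : g * (v : G) * (g * (v : G)) = g * g * ((v * v : S.V) : G) := by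
        rw [Subgroup.coe_mul, mul_assoc g, ← mul_assoc (v : G) g, hc v g, mul_assoc g (v : G), ← mul_assoc g g]
      simp only [hf, e1, hψ, X₁.central 1 g v, X₁.central 1 (g * g) (v * v), map_mul, MonoidHom.mul_apply,
        Units.val_mul]
      ring
    have hfcl : IsClassFunction G f := IsCharacter.isClassFunction hc'
    -- the multiplicities on `⟨u⟩`
    have hA : ∀ z, pm S (fun g => ψ (g * g)) z = 1 - if z ∈ orb H (2 * 1) then (1 : ℂ) else 0 := fun z => by
      rw [pm_single hG S (H := H) h21 (c := -1) (fun k hk => ?_) z, mul_one, hψd, hcardH]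
      · field_simp
        split_ifs <;> ring
      · show ψ (S.u ^ k.val * S.u ^ k.val) = _
        have hpw : S.u ^ k.val * S.u ^ k.val = S.u ^ (2 * k).val := by
          rw [← pow_add, pow_eq_pow_iff_modEq, S.ord, ← ZMod.natCast_eq_natCast_iff, Nat.cast_add,
            ZMod.natCast_zmod_val, ZMod.natCast_zmod_val, two_mul]
        rw [hpw, hψ, X₁.val 1 h1 _ (mul_ne_zero h2 hk), ← hH, Th_two_mul]
        push_cast
        ring
    have hsq : ∀ z, pm S (fun g => ψ g ^ 2) z = (p : ℂ) - 2 * e + (circ H 1 1 z : ℂ) := fun z => by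
      rw [pm_double hG S (H := H) h1 (a := 1) (fun k hk => ?_) z, hψd, hcardH]
      · field_simp
        ring
      · show ψ (S.u ^ k.val) ^ 2 = _
        rw [hψ, X₁.val 1 h1 k hk, ← hH]
        push_cast
        ring
    have hpm : ∀ z, pm S f z = ((p : ℂ) - 2 * e + (circ H 1 1 z : ℂ) +
        (σ : ℂ) * (1 - if z ∈ orb H (2 * 1) then (1 : ℂ) else 0)) / 2 := fun z => by
      rw [← hA, ← hsq]
      simp only [pm, hf, mul_sum, ← sum_add_distrib, sum_div]
      exact sum_congr rfl fun k _ => by ring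
    have hpm0 : pm S f 0 = ((p : ℂ) - e + σ) / 2 := by
      rw [hpm, circ_zero_right, if_pos hneg, if_neg fun h' => ne_zero_of_mem_orb h21 h' rfl, hcardH]
      ring
    -- no fixed vector of weight `β`
    set γ : E →* ℂˣ := α * α with hγdef
    have hγ : ∀ v : S.V, γ ⟨v, hE.le v.2⟩ = (φ₁ * φ₁) v := fun v => by
      simp only [hγdef, MonoidHom.mul_apply, hα]
    have hw : wt S E f β = ((0 : ℕ) : ℂ) := by
      have hσ2 : (σ : ℂ) * σ = 1 := by rcases hσ with h' | h' <;> rw [h'] <;> norm_num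
      have hconjσ : conj (σ : ℂ) = (σ : ℂ) := map_intCast _ _
      have hval : ∀ y : E, fixc S E f y * conj (β y : ℂ) =
          (1 + (σ : ℂ)) / 2 * ((γ y : ℂ) * conj (β y : ℂ)) +
            ((if (y : G) ∈ S.V then ((p : ℂ) - e - 1) / 2 else 0) +
              if (y : G) * i ∈ S.V then -(((p : ℂ) - e - 1) / 2) else 0) := by
        intro y
        rw [hE.fixc_apply hG S hc hfcl hfφ]
        by_cases hy : (y : G) ∈ S.V
        · have hyi : (y : G) * i ∉ S.V := fun h => hiV ((Subgroup.mul_mem_cancel_left S.V hy).1 h)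
          have e1 : β y = (φ₁ * φ₁) ⟨y, hy⟩ := hβ ⟨y, hy⟩
          have e2 : γ y = (φ₁ * φ₁) ⟨y, hy⟩ := hγ ⟨y, hy⟩
          rw [dif_pos hy, if_pos hy, if_neg hyi, e1, e2, hpm0, add_zero]
          linear_combination (((p : ℂ) - e - 1) / 2) * mul_conj_linear (φ₁ * φ₁) ⟨y, hy⟩
        · rw [dif_neg hy, if_neg hy, zero_add]
          by_cases hyi : (y : G) * i ∈ S.V
          · set v : S.V := ⟨(y : G) * i, hyi⟩ with hv
            have hyv : y = (⟨v, hE.le v.2⟩ : E) * i := Subtype.ext (by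
              rw [Subgroup.coe_mul]
              show (y : G) = (y : G) * i * i
              rw [mul_assoc, ← Subgroup.coe_mul, hi2, OneMemClass.coe_one, mul_one])
            have hαi : (α i : ℂ) * (α i : ℂ) = 1 := by
              rw [← Units.val_mul, ← map_mul, hi2, map_one, Units.val_one]
            have hψy : ψ (y : G) = (α y : ℂ) := hαv y hy
            have hsq' : ψ ((y : G) * y) = (φ₁ v : ℂ) * φ₁ v * ((p : ℂ) - e) := by
              have hyy : (y : G) * y = ((v * v : S.V) : G) := by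
                rw [hyv, Subgroup.coe_mul, Subgroup.coe_mul]
                show (v : G) * (i : G) * ((v : G) * (i : G)) = (v : G) * (v : G)
                rw [mul_assoc, ← mul_assoc (i : G), ← hc v (i : G), mul_assoc (v : G) (i : G), ← Subgroup.coe_mul,
                  hi2, OneMemClass.coe_one, mul_one]
              rw [hyy, hψV, map_mul, Units.val_mul]
            rw [if_pos hyi, hf]
            show (ψ (y : G) ^ 2 + (σ : ℂ) * ψ ((y : G) * y)) / 2 * _ = _
            rw [hψy, hsq', hyv, map_mul, map_mul, map_mul, hα, hβ v, hγdef, MonoidHom.mul_apply,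
              MonoidHom.mul_apply, MonoidHom.mul_apply, hα]
            simp only [MonoidHom.mul_apply, Units.val_mul, map_mul, hβi, map_neg, hconjσ]
            have hn1 : (φ₁ v : ℂ) * φ₁ v * (conj (φ₁ v : ℂ) * conj (φ₁ v : ℂ)) = 1 := by
              linear_combination ((φ₁ v : ℂ) * conj (φ₁ v : ℂ) + 1) * mul_conj_linear φ₁ v
            linear_combination
              ((σ : ℂ) * σ / 2) * ((φ₁ v : ℂ) * φ₁ v * (conj (φ₁ v : ℂ) * conj (φ₁ v : ℂ))) * hαi +
              ((1 - ((p : ℂ) - e)) / 2) * ((φ₁ v : ℂ) * φ₁ v * (conj (φ₁ v : ℂ) * conj (φ₁ v : ℂ))) * hσ2 +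
              ((1 - ((p : ℂ) - e)) / 2) * hn1
          · have hyy : (y : G) * y ∉ S.V := fun h => (hiu y h).elim hy hyi
            rw [if_neg hyi, hf, add_zero]
            show (ψ (y : G) ^ 2 + (σ : ℂ) * ψ ((y : G) * y)) / 2 * _ = _
            rw [hαv y hy, ← Subgroup.coe_mul, hαv (y * y) hyy, map_mul, hγdef, MonoidHom.mul_apply,
              Units.val_mul]
            ring
      have hγi : (γ i : ℂ) = 1 := by
        rw [hγdef, MonoidHom.mul_apply, ← map_mul, hi2, map_one, Units.val_one]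
      have hmain : (1 + (σ : ℂ)) / 2 * ∑ y : E, (γ y : ℂ) * conj (β y : ℂ) = 0 := by
        rcases hσ with h' | h'
        · refine mul_eq_zero_of_right _ ?_
          have e : ∀ y : E, (γ y : ℂ) * conj (β y : ℂ) = (((γ * β⁻¹) y : ℂˣ) : ℂ) := fun y => by
            rw [MonoidHom.mul_apply γ β⁻¹ y, MonoidHom.inv_apply, Units.val_mul, Units.val_inv_eq_inv_val,
              inv_eq_of_mul_eq_one_right (mul_conj_linear β y)]
          rw [sum_congr rfl fun y _ => e y, Brauer.sum_homUnit, if_neg]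
          intro h
          have hh : γ i = β i := by
            have h3 := DFunLike.congr_fun h i
            rw [MonoidHom.mul_apply γ β⁻¹ i, MonoidHom.inv_apply, MonoidHom.one_apply] at h3
            exact mul_inv_eq_one.1 h3
          rw [hh, hβi, h'] at hγi
          norm_num at hγi
        · rw [h']; push_cast; ring
      have hcardi : ((univ : Finset E).filter fun y : E => (y : G) * i ∈ S.V).card = Nat.card S.V := by
        rw [← card_filter_mem hG S hc hE.le]
        refine card_equiv (Equiv.mulRight i) fun y => ?_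
        simp only [mem_filter, mem_univ, true_and, Equiv.coe_mulRight, Subgroup.coe_mul]
      rw [wt, classInner, sum_congr rfl fun y _ => hval y, sum_add_distrib, ← mul_sum, hmain, zero_add,
        sum_add_distrib, ← sum_filter, ← sum_filter, sum_const, sum_const, hcardi,
        card_filter_mem hG S hc hE.le, nsmul_eq_mul, nsmul_eq_mul]
      push_cast
      ring
    choose m hm using fun z => IsCharacter.exists_classInner_eq_nat hc' (X₂.x z)
    have hm0 : ∀ z ∈ nzs, m z = 0 := by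
      have h := X₂.sum_mult_le hG S hc hE hc' (fun z _ => hm z) hωβ hw
      rw [mul_one, mul_zero, Nat.le_zero] at h
      exact sum_eq_zero_iff.1 h
    have hcst : ∀ z : ZMod p, z ≠ 0 → pm S f z = pm S f 1 := fun z hz => by
      have h := X₂.inner_sub' hG S hc hfcl hfφ hz h1
      rw [hm, hm, hm0 z (mem_erase.2 ⟨hz, mem_univ _⟩), hm0 1 (mem_erase.2 ⟨h1, mem_univ _⟩)] at h
      push_cast at h
      linear_combination h
    refine ⟨(circ H 1 1 1 : ℤ) - σ * if (1 : ZMod p) ∈ orb H (2 * 1) then 1 else 0, fun z hz => ?_⟩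
    have h := hcst z hz
    rw [hpm, hpm] at h
    apply Int.cast_injective (α := ℂ)
    push_cast
    split_ifs at h ⊢ <;> push_cast <;> linear_combination 2 * h
  have hsumcirc : ∑ z ∈ nzs, (circ H 1 1 z : ℤ) = (e : ℤ) * e - e := by
    have h := sum_circ (H := H) h1 h1
    rw [hcardH, if_pos hneg] at h
    have h' : ((∑ z ∈ nzs, circ H 1 1 z : ℕ) : ℤ) + e = (e : ℤ) * e := by exact_mod_cast h
    push_cast at h'
    linarith
  have hcardnz : (nzs.card : ℤ) = (e : ℤ) * t := by
    rw [hnzs, card_ne_zero_univ, show p - 1 = e * t by omega]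
    push_cast
    ring
  have hfilter : ∀ x : ZMod p, x ≠ 0 → nzs.filter (fun z => z ∈ orb H x) = orb H x := fun x hx => by
    ext z
    simp only [hnzs, mem_filter, mem_erase, mem_univ, and_true]
    exact ⟨fun h => h.2, fun h => ⟨ne_zero_of_mem_orb hx h, h⟩⟩
  have hsumI : ∑ z ∈ nzs, (if z ∈ orb H (2 * 1) then (1 : ℤ) else 0) = (e : ℤ) := by
    rw [sum_boole, hfilter _ h21, card_orb h21, hcardH]
  have he0 : (0 : ℤ) < e := by exact_mod_cast (by omega : 0 < e)
  have htZ : (3 : ℤ) ≤ t := by exact_mod_cast ht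
  rcases hsign with hs | hs
  · obtain ⟨C, hC⟩ := hnoY (-1) (by simpa [sub_eq_add_neg] using ExteriorSquare.isCharacter_extSquare hψc)
      (Or.inr rfl) (by rw [hs]; simp)
    have h := hsumcirc
    rw [sum_congr rfl fun z hz => hC z (ne_of_mem_erase hz), sum_add_distrib, sum_const, nsmul_eq_mul,
      hcardnz, ← mul_sum, hsumI] at h
    have h' : (e : ℤ) = t * C := by
      refine mul_left_cancel₀ he0.ne' ?_
      linarith
    have hdvd : (t : ℤ) ∣ 2 := ⟨C - K + 1, by rw [h'] at hN; linarith⟩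
    have := Int.le_of_dvd (by norm_num) hdvd
    omega
  · obtain ⟨C, hC⟩ := hnoY 1 (by simpa using SymmetricSquare.isCharacter_symSquare hψc) (Or.inl rfl)
      (by rw [hs]; simp)
    have hKC : K - C = 1 := by
      have h := hsumcirc
      rw [sum_congr rfl fun z hz => hC z (ne_of_mem_erase hz), sum_add_distrib, sum_const, nsmul_eq_mul,
        hcardnz, ← mul_sum, hsumI] at h
      have h' : (e : ℤ) * ((t : ℤ) * C) = e * ((e : ℤ) - 2) := by linarith
      have h'' := mul_left_cancel₀ he0.ne' h'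
      have h3 : (t : ℤ) * (K - C) = t * 1 := by linarith
      exact mul_left_cancel₀ (by omega : (t : ℤ) ≠ 0) h3
    set A := orb H (1 : ZMod p) with hA
    set B := orb H (2 * 1 : ZMod p) with hB
    have hAsub : A ⊆ nzs := fun z hz => mem_erase.2 ⟨ne_zero_of_mem_orb h1 hz, mem_univ _⟩
    have horbA : ∀ b ∈ A, ∀ z, circ H 1 b z = circ H 1 1 z := fun b hb z => by
      simp only [circ]
      refine congrArg card (filter_congr fun l _ => ?_)
      exact ⟨fun h => mem_orb_trans hb h, fun h => mem_orb_trans (mem_orb_symm hb) h⟩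
    have hnn : ∀ b ∈ nzs, ∀ z ∈ nzs, (0 : ℤ) ≤ (K - circ H 1 b z) * circ H 1 b z := fun b hb z hz => by
      obtain ⟨m, -, hm⟩ := hn 1 b z h1 (ne_of_mem_erase hb) (ne_of_mem_erase hz)
      exact mul_nonneg (by omega) (Int.natCast_nonneg _)
    have hterm : ∀ b ∈ nzs, (K - 1) * (if b ∈ A then (e : ℤ) * t - e else if b ∈ B then 0 else e) ≤
        ∑ z ∈ nzs, (K - circ H 1 b z) * circ H 1 b z := by
      intro b hb
      have hb0 := ne_of_mem_erase hb
      have hone : ∀ z ∈ nzs, (b ∈ A ∧ z ∉ B) ∨ (b ∉ B ∧ z ∈ A) →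
          (K - circ H 1 b z) * circ H 1 b z = K - 1 := by
        intro z hz hcase
        have hc0 : (circ H 1 b z : ℤ) = K - 1 := by
          rcases hcase with ⟨hbA, hzB⟩ | ⟨hbB, hzA⟩
          · rw [horbA b hbA, hC z (ne_of_mem_erase hz), if_neg hzB]
            linarith
          · rw [circ_swap hneg1 hb0 (ne_of_mem_erase hz), horbA z hzA, hC b hb0, if_neg hbB]
            linarith
        rw [hc0]
        ring
      by_cases hbA : b ∈ A
      · rw [if_pos hbA]
        refine le_trans (le_of_eq ?_) (sum_le_sum_of_subset_of_nonneg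
          (filter_subset (fun z => z ∉ B) nzs) fun z hz _ => hnn b hb z hz)
        rw [sum_congr rfl fun z hz => hone z (mem_filter.1 hz).1 (Or.inl ⟨hbA, (mem_filter.1 hz).2⟩),
          sum_const, nsmul_eq_mul, mul_comm]
        congr 1
        have hc2 := card_filter_add_card_filter_not (s := nzs) (fun z => z ∈ B)
        have hcB : (nzs.filter fun z => z ∈ B).card = e := by
          rw [hfilter _ h21, card_orb h21, hcardH]
        rw [hcB] at hc2
        omega
      · rw [if_neg hbA]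
        by_cases hbB : b ∈ B
        · rw [if_pos hbB, mul_zero]; exact sum_nonneg (hnn b hb)
        · rw [if_neg hbB]
          refine le_trans (le_of_eq ?_) (sum_le_sum_of_subset_of_nonneg hAsub fun z hz _ => hnn b hb z hz)
          rw [sum_congr rfl fun z hz => hone z (hAsub hz) (Or.inr ⟨hbB, hz⟩), sum_const, nsmul_eq_mul,
            hA, card_orb h1, hcardH, mul_comm]
    have hlow := sum_le_sum hterm
    rw [henergy, ← mul_sum] at hlow
    have hcount : (e : ℤ) * ((e : ℤ) * t - e) + ((e : ℤ) * t - e - e) * e ≤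
        ∑ b ∈ nzs, (if b ∈ A then (e : ℤ) * t - e else if b ∈ B then 0 else e) := by
      rw [sum_ite, sum_const, nsmul_eq_mul, sum_ite, sum_const_zero, zero_add, sum_const, nsmul_eq_mul,
        filter_filter, hfilter _ h1, card_orb h1, hcardH]
      have hrest : nzs \ (A ∪ B) ⊆ nzs.filter fun z => z ∉ A ∧ z ∉ B := fun z hz => by
        rw [mem_sdiff, mem_union, not_or] at hz
        exact mem_filter.2 ⟨hz.1, hz.2⟩
      have hc4 := (le_card_sdiff (A ∪ B) nzs).trans (card_le_card hrest)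
      have hc5 := card_union_le A B
      have hcA' : A.card = e := by rw [hA, card_orb h1, hcardH]
      have hcB' : B.card = e := by rw [hB, card_orb h21, hcardH]
      refine add_le_add le_rfl (mul_le_mul_of_nonneg_right ?_ he0.le)
      omega
    have hfin := (mul_le_mul_of_nonneg_left hcount (by linarith : (0 : ℤ) ≤ K - 1)).trans hlow
    have hpos : 0 < (K - 1) * ((e : ℤ) * e) * ((t : ℤ) - 2) :=
      mul_pos (mul_pos (by linarith) (mul_pos he0 he0)) (by linarith)
    nlinarith

end CfsgLib.SmallGroups.QuasiSimple
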