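import Cfsg.Agent.Lib.SmallGroups.SmallDegreeCore
import Cfsg.Agent.Lib.SmallGroups.QuasiSimplePSL
import Cfsg.Agent.Lib.Blocks.DefectZero

/-!
# Simple groups of order `p q ^ b g₀` with `g₀ < p - 1`
-/

set_option autoImplicit false
set_option linter.style.haveILetI false
set_option linter.unusedSectionVars false

namespace CfsgLib.SmallGroups.SmallCofactor

open Cfsg CfsgLib.CharTheory CfsgLib.Blocks CfsgLib.BrauerCharacters CfsgLib.DefectOne
  CfsgLib.SmallGroups.SmallDegree CfsgLib.SmallGroups.BrauerReynolds Finset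
open scoped ComplexConjugate IsMulCommutative Classical

universe u

variable {G : Type u} [Group G] [Fintype G] {p : ℕ} [hp : Fact p.Prime]

/-- A non-trivial character of degree prime to `p` and to `q`. -/
theorem exists_coprime_degree (hp1 : p ∣ Nat.card G) (hp2 : ¬ p ^ 2 ∣ Nat.card G) {q : ℕ} (hq : q.Prime) :
    ∃ χ : IrrCharacter G, χ ≠ trivIrr G ∧ ¬ q ∣ charDegree (χ : G → ℂ) ∧ ¬ p ∣ charDegree (χ : G → ℂ) := by
  haveI := Fintype.ofFinite (IrrCharacter G)
  obtain ⟨u, hu⟩ := exists_prime_orderOf_dvd_card' (G := G) p hp1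
  by_contra hno
  push Not at hno
  have hterm : ∀ χ : IrrCharacter G, χ ≠ trivIrr G →
      ∃ z : ℂ, IsIntegral ℤ z ∧ (χ : G → ℂ) 1 * (χ : G → ℂ) u = (q : ℂ) * z := by
    intro χ hχ
    by_cases hpd : p ∣ charDegree (χ : G → ℂ)
    · refine ⟨0, isIntegral_zero, ?_⟩
      rw [irr_eq_zero_of_full (p := p) χ ?_ (dvd_of_eq hu.symm), mul_zero, mul_zero]
      intro h
      refine hp2 ?_
      rw [pow_two, ← Nat.mul_div_cancel' (Blocks.charDegree_dvd_card χ)]
      exact mul_dvd_mul hpd h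
    · obtain ⟨k, hk⟩ : q ∣ charDegree (χ : G → ℂ) := by
        by_contra h
        exact hpd (hno χ hχ h)
      refine ⟨(k : ℂ) * (χ : G → ℂ) u,
        isIntegral_algebraMap (x := (k : ℤ)).mul (CharTheory.IsCharacter.isIntegral (IsIrrCharacter.isCharacter χ.2) u), ?_⟩
      rw [(charDegree_spec χ).1, hk]
      push_cast
      ring
  choose z hz hzeq using hterm
  let Z : IrrCharacter G → ℂ := fun χ => if h : χ = trivIrr G then 0 else z χ h
  have hsum := sum_degree_mul (G := G) u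
  rw [if_neg (fun h => by rw [h, orderOf_one] at hu; exact hp.out.ne_one hu.symm),
    ← add_sum_erase _ _ (mem_univ (trivIrr G)), sum_congr rfl (g := fun χ => (q : ℂ) * Z χ) fun χ hχ => by
      rw [hzeq χ (ne_of_mem_erase hχ)]; simp only [Z, dif_neg (ne_of_mem_erase hχ)],
    trivIrr_apply, trivIrr_apply, one_mul, ← mul_sum] at hsum
  have hint : IsIntegral ℤ (∑ χ ∈ univ.erase (trivIrr G), Z χ) := IsIntegral.sum _ fun χ hχ => by
    simp only [Z, dif_neg (ne_of_mem_erase hχ)]; exact hz χ _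
  have hq0 : (q : ℂ) ≠ 0 := Nat.cast_ne_zero.2 hq.ne_zero
  have heq : ∑ χ ∈ univ.erase (trivIrr G), Z χ = (((-1 : ℚ) / q : ℚ) : ℂ) := by
    push_cast
    field_simp
    linear_combination hsum
  rw [heq] at hint
  obtain ⟨n, hn⟩ := CharTheory.exists_int_of_isIntegral_ratCast hint
  have hnz : (q : ℤ) * n = -1 := by
    have hq0' : (q : ℚ) ≠ 0 := Nat.cast_ne_zero.2 hq.ne_zero
    have : (q : ℚ) * (n : ℚ) = -1 := by rw [hn]; field_simp
    exact_mod_cast this
  have h1 : (q : ℤ) ∣ 1 := ⟨-n, by linear_combination hnz⟩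
  exact hq.one_lt.ne' (by exact_mod_cast Int.eq_one_of_dvd_one (Int.natCast_nonneg q) h1)

variable [IsSimpleGroup G]

/-- There is no simple group with a faithful character of degree four, `C(P) = P` of order seven and
order `28 * 3 ^ b`. -/
theorem false_of_seven {P : Sylow 7 G} {r : ℕ} {b : ℕ} (hp7 : Fact (Nat.Prime 7)) (S : Setup P 3 1 r 2)
    (hG : Nat.card G = 7 * 3 ^ b * 4) {θ : IrrCharacter G} (h1 : θ ≠ trivIrr G)
    (hθ : charDegree (θ : G → ℂ) = 4) : False := by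
  haveI : IsMulCommutative ↥(P : Subgroup G) := by
    haveI : IsCyclic ↥(P : Subgroup G) := isCyclic_of_prime_card S.cardP
    exact ⟨⟨fun a b => IsCyclic.commGroup.mul_comm a b⟩⟩
  obtain ⟨M, hM⟩ := CfsgLib.CharDegreesTheory.exists_isPModular hp7.out
  haveI : M.IsPrime := hM.2.1.isPrime
  haveI : Fintype (IrrCharacter G) := Fintype.ofFinite _
  obtain ⟨E, F⟩ := S.toCore.exists_frame
  haveI := S.toCore.comm_E F
  obtain ⟨D, L, T, HS, hY⟩ := exists_small S hM F h1 (by omega)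
  have hdeg := HS.deg θ hY
  rw [hθ] at hdeg
  have hLT : L = 1 ∧ T = 1 := by
    rcases HS.LT with h | ⟨h, h'⟩
    · exact h
    · subst h h'; norm_num at hdeg
  obtain ⟨hv, -⟩ := HS.X_facts S hM F
  have hrel := HS.sum_X_mul hM hY (g := (1 : G)) (by rw [orderOf_one]; norm_num)
  rw [hLT.2, (charDegree_spec θ).1, hθ, ← add_sum_erase _ _ (D.trivIrr_mem_X S.hyp), D.v_trivIrr S.hyp,
    trivIrr_apply, sum_congr rfl (g := fun χ => ((D.v χ * charDegree (χ : G → ℂ) : ℤ) : ℂ)) fun χ _ => by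
      rw [(charDegree_spec χ).1]; push_cast; ring, ← Int.cast_sum] at hrel
  have hval : ∑ χ ∈ D.X.erase (trivIrr G), D.v χ * (charDegree (χ : G → ℂ) : ℤ) = -5 := by
    refine Int.cast_injective (α := ℂ) ?_
    push_cast at hrel ⊢
    linear_combination hrel
  obtain ⟨χ, hχ, hχ3⟩ : ∃ χ ∈ D.X.erase (trivIrr G), ¬ 3 ∣ charDegree (χ : G → ℂ) := by
    by_contra hno
    push Not at hno
    have h3 : (3 : ℤ) ∣ -5 := hval ▸ dvd_sum fun χ hχ => (Int.natCast_dvd_natCast.2 (hno χ hχ)).mul_left _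
    norm_num at h3
  obtain ⟨hne, hX⟩ := mem_erase.1 hχ
  obtain ⟨b', hb', -, hbd⟩ := S.exists_b hM D hX hne
  have hdvd : charDegree (χ : G → ℂ) ∣ 28 := by
    refine (Nat.Coprime.dvd_mul_right ((Nat.prime_three.coprime_iff_not_dvd.2 hχ3).symm.pow_right b)).1 ?_
    have h := (charDegree_spec χ).2.2
    rwa [hG, show 7 * 3 ^ b * 4 = 28 * 3 ^ b by ring] at h
  have hle := Nat.le_of_dvd (by norm_num) hdvd
  have hb4 : (b' : ℤ) ≤ 4 := by
    rcases hv χ hX with h | h <;> rw [h] at hbd <;> omega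
  replace hb4 : b' ≤ 4 := by exact_mod_cast hb4
  rcases hv χ hX with h | h <;> rw [h] at hbd <;>
    (interval_cases b' <;> norm_num at hbd <;>
      (have hd' : (charDegree (χ : G → ℂ) : ℤ) ∣ 28 := by exact_mod_cast hdvd
       rw [hbd] at hd'
       norm_num at hd'))

/-- The degree `g₀` and the prime `q`. -/
theorem form_of_card {D g₀ q b : ℕ} (hq : q.Prime) (hp5 : 4 ≤ p) (hD : D ∣ g₀) (hg : g₀ < p - 1) (hg0 : 0 < g₀)
    (hcard : 2 * (q ^ b * g₀) = p ^ 2 - 1) (hdeg : 2 * D = p + 1 ∨ 2 * D + 1 = p) :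
    ∃ m : ℕ, p = 2 ^ m + 1 ∨ p = 2 ^ m - 1 := by
  obtain ⟨c, hc⟩ := hD
  have hD1 : D ≤ g₀ := Nat.le_of_dvd hg0 ⟨c, hc⟩
  have hc1 : c = 1 := by
    rcases Nat.lt_or_ge c 2 with h | h
    · rcases Nat.eq_zero_or_pos c with h0 | h0
      · rw [h0, mul_zero] at hc; omega
      · omega
    · have : D * 2 ≤ D * c := Nat.mul_le_mul_left D h
      omega
  rw [hc1, mul_one] at hc
  subst hc
  rcases hdeg with h | h
  · have hqb : q ^ b = p - 1 := by
      have h2 : q ^ b * (p + 1) = (p - 1) * (p + 1) := by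
        rw [← h, mul_comm (p - 1), h, ← Nat.sq_sub_sq, one_pow, ← hcard, ← h]
        ring
      exact Nat.eq_of_mul_eq_mul_right (by omega) h2
    have hq2 : q = 2 := by
      have hodd : Odd p := hp.out.odd_of_ne_two (by omega)
      have h2 : 2 ∣ q ^ b := by rw [hqb]; obtain ⟨k, hk⟩ := hodd; exact ⟨k, by omega⟩
      exact ((Nat.prime_dvd_prime_iff_eq Nat.prime_two hq).1 (Nat.prime_two.dvd_of_dvd_pow h2)).symm
    subst hq2
    exact ⟨b, Or.inl (by omega)⟩
  · have hqb : q ^ b = p + 1 := by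
      have h2 : q ^ b * (p - 1) = (p + 1) * (p - 1) := by
        rw [← Nat.sq_sub_sq, one_pow, ← hcard, show p - 1 = 2 * g₀ by omega]
        ring
      exact Nat.eq_of_mul_eq_mul_right (by omega) h2
    have hq2 : q = 2 := by
      have hodd : Odd p := hp.out.odd_of_ne_two (by omega)
      have h2 : 2 ∣ q ^ b := by rw [hqb]; obtain ⟨k, hk⟩ := hodd; exact ⟨k + 1, by omega⟩
      exact ((Nat.prime_dvd_prime_iff_eq Nat.prime_two hq).1 (Nat.prime_two.dvd_of_dvd_pow h2)).symm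
    subst hq2
    exact ⟨b, Or.inr (by omega)⟩

/-- The classification of the simple groups of order `p q ^ b g₀` with `g₀ < p - 1`. -/
theorem classify (hG : ¬ IsCyclic G) {q b g₀ : ℕ} (hq : q.Prime) (hpq : p ≠ q)
    (hG' : Nat.card G = p * q ^ b * g₀) (hg : g₀ < p - 1) :
    (∃ (m : ℕ) (F : Type) (_ : Field F) (_ : Fintype F), Fintype.card F = p ∧ (p = 2 ^ m + 1 ∨ p = 2 ^ m - 1) ∧
      Nonempty (G ≃* Matrix.ProjectiveSpecialLinearGroup (Fin 2) F)) ∨
    (∃ (m : ℕ) (F : Type) (_ : Field F) (_ : Fintype F), Fintype.card F = 2 ^ m ∧ p = 2 ^ m + 1 ∧ 3 < p ∧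
      Nonempty (G ≃* Matrix.ProjectiveSpecialLinearGroup (Fin 2) F)) := by
  have hnc : ¬ IsMulCommutative G := fun h => hG (by
    haveI := h
    exact IsSimpleGroup.isCyclic)
  have hpp := hp.out
  have hg0 : 0 < g₀ := Nat.pos_of_ne_zero fun h => by
    rw [h, mul_zero] at hG'; exact Nat.card_pos.ne' hG'
  have hp1 : p ∣ Nat.card G := hG' ▸ (dvd_mul_right p _).mul_right _
  have hp2 : ¬ p ^ 2 ∣ Nat.card G := fun h => by
    rw [hG', pow_two, mul_assoc] at h
    rcases hpp.dvd_mul.1 (Nat.dvd_of_mul_dvd_mul_left hpp.pos h) with h' | h'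
    · exact hpq ((Nat.prime_dvd_prime_iff_eq hpp hq).1 (hpp.dvd_of_dvd_pow h'))
    · have := Nat.le_of_dvd hg0 h'; omega
  obtain ⟨θ, h1, hθq, hθp⟩ := exists_coprime_degree hp1 hp2 hq
  set D := charDegree (θ : G → ℂ) with hDdef
  have hDg : D ∣ g₀ := by
    have h := (charDegree_spec θ).2.2
    rw [hG', ← hDdef] at h
    exact ((hq.coprime_iff_not_dvd.2 hθq).symm.pow_right b).dvd_of_dvd_mul_left
      ((((hpp.coprime_iff_not_dvd.2 hθp).symm).dvd_of_dvd_mul_left (by rwa [mul_assoc] at h)))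
  have hθlt : D + 1 < p := by have := Nat.le_of_dvd hg0 hDg; omega
  obtain ⟨P⟩ := (inferInstance : Nonempty (Sylow p G))
  have hP : Nat.card ↥(P : Subgroup G) = p := by
    rw [P.card_eq_multiplicity]
    have h1 : 1 ≤ (Nat.card G).factorization p := hpp.factorization_pos_of_dvd Nat.card_pos.ne' hp1
    have h2 : (Nat.card G).factorization p ≤ 1 := by
      by_contra h
      exact hp2 ((hpp.pow_dvd_iff_le_factorization Nat.card_pos.ne').2 (by omega))
    rw [le_antisymm h2 h1, pow_one]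
  have hfin : ∀ (F : Type) (_ : Field F) (_ : Fintype F), Fintype.card F = p → 3 < p →
      Nonempty (G ≃* Matrix.ProjectiveSpecialLinearGroup (Fin 2) F) →
      (2 * D = p + 1 ∨ 2 * D + 1 = p) → ∃ m : ℕ, p = 2 ^ m + 1 ∨ p = 2 ^ m - 1 := by
    intro F _ _ hF h3 hiso hdeg
    obtain ⟨iso⟩ := hiso
    refine form_of_card (b := b) hq (by omega) hDg hg hg0 ?_ hdeg
    have hodd := hpp.odd_of_ne_two (by omega)
    have hc := CfsgLib.ClassicalLinear.card_PSL_two_of_odd hF hodd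
    rw [← Nat.card_congr iso.toEquiv, hG', mul_assoc, mul_left_comm] at hc
    exact Nat.eq_of_mul_eq_mul_left hpp.pos hc
  rcases small_degree_cases hnc P hP h1 hθlt with
    ⟨F, iF, jF, hF, h3, iso, hdeg⟩ | ⟨m, F, iF, jF, hF, hm, h3, iso, -⟩ | ⟨e, r, S, hdeg⟩
  · obtain ⟨m, hm⟩ := hfin F iF jF hF h3 iso hdeg
    exact Or.inl ⟨m, F, iF, jF, hF, hm, iso⟩
  · exact Or.inr ⟨m, F, iF, jF, hF, hm, h3, iso⟩
  have he := S.het
  have he2 := S.e2
  have hdirect : (Nonempty ((G ⧸ Subgroup.center G) ≃* Matrix.ProjectiveSpecialLinearGroup (Fin 2) (ZMod p))) →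
      (∃ (m : ℕ) (F : Type) (_ : Field F) (_ : Fintype F), Fintype.card F = p ∧ (p = 2 ^ m + 1 ∨ p = 2 ^ m - 1) ∧
        Nonempty (G ≃* Matrix.ProjectiveSpecialLinearGroup (Fin 2) F)) := by
    rintro ⟨iso⟩
    have hZ : Subgroup.center G = ⊥ :=
      (IsSimpleGroup.eq_bot_or_eq_top_of_normal (Subgroup.center G) inferInstance).resolve_right fun h =>
        hnc ⟨⟨fun a b => (Subgroup.mem_center_iff.1 (h ▸ Subgroup.mem_top b) a)⟩⟩
    have iso' : G ≃* Matrix.ProjectiveSpecialLinearGroup (Fin 2) (ZMod p) :=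
      (QuotientGroup.quotientBot.symm.trans (QuotientGroup.quotientMulEquivOfEq hZ.symm)).trans iso
    obtain ⟨m, hm⟩ := hfin (ZMod p) inferInstance inferInstance (ZMod.card p) (by omega) ⟨iso'⟩ hdeg
    exact ⟨m, ZMod p, inferInstance, inferInstance, ZMod.card p, hm, ⟨iso'⟩⟩
  have hnn : ∀ H : Subgroup G, H.Normal → Nat.card H ≠ p := fun H hH hc => by
    rcases IsSimpleGroup.eq_bot_or_eq_top_of_normal H hH with h | h
    · rw [h, Subgroup.card_bot] at hc; exact hpp.ne_one hc.symm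
    · rw [h, Subgroup.card_top] at hc
      exact hG (isCyclic_of_prime_card hc)
  have hfaith : ∀ g : G, (θ : G → ℂ) g = (θ : G → ℂ) 1 → g = 1 := fun g hg => eq_one_of_apply_eq h1 hg
  rcases hdeg with hup | hlow
  swap
  · exact Or.inl (hdirect (CfsgLib.HalfDegree.psl_of_half_degree hp1 hp2 hnn (IsIrrCharacter.isCharacter θ.2)
      hfaith hlow))
  rcases Nat.lt_or_ge 7 p with h7 | h7
  · exact Or.inl (hdirect (CfsgLib.SmallGroups.QuasiSimple.psl_of_upper hp1 hp2 hnn θ.2 hfaith h7 hup))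
  rcases (show p = 5 ∨ p = 7 by
    have h6 : p ≠ 6 := fun e => absurd (e ▸ hpp) (by norm_num)
    omega) with rfl | rfl
  · haveI : IsMulCommutative ↥(P : Subgroup G) := by
      haveI : IsCyclic ↥(P : Subgroup G) := isCyclic_of_prime_card hP
      exact ⟨⟨fun a b => IsCyclic.commGroup.mul_comm a b⟩⟩
    obtain rfl : e = 2 := by omega
    obtain ⟨M, hM⟩ := CfsgLib.CharDegreesTheory.exists_isPModular hpp
    haveI : M.IsPrime := hM.2.1.isPrime
    haveI : Fintype (IrrCharacter G) := Fintype.ofFinite _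
    obtain ⟨E, F⟩ := S.toCore.exists_frame
    haveI := S.toCore.comm_E F
    obtain ⟨D', L, T, -, -⟩ := exists_small S hM F h1 hθlt
    have hlt := S.card_lt_cube hM D' F ⟨θ, by omega⟩
    rcases brauer_reynolds hG hp1 hlt with ⟨F', iF, jF, hF, -, iso⟩ | ⟨k, F', iF, jF, hF, hk, h3, iso⟩
    · exact Or.inl ⟨2, F', iF, jF, hF, Or.inl (by norm_num), iso⟩
    · exact Or.inr ⟨k, F', iF, jF, hF, hk, h3, iso⟩
  · exfalso
    obtain rfl : e = 3 := by omega
    obtain rfl : g₀ = 4 := by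
      obtain ⟨c, hc⟩ := hDg
      have h4 : D = 4 := by omega
      rw [h4] at hc; omega
    have h21 : 3 ∣ Nat.card G := by
      have h := Subgroup.card_subgroup_dvd_card (Subgroup.normalizer ((P : Subgroup G) : Set G))
      rw [S.cardN] at h
      exact (dvd_mul_left 3 (7 * 1)).trans h
    have hq3 : q = 3 := by
      rw [hG'] at h21
      have h : 3 ∣ q ^ b := by
        rcases Nat.prime_three.dvd_mul.1 h21 with h | h
        · rcases Nat.prime_three.dvd_mul.1 h with h | h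
          · norm_num at h
          · exact h
        · norm_num at h
      exact ((Nat.prime_dvd_prime_iff_eq Nat.prime_three hq).1 (Nat.prime_three.dvd_of_dvd_pow h)).symm
    subst hq3
    exact false_of_seven hp S hG' h1 (by omega)

end CfsgLib.SmallGroups.SmallCofactor
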