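import Cfsg.Agent.Lib.SmallGroups.BrauerReynoldsExceptional
import Cfsg.Agent.Lib.SmallGroups.SmallDegreeCircle
import Mathlib.Data.ZMod.Basic

/-!
# The principal block in the presence of a character of degree less than `p - 1`

With `C(P) = P`, `|N(P)| = p e`, `p - 1 = e t`, `2 ≤ t`: such a character is exceptional, its degree
is `e` or `p - e`, and the data may be chosen with vanishing shift.
-/

set_option autoImplicit false
set_option linter.unusedSectionVars false

namespace CfsgLib.SmallGroups.SmallDegree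

open Cfsg CfsgLib.CharTheory CfsgLib.Blocks CfsgLib.BrauerCharacters
  CfsgLib.BrauerCharacters.AbelianPrincipal Finset CfsgLib.SmallGroups.BrauerReynolds
open scoped ComplexConjugate IsMulCommutative Classical

universe u

variable {G : Type u} [Group G] [Fintype G] [IsSimpleGroup G] [Fintype (IrrCharacter G)]
  {p : ℕ} [hp : Fact p.Prime]
variable {P : Sylow p G} [IsMulCommutative P] {e r t : ℕ} (S : Setup P e 1 r t)
variable {M : Ideal AlgInt} [M.IsPrime] (hM : IsPModular p M) (D : Data M P e)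
variable {E : Subgroup G} [IsMulCommutative ↥E] (F : Frame P E e)

/-- The data in the presence of a small character: `T` is the sign and `L` the number of fixed
vectors of `P` in the exceptional characters. -/
structure Small (D : Data M P e) (L : ℕ) (T : ℤ) : Prop where
  d0 : D.d = 0
  s : D.s = T
  LT : (L = 1 ∧ T = 1) ∨ (L = 0 ∧ T = -1)
  deg : ∀ η ∈ D.Y, (charDegree (η : G → ℂ) : ℤ) = (p : ℤ) * L - T * e
  mult : ∀ η ∈ D.Y, multP η (1 : ↥(P : Subgroup G) →* ℂˣ) = L

omit [IsSimpleGroup G] [IsMulCommutative P] [Fintype (IrrCharacter G)] in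
/-- The multiplicity of `1` in the trivial character. -/
theorem multP_triv [IsMulCommutative P] :
    multP (trivIrr G) (1 : ↥(P : Subgroup G) →* ℂˣ) = 1 := by
  apply Nat.cast_injective (R := ℂ)
  rw [coe_multP]
  simp only [trivIrr_apply, MonoidHom.one_apply, Units.val_one, mul_one, sum_const, card_univ,
    nsmul_eq_mul, ← Nat.card_eq_fintype_card, Nat.cast_one]
  exact inv_mul_cancel₀ (Nat.cast_ne_zero.2 Nat.card_pos.ne')

include S

include F hM D in
/-- A non-trivial character of degree less than `p - 1` is exceptional. -/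
theorem mem_Y_of_small {θ : IrrCharacter G} (h1 : θ ≠ trivIrr G)
    (hθ : charDegree (θ : G → ℂ) + 1 < p) : θ ∈ D.Y := by
  by_contra hY
  obtain ⟨hv, -, -⟩ := S.exc hM D F
  by_cases hX : θ ∈ D.X
  · obtain ⟨b, hb, -, hbd⟩ := S.exists_b hM D hX h1
    have hb1 : 1 * (p : ℤ) ≤ (b : ℤ) * p :=
      mul_le_mul_of_nonneg_right (by exact_mod_cast hb) (Nat.cast_nonneg _)
    rcases hv θ hX with h | h <;> rw [h] at hbd <;> omega
  · have hout : θ ∈ outSet M G := mem_compl.2 fun hb => hX (mem_sdiff.2 ⟨hb, hY⟩)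
    have h := coe_multP (P := P) θ (1 : ↥(P : Subgroup G) →* ℂˣ)
    rw [S.cardP, sum_eq_single (1 : ↥(P : Subgroup G)) (fun w _ hw => by
      rw [S.outside_vanish hM D F hout w.2 fun e => hw (Subtype.ext e), zero_mul]) (by simp),
      Subgroup.coe_one, inv_one, MonoidHom.one_apply, Units.val_one, mul_one,
      (charDegree_spec θ).1, eq_inv_mul_iff_mul_eq₀ (Nat.cast_ne_zero.2 hp.out.ne_zero)] at h
    have h' : p ∣ charDegree (θ : G → ℂ) := ⟨_, (by exact_mod_cast h.symm)⟩
    have := Nat.le_of_dvd (charDegree_spec θ).2.1 h'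
    omega

include hM F in
/-- The data may be chosen with vanishing shift. -/
theorem exists_data_d0 : ∃ D' : Data M P e, D'.d = 0 := by
  obtain ⟨D⟩ := AbelianPrincipal.nonempty_data S.hyp hM
  obtain ⟨-, hQ, -⟩ := S.exc hM D F
  by_cases hd : D.d = 0
  · exact ⟨D, hd⟩
  have h2 : (t : ℤ) * D.d + 2 * D.s = 0 :=
    (mul_eq_zero.1 (show D.d * ((t : ℤ) * D.d + 2 * D.s) = 0 by linear_combination hQ)).resolve_left hd
  have ht : (2 : ℤ) ≤ t := by exact_mod_cast S.t2
  have hds : D.d = -D.s ∧ t = 2 := by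
    rcases D.hs with hs | hs <;> rw [hs] at h2 ⊢ <;>
      rcases lt_or_gt_of_ne hd with h | h <;>
      first
        | (exfalso; nlinarith)
        | (have h3 : (t : ℤ) ≤ 2 := by nlinarith
           have h4 : t = 2 := by omega
           refine ⟨?_, h4⟩
           subst h4
           push_cast at h2
           omega)
  obtain ⟨hds, ht2⟩ := hds
  have hY2 : D.Y.card = 2 := (S.card_Y D).trans ht2
  obtain ⟨A, B, hAB, hY⟩ := card_eq_two.1 hY2
  obtain ⟨a, ha, hDa⟩ := D.mem_Y.1 (show A ∈ D.Y by rw [hY]; simp)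
  obtain ⟨b, hb, hDb⟩ := D.mem_Y.1 (show B ∈ D.Y by rw [hY]; simp)
  have hmem : ∀ ψ, ψ ≠ 1 → D.ζ ψ = A ∨ D.ζ ψ = B := fun ψ hψ => by
    have h : D.ζ ψ ∈ D.Y := D.mem_Y.2 ⟨ψ, hψ, rfl⟩
    rwa [hY, mem_insert, mem_singleton] at h
  refine ⟨{
    v := fun χ => if χ ∈ D.Y then 0 else D.v χ
    s := -D.s
    d := 0
    ζ := fun ψ => if D.ζ ψ = A then B else A
    hs := by rcases D.hs with h | h <;> simp [h]
    mem := fun ψ h => by
      split_ifs
      · exact hDb ▸ D.mem b hb
      · exact hDa ▸ D.mem a ha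
    hu := fun ψ hψ χ hχ => ?_
    hζ := fun ψ φ hψ hφ => ?_
    hvζ := fun ψ hψ => if_pos (by split_ifs <;> rw [hY] <;> simp)
    hnorm := ?_ }, rfl⟩
  · rw [D.hu ψ hψ χ hχ]
    by_cases hχY : χ ∈ D.Y
    · rw [if_pos hχY]
      obtain ⟨φ, hφ, rfl⟩ := D.mem_Y.1 hχY
      rw [D.hvζ φ hφ, hds]
      rcases hmem ψ hψ with h | h <;> rcases hmem φ hφ with h' | h' <;>
        simp [h, h', hAB, Ne.symm hAB]
    · rw [if_neg hχY, if_neg fun h : χ = D.ζ ψ => hχY (h ▸ D.mem_Y.2 ⟨ψ, hψ, rfl⟩), if_neg]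
      intro h
      refine hχY ?_
      rw [h, hY]
      split_ifs <;> simp
  · rw [← D.hζ ψ φ hψ hφ]
    rcases hmem ψ hψ with h | h <;> rcases hmem φ hφ with h' | h' <;>
      simp [h, h', hAB, Ne.symm hAB]
  · rw [D.sum_block, sum_congr rfl (g := fun χ => D.v χ ^ 2) fun χ hχ => by
        rw [if_neg fun hY => (mem_sdiff.1 hχ).2 hY],
      sum_eq_zero (s := D.Y) fun χ hχ => by rw [if_pos hχ]; simp]
    have := S.norm_eq D
    push_cast at this ⊢
    linarith [(S.exc hM D F).2.1]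

include hM F in
/-- The principal block. -/
theorem exists_small {θ : IrrCharacter G} (h1 : θ ≠ trivIrr G)
    (hθ : charDegree (θ : G → ℂ) + 1 < p) :
    ∃ (D : Data M P e) (L : ℕ) (T : ℤ), Small D L T ∧ θ ∈ D.Y := by
  obtain ⟨D, hd⟩ := exists_data_d0 S hM F
  have hθY := mem_Y_of_small S hM D F h1 hθ
  have hp5 := S.p5
  have he2 := S.e2
  have hlt := S.e_lt
  obtain ⟨ψ, hψ, hψθ⟩ := D.mem_Y.1 hθY
  set L := multP θ (1 : ↥(P : Subgroup G) →* ℂˣ) with hL
  have hdeg := S.degree_ζ D hψ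
  rw [hψθ, ← hL, hd, mul_zero, sub_zero] at hdeg
  have hLT : (L = 1 ∧ D.s = 1) ∨ (L = 0 ∧ D.s = -1) := by
    rcases D.hs with h | h <;> rw [h] at hdeg
    · left
      refine ⟨?_, h⟩
      rcases (show L = 0 ∨ L = 1 ∨ 2 ≤ L by omega) with h0 | h0 | h0
      · exfalso
        rw [h0] at hdeg
        push_cast at hdeg
        have : (1 : ℤ) ≤ charDegree (θ : G → ℂ) := by exact_mod_cast (charDegree_spec θ).2.1
        omega
      · exact h0
      · exfalso
        have : (p : ℤ) * 2 ≤ (p : ℤ) * L := mul_le_mul_of_nonneg_left (by exact_mod_cast h0) (by positivity)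
        omega
    · right
      refine ⟨?_, h⟩
      by_contra h0
      have : (p : ℤ) * 1 ≤ (p : ℤ) * L :=
        mul_le_mul_of_nonneg_left (by exact_mod_cast Nat.pos_of_ne_zero h0) (by positivity)
      omega
  have hall : ∀ η ∈ D.Y, (charDegree (η : G → ℂ) : ℤ) = (p : ℤ) * L - D.s * e ∧
      multP η (1 : ↥(P : Subgroup G) →* ℂˣ) = L := by
    intro η hη
    have h := D.apply_Y_eq hM hη hθY (g := 1) (by rw [orderOf_one]; exact hp.out.not_dvd_one)
    rw [(charDegree_spec _).1, (charDegree_spec _).1] at h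
    have heq : charDegree (η : G → ℂ) = charDegree (θ : G → ℂ) := by exact_mod_cast h
    obtain ⟨φ, hφ, rfl⟩ := D.mem_Y.1 hη
    have h2 := S.degree_ζ D hφ
    rw [hd, mul_zero, sub_zero, heq, hdeg] at h2
    refine ⟨by rw [heq, hdeg], ?_⟩
    have h3 : (p : ℤ) * (multP (D.ζ φ) (1 : ↥(P : Subgroup G) →* ℂˣ) : ℤ) = (p : ℤ) * L := by linarith
    exact_mod_cast mul_left_cancel₀ (Int.natCast_ne_zero.2 hp.out.ne_zero) h3
  exact ⟨D, L, D.s, ⟨hd, rfl, hLT, fun η hη => (hall η hη).1, fun η hη => (hall η hη).2⟩, hθY⟩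

variable {D} {L : ℕ} {T : ℤ} (HS : Small D L T)
include HS

theorem Small.T_sq : T * T = 1 := by rcases HS.LT with ⟨-, h⟩ | ⟨-, h⟩ <;> rw [h] <;> norm_num

theorem Small.deg_lt {η : IrrCharacter G} (hη : η ∈ D.Y) : charDegree (η : G → ℂ) + 1 < p := by
  have h := HS.deg η hη
  have := S.e_lt
  have := S.e2
  have hp' := S.p_eq
  have : e * 2 ≤ e * t := Nat.mul_le_mul_left e S.t2
  rcases HS.LT with ⟨h1, h2⟩ | ⟨h1, h2⟩ <;> rw [h1, h2] at h <;> push_cast at h <;> omega

include hM in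
/-- The value `v` is `± 1` on `X`, and `X` has `e` elements. -/
theorem Small.X_facts (F : Frame P E e) :
    (∀ χ ∈ D.X, D.v χ = 1 ∨ D.v χ = -1) ∧ D.X.card = e := by
  obtain ⟨hv, -, -⟩ := S.exc hM D F
  refine ⟨hv, ?_⟩
  have h := S.norm_eq D
  rw [HS.d0, sum_congr (rfl : D.X = _) (g := fun _ => (1 : ℤ)) fun χ hχ => by
    rcases hv χ hχ with h' | h' <;> rw [h'] <;> norm_num, sum_const, nsmul_one] at h
  push_cast at h
  omega

omit S in
/-- The relation on elements of order prime to `p`. -/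
theorem Small.sum_X_mul (hM : IsPModular p M) {η : IrrCharacter G} (hη : η ∈ D.Y) {g : G}
    (hg : ¬ p ∣ orderOf g) :
    (T : ℂ) * (η : G → ℂ) g + ∑ χ ∈ D.X, (D.v χ : ℂ) * (χ : G → ℂ) g = 0 := by
  have h := D.sum_X_mul hM hη hg
  rwa [HS.d0, HS.s, Int.cast_zero, mul_zero, zero_add] at h

end CfsgLib.SmallGroups.SmallDegree
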