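import Cfsg.Agent.Lib.SmallGroups.SmallDegreeProduct

/-!
# The case of degree `p - e`: counting

Writing `N = t K - e`, the fixed vectors of `P` give `0 ≤ N ≤ t - 2`, the energy of the circle
gives `N = t - 2`, and so `e` is even.
-/

set_option autoImplicit false
set_option linter.unusedSectionVars false

namespace CfsgLib.SmallGroups.SmallDegree

open Cfsg CfsgLib.CharTheory CfsgLib.Blocks CfsgLib.BrauerCharacters
  CfsgLib.BrauerCharacters.AbelianPrincipal Finset CfsgLib.SmallGroups.BrauerReynolds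
open scoped ComplexConjugate IsMulCommutative Classical

universe u

variable {G : Type u} [Group G] [Fintype G] [IsSimpleGroup G] [Fintype (IrrCharacter G)]
  {p : ℕ} [hp : Fact p.Prime]
variable {P : Sylow p G} [IsMulCommutative P] {e r t : ℕ} (S : Setup P e 1 r t)
variable {M : Ideal AlgInt} [M.IsPrime] (hM : IsPModular p M) {D : Data M P e}
variable {E : Subgroup G} [IsMulCommutative ↥E] (F : Frame P E e)
variable (π : Param P e) {L : ℕ} {T : ℤ}

/-- The non-zero residues. -/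
noncomputable def nz (p : ℕ) [Fact p.Prime] : Finset (ZMod p) := (univ : Finset (ZMod p)).erase 0

theorem mem_nz {x : ZMod p} : x ∈ nz p ↔ x ≠ 0 := by simp [nz]

include S

theorem card_nz : ((nz p).card : ℤ) = (e : ℤ) * t := by
  rw [nz, card_ne_zero_univ, S.het]
  push_cast
  ring

/-- Sums over the exceptional characters. -/
theorem e_mul_sum_Y (f : IrrCharacter G → ℤ) :
    ∑ z ∈ nz p, f (eta D π z) = (e : ℤ) * ∑ η ∈ D.Y, f η := by
  rw [← sum_fiberwise_of_maps_to (g := fun z => eta D π z) (t := D.Y)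
    (fun z hz => eta_mem π (mem_nz.1 hz)), mul_sum]
  refine sum_congr rfl fun η hη => ?_
  obtain ⟨φ, hφ, rfl⟩ := D.mem_Y.1 hη
  obtain ⟨a, rfl⟩ := π.bij.2 φ
  have ha : a ≠ 0 := fun h => hφ (by rw [h, π.map_zero])
  rw [sum_congr rfl (g := fun _ => f (D.ζ (π.ψ a))) fun z hz => congrArg f (mem_filter.1 hz).2,
    sum_const, nsmul_eq_mul]
  congr 1
  have : (nz p).filter (fun z => eta D π z = D.ζ (π.ψ a)) = orb π.H a := by
    ext z
    rw [mem_filter, mem_nz]
    refine ⟨fun ⟨hz, h⟩ => (eta_eq_iff π ha hz).1 h.symm, fun h => ?_⟩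
    exact ⟨ne_zero_of_mem_orb ha h, ((eta_eq_iff π ha (ne_zero_of_mem_orb ha h)).2 h).symm⟩
  rw [this, card_orb ha, π.card]

include F

/-- The multiplicity of a linear character of `E` on the fixed vectors of `P`. -/
theorem e_mul_mE (χ : IrrCharacter G) (α : ↥E →* ℂˣ) :
    (e : ℂ) * (S.mE F χ α : ℂ) = (multP χ (1 : ↥(P : Subgroup G) →* ℂˣ) : ℂ) +
      ∑ a ∈ (univ : Finset ↥E).erase 1, (χ : G → ℂ) a * conj (α a : ℂ) := by
  rw [S.mE_eq F, ← mul_assoc, mul_inv_cancel₀ (Nat.cast_ne_zero.2 (by have := S.e2; omega)), one_mul,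
    ← add_sum_erase _ _ (mem_univ (1 : ↥E))]
  rw [gval, if_pos rfl, map_one, Units.val_one, map_one, mul_one]
  congr 1
  exact sum_congr rfl fun a ha => by rw [gval, if_neg (ne_of_mem_erase ha)]

/-- The multiplicity of a linear character of `E` on the fixed vectors of `P` in a character. -/
theorem e_mul_sum_mE {f : G → ℂ} (hf : IsCharacter G f) (α : ↥E →* ℂˣ) :
    (e : ℂ) * ((∑ χ, mult f χ * S.mE F χ α : ℕ) : ℂ) = pmult (P := P) f 1 +
      ∑ a ∈ (univ : Finset ↥E).erase 1, f a * conj (α a : ℂ) := by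
  push_cast
  simp only [pmult_eq_sum hf, eq_sum_mult hf, mul_sum, sum_mul]
  rw [sum_comm, ← sum_add_distrib]
  refine sum_congr rfl fun χ _ => ?_
  rw [mul_left_comm, e_mul_mE S F χ α, mul_add, mul_sum]
  exact congrArg _ (sum_congr rfl fun a _ => by ring)

/-- The trivial character. -/
theorem mE_triv (α : ↥E →* ℂˣ) : S.mE F (trivIrr G) α = if α = 1 then 1 else 0 := by
  apply Nat.cast_injective (R := ℂ)
  apply mul_left_cancel₀ (Nat.cast_ne_zero.2 (by have := S.e2; omega) : (e : ℂ) ≠ 0)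
  rw [e_mul_mE S F, multP_triv, Nat.cast_one]
  have h : ∑ a : ↥E, (trivIrr G : G → ℂ) a * conj (α a : ℂ) = if α = 1 then (e : ℂ) else 0 := by
    simp only [trivIrr_apply, one_mul, ← map_sum]
    by_cases hα : α = 1
    · subst hα; simp [Frame.card' F]
    · rw [if_neg hα, (Brauer.sum_homUnit α).trans (if_neg hα), map_zero]
  rw [← add_sum_erase _ _ (mem_univ (1 : ↥E))] at h
  simp only [trivIrr_apply, map_one, Units.val_one, one_mul] at h
  simp only [trivIrr_apply, one_mul]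
  rw [h]
  split_ifs <;> simp

variable (HS : Small D L 1)
include HS hM

theorem Small.L_one : L = 1 := by
  rcases HS.LT with ⟨h, -⟩ | ⟨-, h⟩
  · exact h
  · norm_num at h

/-- All exceptional characters agree on `E \ 1` with one linear character of `E`. -/
theorem exists_alpha : ∃ α₀ : ↥E →* ℂˣ, ∀ η ∈ D.Y, S.mE F η α₀ = 1 ∧
    ∀ a : ↥E, a ≠ 1 → (η : G → ℂ) a = (α₀ a : ℂ) := by
  obtain ⟨ψ, hψ⟩ : ∃ ψ : ↥(P : Subgroup G) →* ℂˣ, ψ ≠ 1 := by
    obtain ⟨i, -, -⟩ := S.hyp.exists_not_sameOrbit; exact ⟨i.1, i.2⟩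
  have hη₀ : D.ζ ψ ∈ D.Y := D.mem_Y.2 ⟨ψ, hψ, rfl⟩
  have hsum := S.sum_mE_nat F (D.ζ ψ)
  rw [HS.mult _ hη₀, HS.L_one S hM F] at hsum
  obtain ⟨α₀, -, hα₀⟩ : ∃ α₀ ∈ (univ : Finset (↥E →* ℂˣ)), 0 < S.mE F (D.ζ ψ) α₀ :=
    sum_pos_iff.1 (by rw [hsum]; exact one_pos)
  rw [← add_sum_erase _ _ (mem_univ α₀)] at hsum
  have h1 : S.mE F (D.ζ ψ) α₀ = 1 := by omega
  have hzero : ∀ α ∈ univ.erase α₀, S.mE F (D.ζ ψ) α = 0 := sum_eq_zero_iff.1 (by omega)
  have hval : ∀ a : ↥E, a ≠ 1 → (D.ζ ψ : G → ℂ) a = (α₀ a : ℂ) := fun a ha => by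
    have h := S.sum_mE F (D.ζ ψ) a
    rw [gval, if_neg ha, ← add_sum_erase _ _ (mem_univ α₀), h1,
      sum_eq_zero fun α hα => by rw [hzero α hα, Nat.cast_zero, zero_mul]] at h
    rw [← h]; simp
  refine ⟨α₀, fun η hη => ?_⟩
  have hv : ∀ a : ↥E, a ≠ 1 → (η : G → ℂ) a = (α₀ a : ℂ) := fun a ha =>
    (D.apply_Y_eq hM hη hη₀ (S.not_dvd_order F a.2)).trans (hval a ha)
  refine ⟨?_, hv⟩
  apply Nat.cast_injective (R := ℂ)
  apply mul_left_cancel₀ (Nat.cast_ne_zero.2 (by have := S.e2; omega) : (e : ℂ) ≠ 0)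
  have h2 := e_mul_mE S F (D.ζ ψ) α₀
  rw [h1, HS.mult _ hη₀] at h2
  rw [e_mul_mE S F, HS.mult _ hη, h2]
  exact congrArg _ (sum_congr rfl fun a ha => by
    rw [hv a (ne_of_mem_erase ha), hval a (ne_of_mem_erase ha)])

/-- The multiplicity of `1` on `P` in a product. -/
theorem pmult_prodEta_one {a b : ZMod p} (ha : a ≠ 0) (hb : b ≠ 0) :
    pmult (P := P) (prodEta D π a b) 1 =
      ((((p : ℤ) - 2 * e + (if -a ∈ orb π.H b then e else 0 : ℕ)) : ℤ) : ℂ) := by
  rw [← π.map_zero, pmult_prodEta S π HS ha hb]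
  congr 1
  have hshift : ∑ x, iO π b (0 - x) = ∑ x, iO π b x :=
    Fintype.sum_equiv (Equiv.subLeft 0) _ _ fun x => rfl
  have hcard : ∀ c : ZMod p, c ≠ 0 → ∑ x, iO π c x = (e : ℤ) := fun c hc => by
    simp only [iO, sum_boole, filter_univ_mem, card_orb hc, π.card]
  have hmix : ∑ x, iO π a x * iO π b (0 - x) = ((if -a ∈ orb π.H b then e else 0 : ℕ) : ℤ) := by
    rw [sum_iO_mul π ha (fun x => iO π b (0 - x))]
    have hl : ∀ l : π.H, iO π b (0 - ((l : (ZMod p)ˣ) : ZMod p) * a) = iO π b (-a) := fun l => by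
      refine if_congr ?_ rfl rfl
      rw [zero_sub, ← mul_neg, mem_orb_comm, mem_orb_mul, mem_orb_comm]
    rw [sum_congr rfl fun l _ => hl l, sum_const, card_univ, ← Nat.card_eq_fintype_card, π.card, iO]
    split_ifs <;> simp
  have hp1 : ∑ _x : ZMod p, (1 : ℤ) = p := by simp [ZMod.card]
  rw [← hmix, sum_congr rfl (g := fun x => 1 - iO π b (0 - x) - iO π a x + iO π a x * iO π b (0 - x))
    fun x _ => by rw [HS.L_one S hM F]; push_cast; ring, sum_add_distrib, sum_sub_distrib,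
    sum_sub_distrib, hp1, hshift, hcard a ha, hcard b hb]
  ring

/-- The number `N = t K - e` is between `0` and `t - 2`, is in fact `t - 2`, and `e` is even. -/
theorem energy {K : ℤ} (hK : ∀ a b : ZMod p, a ≠ 0 → b ≠ 0 → ∀ z : ZMod p, z ≠ 0 →
      (mult (prodEta D π a b) (eta D π z) : ℤ) + circ π.H a b z = K) :
    (t : ℤ) * K - e = (t : ℤ) - 2 ∧ 2 ∣ e ∧
      (∀ a b : ZMod p, a ≠ 0 → b ≠ 0 → ∑ z ∈ nz p, (mult (prodEta D π a b) (eta D π z) : ℤ) =
        (e : ℤ) * ((t : ℤ) - 2 + if -a ∈ orb π.H b then 1 else 0)) ∧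
      ∀ a : ZMod p, a ≠ 0 → ∑ b ∈ nz p, ∑ z ∈ nz p,
        (mult (prodEta D π a b) (eta D π z) : ℤ) * circ π.H a b z =
          (e : ℤ) * e * ((K - 1) * ((t : ℤ) - 1)) := by
  have he0 : (0 : ℤ) < e := by exact_mod_cast (by have := S.e2; omega : 0 < e)
  have hpZ : (p : ℤ) = e * t + 1 := by exact_mod_cast S.p_eq
  set N : ℤ := (t : ℤ) * K - e with hN
  -- the row sums
  have hrow : ∀ a b : ZMod p, a ≠ 0 → b ≠ 0 →
      ∑ z ∈ nz p, (mult (prodEta D π a b) (eta D π z) : ℤ) =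
        (e : ℤ) * (N + if -a ∈ orb π.H b then 1 else 0) := by
    intro a b ha hb
    have h1 := sum_congr rfl fun z hz => hK a b ha hb z (mem_nz.1 hz)
    rw [sum_add_distrib, sum_const, nsmul_eq_mul, card_nz S] at h1
    have h2 := sum_circ (H := π.H) ha hb
    rw [π.card, ← nz] at h2
    have h3 : ((∑ c ∈ nz p, circ π.H a b c : ℕ) : ℤ) + ((if -a ∈ orb π.H b then e else 0 : ℕ) : ℤ) =
        (e : ℤ) * e := by exact_mod_cast h2
    push_cast at h3
    split_ifs at h3 ⊢ with hc <;> rw [hN] <;> linarith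
  -- the fixed vectors of `P`
  obtain ⟨α₀, hα₀⟩ := exists_alpha S hM F HS
  have hfix : ∀ a b : ZMod p, a ≠ 0 → b ≠ 0 →
      N + (if -a ∈ orb π.H b then 1 else 0) + (if -a ∈ orb π.H b ∧ α₀ = 1 then 1 else 0) ≤
        (t : ℤ) - 2 + (if -a ∈ orb π.H b then 1 else 0) + if α₀ = 1 then 1 else 0 := by
    intro a b ha hb
    have hc := isCharacter_prodEta (D := D) π a b
    have h := e_mul_sum_mE S F hc α₀
    rw [pmult_prodEta_one S hM F π HS ha hb,
      sum_congr rfl (g := fun x => (α₀ x : ℂ)) fun x hx => by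
        rw [prodEta, (hα₀ _ (eta_mem π ha)).2 x (ne_of_mem_erase hx),
          (hα₀ _ (eta_mem π hb)).2 x (ne_of_mem_erase hx), mul_assoc, Complex.mul_conj',
          norm_eq_one_of_pow_eq_one' Nat.card_pos.ne' (by
            rw [← Units.val_pow_eq_pow_val, ← map_pow, pow_card_eq_one', map_one, Units.val_one] :
            (α₀ x : ℂ) ^ Nat.card ↥E = 1)]
        simp, sum_erase_eq_sub (mem_univ _), map_one, Units.val_one] at h
    have hsumα : ∑ x : ↥E, (α₀ x : ℂ) = ((if α₀ = 1 then (e : ℤ) else 0 : ℤ) : ℂ) := by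
      by_cases h1 : α₀ = 1
      · subst h1; simp [Frame.card' F]
      · rw [if_neg h1, (Brauer.sum_homUnit α₀).trans (if_neg h1), Int.cast_zero]
    rw [hsumα] at h
    have hZ : (e : ℤ) * ((∑ χ, mult (prodEta D π a b) χ * S.mE F χ α₀ : ℕ) : ℤ) =
        ((p : ℤ) - 2 * e + (if -a ∈ orb π.H b then e else 0 : ℕ)) + ((if α₀ = 1 then (e : ℤ) else 0) - 1) := by
      apply Int.cast_injective (α := ℂ)
      push_cast at h ⊢
      linear_combination h
    -- the lower bound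
    have hlow : ((∑ η ∈ D.Y, mult (prodEta D π a b) η : ℕ) : ℤ) +
        (if -a ∈ orb π.H b ∧ α₀ = 1 then 1 else 0) ≤
          ((∑ χ, mult (prodEta D π a b) χ * S.mE F χ α₀ : ℕ) : ℤ) := by
      have ht : trivIrr G ∉ D.Y := (mem_sdiff.1 (D.trivIrr_mem_X S.hyp)).2
      have hle : ∑ χ ∈ insert (trivIrr G) D.Y, mult (prodEta D π a b) χ * S.mE F χ α₀ ≤
          ∑ χ, mult (prodEta D π a b) χ * S.mE F χ α₀ :=
        sum_le_sum_of_subset (subset_univ _)
      rw [sum_insert ht, mult_prodEta_triv S hM F π HS ha hb, mE_triv S F,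
        sum_congr (rfl : D.Y = _) (g := fun η => mult (prodEta D π a b) η) fun η hη => by
          rw [(hα₀ η hη).1, mul_one]] at hle
      refine le_trans (le_of_eq ?_) (Int.ofNat_le.2 hle)
      push_cast
      by_cases hc : -a ∈ orb π.H b <;> by_cases h1 : α₀ = 1 <;> simp [hc, h1]; ring
    have hY := e_mul_sum_Y S π (D := D) fun η => (mult (prodEta D π a b) η : ℤ)
    rw [hrow a b ha hb] at hY
    have hY' := mul_left_cancel₀ he0.ne' hY
    push_cast at hlow hZ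
    rw [← hY'] at hlow
    have h5 := mul_le_mul_of_nonneg_left hlow he0.le
    rw [hZ, hpZ] at h5
    refine le_of_mul_le_mul_left (le_trans h5 (le_of_eq ?_)) he0
    split_ifs <;> push_cast <;> ring
  have h1 : (1 : ZMod p) ≠ 0 := one_ne_zero
  have hNt : N ≤ (t : ℤ) - 2 := by
    have h := hfix 1 (-1) h1 (neg_ne_zero.2 h1)
    simp only [if_pos (mem_orb_self (H := π.H) (-1 : ZMod p)), mem_orb_self, true_and] at h
    linarith
  obtain ⟨b₀, hb₀, hb₀'⟩ : ∃ b : ZMod p, b ≠ 0 ∧ -(1 : ZMod p) ∉ orb π.H b := by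
    by_contra h
    push Not at h
    have hsub : nz p ⊆ orb π.H (-1) := fun b hb => mem_orb_symm (h b (mem_nz.1 hb))
    have := card_le_card hsub
    rw [card_orb (neg_ne_zero.2 h1), π.card] at this
    have h2 : (e : ℤ) * t ≤ e := by rw [← card_nz S]; exact_mod_cast this
    have : (2 : ℤ) ≤ t := by exact_mod_cast S.t2
    nlinarith
  have hN0 : 0 ≤ N := by
    have h := hrow 1 b₀ h1 hb₀
    rw [if_neg hb₀', add_zero] at h
    have h2 : (0 : ℤ) ≤ ∑ z ∈ nz p, (mult (prodEta D π 1 b₀) (eta D π z) : ℤ) :=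
      sum_nonneg fun _ _ => Int.natCast_nonneg _
    rw [h] at h2
    exact (mul_nonneg_iff_of_pos_left he0).1 h2
  have hK1 : 1 ≤ K := by
    by_contra h
    push Not at h
    have : (t : ℤ) * K ≤ 0 := mul_nonpos_of_nonneg_of_nonpos (Int.natCast_nonneg _) (by omega)
    omega
  -- the energy
  have hsumb : ∀ a : ZMod p, a ≠ 0 →
      ∑ b ∈ nz p, ∑ z ∈ nz p, (mult (prodEta D π a b) (eta D π z) : ℤ) =
        (e : ℤ) * ((e : ℤ) * t * N + e) := by
    intro a ha
    rw [sum_congr rfl fun b hb => hrow a b ha (mem_nz.1 hb), ← mul_sum, sum_add_distrib, sum_const,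
      nsmul_eq_mul, card_nz S, sum_boole, nz, card_orb_containing (neg_ne_zero.2 ha), π.card]
  have hcircZ : ∀ a : ZMod p, a ≠ 0 → ∑ b ∈ nz p, ∑ z ∈ nz p, (circ π.H a b z : ℤ) ^ 2 =
      (e : ℤ) * e * ((p : ℤ) - 2 + ((e : ℤ) - 1) * ((e : ℤ) - 2)) := by
    intro a ha
    have h := sum_circ_sq (H := π.H) ha
    rw [π.card, ← nz] at h
    have h' := congrArg (fun n : ℕ => (n : ℤ)) h
    have he2 := S.e2
    have hp5 := S.p5
    push_cast [Nat.cast_sub (by omega : 1 ≤ e), Nat.cast_sub (by omega : 2 ≤ e),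
      Nat.cast_sub (by omega : 2 ≤ p)] at h'
    exact h'
  have hnle : ∀ a b z : ZMod p, a ≠ 0 → b ≠ 0 → z ≠ 0 → (mult (prodEta D π a b) (eta D π z) : ℤ) ≤ K :=
    fun a b z ha hb hz => by have := hK a b ha hb z hz; omega
  have hnr : ∀ a : ZMod p, a ≠ 0 → ∑ b ∈ nz p, ∑ z ∈ nz p,
        (mult (prodEta D π a b) (eta D π z) : ℤ) * circ π.H a b z =
      (e : ℤ) * e * ((t : ℤ) ^ 2 * K ^ 2 - K * ((t : ℤ) * N + 1) -
        ((p : ℤ) - 2 + ((e : ℤ) - 1) * ((e : ℤ) - 2))) := by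
    intro a ha
    have hid : ∀ b ∈ nz p, ∀ z ∈ nz p,
        (mult (prodEta D π a b) (eta D π z) : ℤ) * circ π.H a b z =
          K ^ 2 - K * (mult (prodEta D π a b) (eta D π z) : ℤ) - (circ π.H a b z : ℤ) ^ 2 := by
      intro b hb z hz
      rw [← hK a b ha (mem_nz.1 hb) z (mem_nz.1 hz)]
      ring
    rw [sum_congr rfl fun b hb => sum_congr rfl (hid b hb)]
    simp only [sum_sub_distrib, ← mul_sum, sum_const, nsmul_eq_mul, hsumb a ha, hcircZ a ha, card_nz S]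
    ring
  have hnn : (0 : ℤ) ≤ (t : ℤ) ^ 2 * K ^ 2 - K * ((t : ℤ) * N + 1) -
      ((p : ℤ) - 2 + ((e : ℤ) - 1) * ((e : ℤ) - 2)) := by
    have h : (0 : ℤ) ≤ ∑ b ∈ nz p, ∑ z ∈ nz p,
        (mult (prodEta D π 1 b) (eta D π z) : ℤ) * circ π.H 1 b z :=
      sum_nonneg fun _ _ => sum_nonneg fun _ _ => mul_nonneg (Int.natCast_nonneg _) (Int.natCast_nonneg _)
    rw [hnr 1 h1] at h
    exact (mul_nonneg_iff_of_pos_left (mul_pos he0 he0)).1 h
  have hNeq : N = (t : ℤ) - 2 := by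
    by_contra hne
    have hN3 : N ≤ (t : ℤ) - 3 := by omega
    have he' : (e : ℤ) = t * K - N := by rw [hN]; ring
    rw [hpZ, he'] at hnn
    have hb : (t : ℤ) * N ≤ t * ((t : ℤ) - 3) := mul_le_mul_of_nonneg_left hN3 (Int.natCast_nonneg _)
    have hcoef : (1 : ℤ) ≤ (t : ℤ) ^ 2 - 3 * t + 1 - t * N := by linarith
    have h6 : (t : ℤ) ^ 2 - 3 * t + 1 - t * N ≤ K * ((t : ℤ) ^ 2 - 3 * t + 1 - t * N) :=
      le_mul_of_one_le_left (by linarith) hK1
    have h7 : 2 * 1 ≤ ((t : ℤ) - 1 - N) * ((t : ℤ) - 2 - N) :=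
      mul_le_mul (by linarith) (by linarith) (by norm_num) (by linarith)
    linarith
  have hte : 2 ∣ e := by
    by_contra hodd
    have heven : 2 ∣ e * t := by
      rw [← S.het]
      rcases hp.out.eq_two_or_odd' with h | ⟨k, hk⟩
      · have := S.p5; omega
      · omega
    obtain ⟨s, hs⟩ := (Nat.prime_two.dvd_mul.1 heven).resolve_left hodd
    refine hodd (Int.natCast_dvd_natCast.1 ⟨(s : ℤ) * K - s + 1, ?_⟩)
    have hsZ : (t : ℤ) = 2 * s := by exact_mod_cast hs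
    rw [hN, hsZ] at hNeq
    push_cast
    linarith
  refine ⟨hNeq, hte, fun a b ha hb => by rw [hrow a b ha hb, hNeq], fun a ha => ?_⟩
  rw [hnr a ha, hNeq, hpZ, show (e : ℤ) = t * K - ((t : ℤ) - 2) by rw [← hNeq, hN]; ring]
  ring

end CfsgLib.SmallGroups.SmallDegree
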