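import Cfsg.Agent.Lib.SmallGroups.SmallDegreeBasic
import Mathlib.GroupTheory.SpecificGroups.Cyclic

/-!
# The characters of `P` as `ZMod p`

The orbits of the normaliser are the orbits of a subgroup `H` of order `e` of `(ZMod p)ˣ`.
-/

set_option autoImplicit false
set_option linter.unusedSectionVars false

namespace CfsgLib.SmallGroups.SmallDegree

open Cfsg CfsgLib.CharTheory CfsgLib.Blocks CfsgLib.BrauerCharacters
  CfsgLib.BrauerCharacters.AbelianPrincipal Finset CfsgLib.SmallGroups.BrauerReynolds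
open scoped ComplexConjugate IsMulCommutative Classical

universe u

variable {G : Type u} [Group G] [Fintype G] [IsSimpleGroup G] {p : ℕ} [hp : Fact p.Prime]
variable {P : Sylow p G} [IsMulCommutative P] {e r t : ℕ}

/-- A parametrisation of the characters of `P`. -/
structure Param (P : Sylow p G) [IsMulCommutative P] (e : ℕ) where
  H : Subgroup (ZMod p)ˣ
  ψ : ZMod p → (↥(P : Subgroup G) →* ℂˣ)
  card : Nat.card H = e
  map_add : ∀ x y, ψ (x + y) = ψ x * ψ y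
  bij : Function.Bijective ψ
  orbit : ∀ x y, x ≠ 0 → (SameOrbit P (ψ x) (ψ y) ↔ y ∈ orb H x)

theorem exists_param (S : Setup P e 1 r t) : Nonempty (Param P e) := by
  haveI : NeZero p := ⟨hp.out.ne_zero⟩
  obtain ⟨i, -, -⟩ := S.hyp.exists_not_sameOrbit
  obtain ⟨ψ₀, hψ₀⟩ := i
  have hpow : ψ₀ ^ p = 1 := by
    refine MonoidHom.ext fun w => ?_
    have hw : w ^ Nat.card ↥(P : Subgroup G) = 1 := pow_card_eq_one'
    rw [S.cardP] at hw
    rw [MonoidHom.pow_apply, ← map_pow, hw, map_one, MonoidHom.one_apply]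
  have hord : orderOf ψ₀ = p := orderOf_eq_prime hpow hψ₀
  have hq0 : ψ₀ ^ 0 = 1 := MonoidHom.ext fun w => by simp
  have hq1 : ψ₀ ^ 1 = ψ₀ := MonoidHom.ext fun w => by simp
  have hqm : ∀ m n : ℕ, m ≡ n [MOD p] → ψ₀ ^ m = ψ₀ ^ n := fun m n h => MonoidHom.ext fun w => by
    have hw : w ^ p = 1 := (congrArg (w ^ ·) S.cardP).symm.trans pow_card_eq_one'
    rw [MonoidHom.pow_apply, MonoidHom.pow_apply, ← map_pow, ← map_pow,
      pow_eq_pow_of_modEq h hw]
  have hqa : ∀ m n : ℕ, ψ₀ ^ (m + n) = ψ₀ ^ m * ψ₀ ^ n := fun m n => MonoidHom.ext fun w => by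
    simp [pow_add]
  have hqq : ∀ m n : ℕ, (ψ₀ ^ m) ^ n = ψ₀ ^ (m * n) := fun m n => MonoidHom.ext fun w => by
    simp [pow_mul]
  let ψ : ZMod p → (↥(P : Subgroup G) →* ℂˣ) := fun x => ψ₀ ^ x.val
  have hψnat : ∀ n : ℕ, ψ (n : ZMod p) = ψ₀ ^ n := fun n => by
    show ψ₀ ^ (n : ZMod p).val = _
    rw [ZMod.val_natCast]
    exact hqm _ _ (Nat.mod_modEq n p)
  have hadd : ∀ x y, ψ (x + y) = ψ x * ψ y := fun x y => by
    show ψ₀ ^ (x + y).val = ψ₀ ^ x.val * ψ₀ ^ y.val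
    rw [← hqa, ZMod.val_add]
    exact hqm _ _ (Nat.mod_modEq _ _)
  have hinj : Function.Injective ψ := fun x y h => by
    refine ZMod.val_injective p (pow_injOn_Iio_orderOf (x := ψ₀) ?_ ?_ (MonoidHom.ext fun w => ?_))
    · simp only [Set.mem_Iio]; exact (ZMod.val_lt _).trans_eq hord.symm
    · simp only [Set.mem_Iio]; exact (ZMod.val_lt _).trans_eq hord.symm
    · exact DFunLike.congr_fun h w
  have hbij : Function.Bijective ψ := by
    refine (Nat.bijective_iff_injective_and_card _).2 ⟨hinj, ?_⟩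
    rw [Nat.card_zmod, CommGroup.card_monoidHom_of_hasEnoughRootsOfUnity, S.cardP]
  have hne : ∀ x : ZMod p, x ≠ 0 → ψ x ≠ 1 := fun x hx h => hx (hinj (h.trans (by
    show (1 : ↥(P : Subgroup G) →* ℂˣ) = ψ₀ ^ (0 : ZMod p).val
    rw [ZMod.val_zero, hq0])))
  have htw : ∀ n j, twist P n (ψ₀ ^ j) = twist P n ψ₀ ^ j := fun n j => MonoidHom.ext fun w => by
    simp only [twist_apply, MonoidHom.pow_apply]
  have hmul : ∀ (n : ↥(Subgroup.normalizer ((P : Subgroup G) : Set G))) (l x : ZMod p),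
      twist P n ψ₀ = ψ l → twist P n (ψ x) = ψ (l * x) := fun n l x h => by
    show twist P n (ψ₀ ^ x.val) = ψ₀ ^ (l * x).val
    rw [htw, h]
    show (ψ₀ ^ l.val) ^ x.val = _
    rw [hqq, ZMod.val_mul]
    exact (hqm _ _ (Nat.mod_modEq _ _)).symm
  let H : Subgroup (ZMod p)ˣ :=
    { carrier := {l | ∃ n, twist P n ψ₀ = ψ (l : ZMod p)}
      one_mem' := ⟨1, by
        rw [twist_one, Units.val_one, ← Nat.cast_one, hψnat, hq1]⟩
      mul_mem' := by
        rintro a b ⟨n, hn⟩ ⟨m, hm⟩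
        exact ⟨n * m, by rw [twist_mul, hm, hmul n _ _ hn, Units.val_mul]⟩
      inv_mem' := by
        rintro a ⟨n, hn⟩
        obtain ⟨l, hl⟩ := hbij.2 (twist P n⁻¹ ψ₀)
        refine ⟨n⁻¹, ?_⟩
        have h := congrArg (twist P n) hl
        rw [← twist_mul, mul_inv_cancel, twist_one, hmul n _ _ hn] at h
        have h1 : (a : ZMod p) * l = 1 := hinj (h.trans (by rw [← Nat.cast_one, hψnat, hq1]))
        rw [← hl]
        congr 1
        rw [← one_mul l, ← Units.inv_mul a, mul_assoc, h1, mul_one] }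
  have horb : ∀ x y, x ≠ 0 → (SameOrbit P (ψ x) (ψ y) ↔ y ∈ orb H x) := by
    intro x y hx
    rw [sameOrbit_iff, mem_orb]
    constructor
    · rintro ⟨n, hn⟩
      obtain ⟨l, hl⟩ := hbij.2 (twist P n ψ₀)
      have hl0 : l ≠ 0 := fun h => hψ₀ ((twist_eq_one_iff P n ψ₀).1 (by
        rw [← hl, h]
        show ψ₀ ^ (0 : ZMod p).val = 1
        rw [ZMod.val_zero, hq0]))
      refine ⟨⟨Units.mk0 l hl0, n, hl.symm⟩, hinj ?_⟩
      rw [← hn, hmul n l x hl.symm]
      rfl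
    · rintro ⟨⟨l, n, hn⟩, rfl⟩
      exact ⟨n, hmul n _ _ hn⟩
  refine ⟨⟨H, ψ, ?_, hadd, hbij, horb⟩⟩
  have h1 : (1 : ZMod p) ≠ 0 := one_ne_zero
  rw [← card_orb (H := H) h1, ← S.hyp.card_orbit (hne 1 h1)]
  refine card_bij (fun x _ => ψ x) (fun x hx => ?_) (fun x _ y _ h => hinj h) (fun φ hφ => ?_)
  · rw [AbelianPrincipal.mem_orbit]; exact (horb 1 x h1).2 hx
  · obtain ⟨x, rfl⟩ := hbij.2 φ
    rw [AbelianPrincipal.mem_orbit] at hφ
    exact ⟨x, (horb 1 x h1).1 hφ, rfl⟩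

variable (π : Param P e)

theorem Param.map_zero : π.ψ 0 = 1 := by
  have h := π.map_add 0 0
  rw [add_zero] at h
  refine MonoidHom.ext fun w => ?_
  have h' : π.ψ 0 w = π.ψ 0 w * π.ψ 0 w := DFunLike.congr_fun h w
  exact left_eq_mul.1 h'

theorem Param.map_neg (x : ZMod p) : π.ψ (-x) = (π.ψ x)⁻¹ := MonoidHom.ext fun w => by
  rw [MonoidHom.inv_apply]
  refine eq_inv_of_mul_eq_one_left ?_
  have h := DFunLike.congr_fun (π.map_add (-x) x) w
  rw [neg_add_cancel, π.map_zero] at h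
  exact h.symm

theorem Param.map_sub (x y : ZMod p) : π.ψ (x - y) = π.ψ x * (π.ψ y)⁻¹ := by
  rw [sub_eq_add_neg, π.map_add, π.map_neg]

theorem Param.ne_one {x : ZMod p} (hx : x ≠ 0) : π.ψ x ≠ 1 := fun h =>
  hx (π.bij.1 (h.trans π.map_zero.symm))

/-- Sums over the characters of `P`. -/
theorem Param.sum_eq {A : Type*} [AddCommMonoid A] [Fintype (↥(P : Subgroup G) →* ℂˣ)]
    (f : (↥(P : Subgroup G) →* ℂˣ) → A) : ∑ φ, f φ = ∑ x : ZMod p, f (π.ψ x) :=
  (Fintype.sum_equiv (Equiv.ofBijective π.ψ π.bij) _ _ fun _ => rfl).symm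

end CfsgLib.SmallGroups.SmallDegree
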