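import Cfsg.Agent.Lib.SmallGroups.SmallDegreeParam
import Cfsg.Agent.Lib.CharTheory.Inflation

/-!
# Products of two exceptional characters

With `n(a,b,c) = ⟨η_a η_b, η_c⟩` and `r(a,b,c)` the number of ways to write a representative of
`c` as a sum from the orbits `a` and `b`, the sum `T n + r` is constant.
-/

set_option autoImplicit false
set_option linter.unusedSectionVars false

namespace CfsgLib.SmallGroups.SmallDegree

open Cfsg CfsgLib.CharTheory CfsgLib.Blocks CfsgLib.BrauerCharacters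
  CfsgLib.BrauerCharacters.AbelianPrincipal Finset CfsgLib.SmallGroups.BrauerReynolds
open scoped ComplexConjugate IsMulCommutative Classical

universe u

variable {G : Type u} [Group G] [Fintype G] [IsSimpleGroup G] [Fintype (IrrCharacter G)]
  {p : ℕ} [hp : Fact p.Prime]
variable {P : Sylow p G} [IsMulCommutative P] {e r t : ℕ}

/-- The multiplicity of an irreducible character, as a natural number. -/
noncomputable def mult (f : G → ℂ) (χ : IrrCharacter G) : ℕ :=
  if h : ∃ k : ℕ, classInner f (χ : G → ℂ) = k then h.choose else 0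

theorem coe_mult {f : G → ℂ} (hf : IsCharacter G f) (χ : IrrCharacter G) :
    (mult f χ : ℂ) = classInner f (χ : G → ℂ) := by
  have h := IsCharacter.exists_classInner_eq_nat hf χ
  rw [mult, dif_pos h]
  exact h.choose_spec.symm

theorem eq_sum_mult {f : G → ℂ} (hf : IsCharacter G f) (g : G) :
    f g = ∑ χ, (mult f χ : ℂ) * (χ : G → ℂ) g := by
  obtain ⟨m, hm⟩ := IsCharacter.exists_sum hf
  have hmult : ∀ χ, (mult f χ : ℂ) = m χ := fun χ => by
    rw [coe_mult hf, hm, classInner_sum_irr]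
  have := congrFun hm g
  simp only [Finset.sum_apply, Pi.smul_apply, smul_eq_mul] at this
  rw [this]
  exact sum_congr rfl fun χ _ => by rw [hmult]

/-- The multiplicity of a character of `P` in a function on `G`. -/
noncomputable def pmult (f : G → ℂ) (φ : ↥(P : Subgroup G) →* ℂˣ) : ℂ :=
  (Nat.card ↥(P : Subgroup G) : ℂ)⁻¹ * ∑ w : ↥(P : Subgroup G), f w * (φ w⁻¹ : ℂ)

theorem pmult_eq_sum {f : G → ℂ} (hf : IsCharacter G f) (φ : ↥(P : Subgroup G) →* ℂˣ) :
    pmult f φ = ∑ χ, (mult f χ : ℂ) * (multP χ φ : ℂ) := by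
  simp only [pmult, coe_multP, mul_sum, eq_sum_mult hf, sum_mul]
  rw [sum_comm]
  exact sum_congr rfl fun χ _ => sum_congr rfl fun w _ => by ring

variable (S : Setup P e 1 r t)
variable {M : Ideal AlgInt} [M.IsPrime] (hM : IsPModular p M) {D : Data M P e}
variable {E : Subgroup G} [IsMulCommutative ↥E] (F : Frame P E e)
variable (π : Param P e) {L : ℕ} {T : ℤ}

/-- The exceptional character with label `a`. -/
noncomputable def eta (D : Data M P e) (π : Param P e) (a : ZMod p) : IrrCharacter G := D.ζ (π.ψ a)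

/-- The product of two exceptional characters. -/
noncomputable def prodEta (D : Data M P e) (π : Param P e) (a b : ZMod p) : G → ℂ :=
  fun g => (eta D π a : G → ℂ) g * (eta D π b : G → ℂ) g

theorem isCharacter_prodEta (a b : ZMod p) : IsCharacter G (prodEta D π a b) :=
  isCharacter_mul (IsIrrCharacter.isCharacter (eta D π a).2) (IsIrrCharacter.isCharacter (eta D π b).2)

theorem eta_mem {a : ZMod p} (ha : a ≠ 0) : eta D π a ∈ D.Y :=
  D.mem_Y.2 ⟨_, π.ne_one ha, rfl⟩

theorem eta_eq_iff {a b : ZMod p} (ha : a ≠ 0) (hb : b ≠ 0) :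
    eta D π a = eta D π b ↔ b ∈ orb π.H a := by
  rw [eta, eta, D.hζ _ _ (π.ne_one ha) (π.ne_one hb), π.orbit a b ha]

/-- The indicator of an orbit. -/
noncomputable def iO (π : Param P e) (a x : ZMod p) : ℤ := if x ∈ orb π.H a then 1 else 0

theorem sum_iO_mul {a : ZMod p} (ha : a ≠ 0) (f : ZMod p → ℤ) :
    ∑ x, iO π a x * f x = ∑ l : π.H, f (((l : (ZMod p)ˣ) : ZMod p) * a) := by
  simp only [iO, ite_mul, one_mul, zero_mul]
  rw [← sum_filter, filter_univ_mem, orb, sum_image fun m _ n _ h => mul_right_inj_of_ne ha h]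

include S

/-- An element of order divisible by `p` is conjugate into `P`. -/
theorem exists_conj_mem {g : G} (hg : p ∣ orderOf g) :
    ∃ c : G, c * g * c⁻¹ ∈ (P : Subgroup G) ∧ c * g * c⁻¹ ≠ 1 := by
  set z := g ^ (orderOf g / p) with hz
  have hzo : orderOf z = p := orderOf_pow_orderOf_div (orderOf_pos g).ne' hg
  obtain ⟨Q, hQ⟩ := (IsPGroup.of_card (p := p) (n := 1)
    (G := ↥(Subgroup.zpowers z)) (by rw [Nat.card_zpowers, hzo, pow_one])).exists_le_sylow
  obtain ⟨c, hc⟩ := MulAction.exists_smul_eq G Q P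
  have hzP : c * z * c⁻¹ ∈ (P : Subgroup G) := by
    rw [← hc]
    exact Subgroup.mem_map.2 ⟨z, hQ (Subgroup.mem_zpowers z), rfl⟩
  have hne : c * z * c⁻¹ ≠ 1 := fun h => by
    rw [conj_eq_one_iff] at h
    rw [h, orderOf_one] at hzo
    exact hp.out.ne_one hzo.symm
  refine ⟨c, ?_, fun h => ?_⟩
  · rw [← S.centralizer_self, ← S.centralizer_eq hzP hne, Subgroup.mem_centralizer_singleton_iff,
      conj_mul, conj_mul]
    exact congrArg (fun x => c * x * c⁻¹) (Commute.self_pow g _).eq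
  · rw [conj_eq_one_iff] at h
    rw [h, orderOf_one] at hg
    exact hp.out.not_dvd_one hg

theorem p_ne_zero : (p : ℂ) ≠ 0 := Nat.cast_ne_zero.2 hp.out.ne_zero

variable (HS : Small D L T)
include HS

theorem multP_eta {a : ZMod p} (ha : a ≠ 0) (x : ZMod p) :
    (multP (eta D π a) (π.ψ x) : ℤ) = (L : ℤ) - T * iO π a x := by
  by_cases hx : x = 0
  · subst hx
    rw [π.map_zero, HS.mult _ (eta_mem π ha), iO, if_neg fun h => ne_zero_of_mem_orb ha h rfl, mul_zero,
      sub_zero]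
  · have h := S.multP_ζ D (π.ne_one ha) (π.ne_one hx)
    rw [HS.d0, HS.s, ← eta, HS.mult _ (eta_mem π ha), sub_zero] at h
    rw [h, iO]
    by_cases hc : x ∈ orb π.H a
    · rw [if_pos hc, if_pos ((π.orbit a x ha).2 hc), mul_one]
    · rw [if_neg hc, if_neg fun h' => hc ((π.orbit a x ha).1 h'), mul_zero]

/-- The restriction of a product to `P`. -/
theorem pmult_prodEta {a b : ZMod p} (ha : a ≠ 0) (hb : b ≠ 0) (z : ZMod p) :
    pmult (P := P) (prodEta D π a b) (π.ψ z) =
      ((∑ x, ((L : ℤ) - T * iO π a x) * ((L : ℤ) - T * iO π b (z - x)) : ℤ) : ℂ) := by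
  push_cast
  rw [pmult]
  have hexp : ∀ (c : ZMod p), c ≠ 0 → ∀ w : ↥(P : Subgroup G), (eta D π c : G → ℂ) w =
      ∑ x, ((L : ℂ) - (T : ℂ) * (iO π c x : ℂ)) * (π.ψ x w : ℂ) := fun c hc w => by
    rw [← sum_multP_apply (P := P) (eta D π c) w]
    refine (π.sum_eq _).trans ?_
    refine sum_congr rfl fun x _ => ?_
    have h := congrArg (fun n : ℤ => (n : ℂ)) (multP_eta S π HS hc x)
    push_cast at h
    rw [h]
  have hsum : ∀ x y : ZMod p, ∑ w : ↥(P : Subgroup G), (π.ψ x w : ℂ) * (π.ψ y w : ℂ) * (π.ψ z w⁻¹ : ℂ) =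
      if y = z - x then (Nat.card ↥(P : Subgroup G) : ℂ) else 0 := fun x y => by
    have h : ∀ w : ↥(P : Subgroup G), (π.ψ x w : ℂ) * (π.ψ y w : ℂ) * (π.ψ z w⁻¹ : ℂ) =
        (π.ψ (x + y - z) w : ℂ) := fun w => by
      rw [π.map_sub, π.map_add, MonoidHom.mul_apply, MonoidHom.mul_apply, MonoidHom.inv_apply, map_inv,
        Units.val_mul, Units.val_mul]
    rw [sum_congr rfl fun w _ => h w]
    by_cases hy : y = z - x
    · rw [if_pos hy, hy, show x + (z - x) - z = 0 by ring, π.map_zero]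
      simp [Nat.card_eq_fintype_card]
    · rw [if_neg hy]
      refine (Brauer.sum_homUnit _).trans (if_neg fun h' => hy ?_)
      have := π.bij.1 (h'.trans π.map_zero.symm)
      linear_combination this
  simp only [prodEta, hexp a ha, hexp b hb]
  simp only [sum_mul_sum]
  simp only [sum_mul, mul_sum]
  rw [sum_comm]
  refine sum_congr rfl fun x _ => ?_
  rw [sum_comm, sum_eq_single (z - x)]
  · have h := hsum x (z - x)
    rw [if_pos rfl] at h
    have hA : ∀ w : ↥(P : Subgroup G), (Nat.card ↥(P : Subgroup G) : ℂ)⁻¹ *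
        (((L : ℂ) - (T : ℂ) * (iO π a x : ℂ)) * (π.ψ x w : ℂ) *
          (((L : ℂ) - (T : ℂ) * (iO π b (z - x) : ℂ)) * (π.ψ (z - x) w : ℂ)) * (π.ψ z w⁻¹ : ℂ)) =
        (Nat.card ↥(P : Subgroup G) : ℂ)⁻¹ * (((L : ℂ) - (T : ℂ) * (iO π a x : ℂ)) *
          ((L : ℂ) - (T : ℂ) * (iO π b (z - x) : ℂ))) *
          ((π.ψ x w : ℂ) * (π.ψ (z - x) w : ℂ) * (π.ψ z w⁻¹ : ℂ)) := fun w => by ring
    rw [sum_congr rfl fun w _ => hA w, ← mul_sum, h]
    field_simp
  · intro y _ hy
    have h := hsum x y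
    rw [if_neg hy] at h
    have hA : ∀ w : ↥(P : Subgroup G), (Nat.card ↥(P : Subgroup G) : ℂ)⁻¹ *
        (((L : ℂ) - (T : ℂ) * (iO π a x : ℂ)) * (π.ψ x w : ℂ) *
          (((L : ℂ) - (T : ℂ) * (iO π b y : ℂ)) * (π.ψ y w : ℂ)) * (π.ψ z w⁻¹ : ℂ)) =
        (Nat.card ↥(P : Subgroup G) : ℂ)⁻¹ * (((L : ℂ) - (T : ℂ) * (iO π a x : ℂ)) *
          ((L : ℂ) - (T : ℂ) * (iO π b y : ℂ))) *
          ((π.ψ x w : ℂ) * (π.ψ y w : ℂ) * (π.ψ z w⁻¹ : ℂ)) := fun w => by ring
    rw [sum_congr rfl fun w _ => hA w, ← mul_sum, h, mul_zero]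
  · simp

/-- The jump of the multiplicities of a product between `1` and a non-trivial character. -/
theorem pmult_prodEta_sub {a b z : ZMod p} (ha : a ≠ 0) (hb : b ≠ 0) :
    pmult (P := P) (prodEta D π a b) (π.ψ 0) - pmult (P := P) (prodEta D π a b) (π.ψ z) =
      ((((if -a ∈ orb π.H b then e else 0 : ℕ) : ℤ) - (circ π.H a b z : ℤ) : ℤ) : ℂ) := by
  rw [pmult_prodEta S π HS ha hb, pmult_prodEta S π HS ha hb, ← Int.cast_sub]
  congr 1
  have hshift : ∀ w : ZMod p, ∑ x, iO π b (w - x) = ∑ x, iO π b x := fun w =>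
    Fintype.sum_equiv (Equiv.subLeft w) _ _ fun x => rfl
  have hexp : ∀ w : ZMod p, ∑ x, ((L : ℤ) - T * iO π a x) * ((L : ℤ) - T * iO π b (w - x)) =
      (p : ℤ) * (L * L) - L * T * ∑ x, iO π b x - L * T * ∑ x, iO π a x +
        ∑ l : π.H, iO π b (w - ((l : (ZMod p)ˣ) : ZMod p) * a) := by
    intro w
    rw [← sum_iO_mul π ha (fun x => iO π b (w - x)), ← hshift w, mul_sum, mul_sum,
      show (p : ℤ) * (L * L) = ∑ _x : ZMod p, (L : ℤ) * L by simp [ZMod.card],
      ← sum_sub_distrib, ← sum_sub_distrib, ← sum_add_distrib]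
    refine sum_congr rfl fun x _ => ?_
    linear_combination (iO π a x * iO π b (w - x)) * HS.T_sq S
  rw [hexp, hexp]
  have h0 : ∑ l : π.H, iO π b (0 - ((l : (ZMod p)ˣ) : ZMod p) * a) =
      ((if -a ∈ orb π.H b then e else 0 : ℕ) : ℤ) := by
    have hl : ∀ l : π.H, iO π b (0 - ((l : (ZMod p)ˣ) : ZMod p) * a) = iO π b (-a) := fun l => by
      refine if_congr ?_ rfl rfl
      rw [zero_sub, ← mul_neg, mem_orb_comm, mem_orb_mul, mem_orb_comm]
    rw [sum_congr rfl fun l _ => hl l, sum_const, card_univ, ← Nat.card_eq_fintype_card, π.card, iO]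
    split_ifs <;> simp
  have hz : ∑ l : π.H, iO π b (z - ((l : (ZMod p)ˣ) : ZMod p) * a) = (circ π.H a b z : ℤ) := by
    simp only [iO, circ, sum_boole]
  rw [h0, hz]
  ring

include F hM

/-- The values at `1` and at a non-trivial character, from a decomposition. -/
theorem pmult_sub {f : G → ℂ} (hf : IsCharacter G f) {z : ZMod p} (hz : z ≠ 0) :
    pmult (P := P) f (π.ψ 0) - pmult (P := P) f (π.ψ z) =
      ((∑ χ ∈ D.X, (mult f χ : ℤ) * D.v χ + T * mult f (eta D π z) : ℤ) : ℂ) := by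
  rw [pmult_eq_sum hf, pmult_eq_sum hf, ← sum_sub_distrib,
    ← sum_add_sum_compl (blockFinset (principalBlock M G)), ← outSet,
    sum_eq_zero (s := outSet M G) fun χ hχ => by
      have h : ∀ φ : ↥(P : Subgroup G) →* ℂˣ, (multP χ φ : ℂ) = (p : ℂ)⁻¹ * charDegree (χ : G → ℂ) :=
        fun φ => by
          rw [coe_multP, S.cardP, sum_eq_single (1 : ↥(P : Subgroup G)) (fun w _ hw => by
            rw [S.outside_vanish hM D F hχ w.2 fun e => hw (Subtype.ext e), zero_mul]) (by simp),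
            Subgroup.coe_one, inv_one, map_one, Units.val_one, mul_one, (charDegree_spec χ).1]
      rw [h, h, sub_self], add_zero,
    sum_congr rfl (g := fun χ => ((((mult f χ : ℤ) * D.v χ +
      (if χ = eta D π z then T * mult f χ else 0)) : ℤ) : ℂ)) fun χ hχ => by
      have h1 := D.hu (π.ψ z) (π.ne_one hz) χ (mem_blockFinset.1 hχ)
      rw [uvec_eq, HS.s] at h1
      rw [π.map_zero, ← mul_sub]
      by_cases hc : χ = eta D π z
      · rw [if_pos (show χ = D.ζ (π.ψ z) from hc)] at h1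
        have h2 := congrArg (fun n : ℤ => (n : ℂ)) h1
        push_cast at h2
        rw [h2, if_pos hc]; push_cast; ring
      · rw [if_neg (show ¬ χ = D.ζ (π.ψ z) from hc)] at h1
        have h2 := congrArg (fun n : ℤ => (n : ℂ)) h1
        push_cast at h2
        rw [h2, if_neg hc]; push_cast; ring,
    D.sum_block, ← Int.cast_sum, ← Int.cast_sum, ← Int.cast_add, sum_add_distrib, sum_add_distrib]
  congr 1
  have h3 : ∑ χ ∈ D.Y, (mult f χ : ℤ) * D.v χ = 0 := sum_eq_zero fun χ hχ => by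
    obtain ⟨φ, hφ, rfl⟩ := D.mem_Y.1 hχ
    rw [D.hvζ φ hφ, HS.d0, mul_zero]
  have h4 : ∑ χ ∈ D.X, (if χ = eta D π z then T * (mult f χ : ℤ) else 0) = 0 := sum_eq_zero fun χ hχ =>
    if_neg fun h => (mem_sdiff.1 hχ).2 (by rw [h]; exact eta_mem π hz)
  rw [h3, h4, sum_ite_eq', if_pos (eta_mem π hz)]
  ring

omit F in
/-- Characters agreeing on elements of order prime to `p` differ on `X` by a multiple of `v`. -/
theorem mult_sub {f f' : G → ℂ} (hf : IsCharacter G f) (hf' : IsCharacter G f')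
    (heq : ∀ g, ¬ p ∣ orderOf g → f g = f' g) {x : IrrCharacter G} (hx : x ∈ D.X) :
    (mult f x : ℤ) - mult f' x = D.v x * ((mult f (trivIrr G) : ℤ) - mult f' (trivIrr G)) := by
  apply Int.cast_injective (α := ℂ)
  push_cast
  rw [coe_mult hf, coe_mult hf', coe_mult hf, coe_mult hf']
  simp only [classInner, trivIrr_apply, map_one, mul_one, ← mul_sub, ← sum_sub_distrib, ← sub_mul]
  conv_rhs => rw [mul_left_comm, mul_sum]
  refine congrArg _ (sum_congr rfl fun g _ => ?_)
  by_cases hg : p ∣ orderOf g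
  · obtain ⟨c, hc, hc1⟩ := exists_conj_mem S hg
    rw [show (x : G → ℂ) g = (x : G → ℂ) (c * g * c⁻¹) from
      (IsIrrCharacter.isClassFunction x.2 g c).symm, S.apply_P hM D hx hc hc1, map_intCast]
    ring
  · rw [heq g hg]; ring

/-- Characters agreeing on elements of order prime to `p` agree outside the principal block. -/
theorem mult_out {f f' : G → ℂ} (hf : IsCharacter G f) (hf' : IsCharacter G f')
    (heq : ∀ g, ¬ p ∣ orderOf g → f g = f' g) {x : IrrCharacter G} (hx : x ∈ outSet M G) :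
    mult f x = mult f' x := by
  apply Nat.cast_injective (R := ℂ)
  rw [coe_mult hf, coe_mult hf']
  simp only [classInner]
  refine congrArg _ (sum_congr rfl fun g _ => ?_)
  by_cases hg : p ∣ orderOf g
  · obtain ⟨c, hc, hc1⟩ := exists_conj_mem S hg
    rw [show (x : G → ℂ) g = (x : G → ℂ) (c * g * c⁻¹) from
      (IsIrrCharacter.isClassFunction x.2 g c).symm, S.outside_vanish hM D F hx hc hc1, map_zero,
      mul_zero, mul_zero]
  · rw [heq g hg]

omit F in
theorem prodEta_eq_of_regular {a b a' b' : ZMod p} (ha : a ≠ 0) (hb : b ≠ 0) (ha' : a' ≠ 0)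
    (hb' : b' ≠ 0) (g : G) (hg : ¬ p ∣ orderOf g) : prodEta D π a b g = prodEta D π a' b' g := by
  simp only [prodEta]
  rw [D.apply_Y_eq hM (eta_mem π ha) (eta_mem π ha') hg, D.apply_Y_eq hM (eta_mem π hb) (eta_mem π hb') hg]

omit F in
/-- The complex conjugate of an exceptional character. -/
theorem conj_eta (F : Frame P E e) {b : ZMod p} (hb : b ≠ 0) (g : G) :
    conj ((eta D π b : G → ℂ) g) = (eta D π (-b) : G → ℂ) g := by
  set χ : IrrCharacter G := ⟨_, isIrrCharacter_conj (eta D π b).2⟩ with hχ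
  have hval : ∀ x, (χ : G → ℂ) x = conj ((eta D π b : G → ℂ) x) := fun x => rfl
  have hdeg : charDegree (χ : G → ℂ) = charDegree (eta D π b : G → ℂ) := by
    have h := hval 1
    rw [(charDegree_spec _).1, (charDegree_spec _).1, Complex.conj_natCast] at h
    exact_mod_cast h
  have hlt := HS.deg_lt S (eta_mem π hb)
  have hne : χ ≠ trivIrr G := fun h => by
    have h1 := HS.deg _ (eta_mem π hb)
    rw [← hdeg, h, charDegree_triv] at h1
    have := S.e_lt
    have := S.e2
    rcases HS.LT with ⟨h2, h3⟩ | ⟨h2, h3⟩ <;> rw [h2, h3] at h1 <;> push_cast at h1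
    · have := S.p_eq
      have : e * 2 ≤ e * t := Nat.mul_le_mul_left e S.t2
      omega
    · omega
  obtain ⟨φ, hφ, hφχ⟩ := D.mem_Y.1 (mem_Y_of_small S hM D F hne (by rw [hdeg]; exact hlt))
  obtain ⟨c, rfl⟩ := π.bij.2 φ
  have hc : c ≠ 0 := fun h => hφ (by rw [h, π.map_zero])
  have hm : ∀ x, multP χ (π.ψ x) = multP (eta D π b) (π.ψ (-x)) := fun x => by
    apply Nat.cast_injective (R := ℂ)
    rw [coe_multP, coe_multP]
    refine congrArg _ (Fintype.sum_equiv (Equiv.inv _) _ _ fun w => ?_)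
    simp only [hval, Equiv.inv_apply, conj_apply, Subgroup.coe_inv, inv_inv, π.map_neg,
      MonoidHom.inv_apply, map_inv]
  have hcb : -b ∈ orb π.H c := by
    have h := multP_eta S π HS hc (-b)
    have h2 := multP_eta S π HS hb b
    rw [show eta D π c = χ from hφχ, hm, neg_neg, h2, iO, iO, if_pos (mem_orb_self b)] at h
    by_contra hno
    rw [if_neg hno] at h
    rcases HS.LT with ⟨-, hT⟩ | ⟨-, hT⟩ <;> rw [hT] at h <;> simp at h
  rw [← hval]
  refine congrArg (fun θ : IrrCharacter G => (θ : G → ℂ) g) ?_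
  rw [← hφχ]
  exact (eta_eq_iff π hc (neg_ne_zero.2 hb)).2 hcb

/-- The multiplicity of the trivial character in a product. -/
theorem mult_prodEta_triv {a b : ZMod p} (ha : a ≠ 0) (hb : b ≠ 0) :
    mult (prodEta D π a b) (trivIrr G) = if -a ∈ orb π.H b then 1 else 0 := by
  apply Nat.cast_injective (R := ℂ)
  rw [coe_mult (isCharacter_prodEta π a b)]
  have h : classInner (prodEta D π a b) (trivIrr G : G → ℂ) =
      classInner (eta D π a : G → ℂ) (eta D π (-b) : G → ℂ) := by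
    simp only [classInner, prodEta, trivIrr_apply, map_one, mul_one,
      ← conj_eta S hM π HS F hb, Complex.conj_conj]
  rw [h, classInner_irrCharacter]
  push_cast
  refine if_congr ?_ rfl rfl
  rw [eta_eq_iff π ha (neg_ne_zero.2 hb)]
  constructor
  · intro h'
    obtain ⟨m, hm⟩ := mem_orb.1 (mem_orb_symm h')
    exact mem_orb.2 ⟨m, by rw [← hm, mul_neg, neg_neg]⟩
  · intro h'
    obtain ⟨m, hm⟩ := mem_orb.1 (mem_orb_symm h')
    exact mem_orb.2 ⟨m, by rw [← hm, mul_neg]; simp⟩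

/-- `T n + r` is constant, and the signed multiplicities on `X` are determined by it. -/
theorem exists_K : ∃ K : ℤ, ∀ a b : ZMod p, a ≠ 0 → b ≠ 0 →
    (∑ χ ∈ D.X, (mult (prodEta D π a b) χ : ℤ) * D.v χ = ((if -a ∈ orb π.H b then e else 0 : ℕ) : ℤ) - K) ∧
    ∀ z : ZMod p, z ≠ 0 → T * mult (prodEta D π a b) (eta D π z) + circ π.H a b z = K := by
  obtain ⟨hv, hcard⟩ := HS.X_facts S hM F
  set K : ℤ := ((if -(1 : ZMod p) ∈ orb π.H 1 then e else 0 : ℕ) : ℤ) -
    ∑ χ ∈ D.X, (mult (prodEta D π 1 1) χ : ℤ) * D.v χ with hK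
  refine ⟨K, fun a b ha hb => ?_⟩
  have h1 : (1 : ZMod p) ≠ 0 := one_ne_zero
  have hS : ∑ χ ∈ D.X, (mult (prodEta D π a b) χ : ℤ) * D.v χ =
      ((if -a ∈ orb π.H b then e else 0 : ℕ) : ℤ) - K := by
    have hd : ∑ χ ∈ D.X, (mult (prodEta D π a b) χ : ℤ) * D.v χ -
        ∑ χ ∈ D.X, (mult (prodEta D π 1 1) χ : ℤ) * D.v χ = (e : ℤ) *
        ((mult (prodEta D π a b) (trivIrr G) : ℤ) - mult (prodEta D π 1 1) (trivIrr G)) := by
      rw [← sum_sub_distrib, sum_congr rfl (g := fun _ => (mult (prodEta D π a b) (trivIrr G) : ℤ) -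
          mult (prodEta D π 1 1) (trivIrr G)) fun χ hχ => ?_, sum_const, hcard, nsmul_eq_mul]
      have hvv : D.v χ * D.v χ = 1 := by rcases hv χ hχ with h | h <;> rw [h] <;> norm_num
      rw [← sub_mul, mult_sub S hM HS (isCharacter_prodEta π a b) (isCharacter_prodEta π 1 1)
        (prodEta_eq_of_regular S hM π HS ha hb h1 h1) hχ]
      linear_combination ((mult (prodEta D π a b) (trivIrr G) : ℤ) -
        mult (prodEta D π 1 1) (trivIrr G)) * hvv
    rw [mult_prodEta_triv S hM F π HS ha hb, mult_prodEta_triv S hM F π HS h1 h1] at hd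
    rw [hK]
    split_ifs at hd ⊢ <;> push_cast at hd ⊢ <;> linarith
  refine ⟨hS, fun z hz => ?_⟩
  have h := (pmult_prodEta_sub S π HS (z := z) ha hb).symm.trans
    (pmult_sub S hM F π HS (isCharacter_prodEta π a b) hz)
  have h' := Int.cast_injective h
  rw [hS] at h'
  linarith

end CfsgLib.SmallGroups.SmallDegree
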