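import Cfsg.Agent.Lib.SmallGroups.SmallDegreeEnergy
import Cfsg.Agent.Lib.CharTheory.SymmetricSquare

/-!
# The case of degree `p - e`: the squares

The exterior and symmetric squares of an exceptional character force `e = 2` or `t = 2`.
-/

set_option autoImplicit false
set_option linter.unusedSectionVars false

namespace CfsgLib.SmallGroups.SmallDegree

open Cfsg CfsgLib.CharTheory CfsgLib.Blocks CfsgLib.BrauerCharacters
  CfsgLib.BrauerCharacters.AbelianPrincipal Finset CfsgLib.SmallGroups.BrauerReynolds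
open scoped ComplexConjugate IsMulCommutative Classical

universe u

variable {G : Type u} [Group G] [Fintype G] [IsSimpleGroup G] [Fintype (IrrCharacter G)]
  {p : ℕ} [hp : Fact p.Prime]
variable {P : Sylow p G} [IsMulCommutative P] {e r t : ℕ} (S : Setup P e 1 r t)
variable {M : Ideal AlgInt} [M.IsPrime] (hM : IsPModular p M) {D : Data M P e}
variable {E : Subgroup G} [IsMulCommutative ↥E] (F : Frame P E e)
variable (π : Param P e) {L : ℕ}

include S

theorem two_ne_zero_zmod : (2 : ZMod p) ≠ 0 := fun h => by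
  have h' : ((2 : ℕ) : ZMod p) = 0 := by exact_mod_cast h
  rw [ZMod.natCast_eq_zero_iff] at h'
  have := Nat.le_of_dvd two_pos h'
  have := S.p5
  omega

include F

/-- With `e` even there is exactly one involution in `E`. -/
theorem exists_involution (he : 2 ∣ e) :
    ∃ i : ↥E, i ≠ 1 ∧ i * i = 1 ∧ ∀ a : ↥E, a * a = 1 → a = 1 ∨ a = i := by
  haveI := S.isCyclic_E F
  haveI : Fact (Nat.Prime 2) := ⟨Nat.prime_two⟩
  obtain ⟨i, hi⟩ := exists_prime_orderOf_dvd_card' (G := ↥E) 2 (by rw [F.card]; exact he)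
  have hi1 : i ≠ 1 := fun h => by rw [h, orderOf_one] at hi; omega
  have hi2 : i * i = 1 := by rw [← sq, ← hi]; exact pow_orderOf_eq_one i
  refine ⟨i, hi1, hi2, fun a ha => ?_⟩
  have hcard : (univ.filter fun x : ↥E => x ^ 2 = 1).card ≤ 2 := IsCyclic.card_pow_eq_one_le two_pos
  by_contra h
  push Not at h
  have hsub : ({1, i, a} : Finset ↥E) ⊆ univ.filter fun x : ↥E => x ^ 2 = 1 := by
    intro x hx
    simp only [mem_insert, mem_singleton] at hx
    rw [mem_filter, sq]
    rcases hx with rfl | rfl | rfl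
    · exact ⟨mem_univ _, one_mul 1⟩
    · exact ⟨mem_univ _, hi2⟩
    · exact ⟨mem_univ _, ha⟩
  have := card_le_card hsub
  rw [card_insert_of_notMem (by simp [hi1.symm, h.1.symm]), card_pair h.2.symm] at this
  omega

variable (HS : Small D L 1)
include HS hM

omit F in
/-- The multiplicities of `g ↦ η (g * g)` on `P`. -/
theorem pmult_adams (F : Frame P E e) {a : ZMod p} (ha : a ≠ 0) (z : ZMod p) :
    pmult (P := P) (fun g => (eta D π a : G → ℂ) (g * g)) (π.ψ z) =
      ((1 - iO π (2 * a) z : ℤ) : ℂ) := by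
  have h2 := two_ne_zero_zmod S
  have hexp : ∀ w : ↥(P : Subgroup G), (eta D π a : G → ℂ) ((w : G) * w) =
      ∑ x, ((1 - iO π a x : ℤ) : ℂ) * (π.ψ (2 * x) w : ℂ) := fun w => by
    rw [← Subgroup.coe_mul, ← sum_multP_apply (P := P) (eta D π a) (w * w)]
    refine (π.sum_eq _).trans (sum_congr rfl fun x _ => ?_)
    have h := congrArg (fun n : ℤ => (n : ℂ)) (multP_eta S π HS ha x)
    rw [HS.L_one S hM F] at h
    push_cast at h ⊢
    rw [h, one_mul, two_mul, π.map_add, MonoidHom.mul_apply, map_mul, Units.val_mul]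
  have hsum : ∀ x : ZMod p, ∑ w : ↥(P : Subgroup G), (π.ψ (2 * x) w : ℂ) * (π.ψ z w⁻¹ : ℂ) =
      if x = z / 2 then (Nat.card ↥(P : Subgroup G) : ℂ) else 0 := fun x => by
    have h : ∀ w : ↥(P : Subgroup G), (π.ψ (2 * x) w : ℂ) * (π.ψ z w⁻¹ : ℂ) = (π.ψ (2 * x - z) w : ℂ) :=
      fun w => by
        rw [π.map_sub, MonoidHom.mul_apply, MonoidHom.inv_apply, map_inv, Units.val_mul]
    rw [sum_congr rfl fun w _ => h w]
    by_cases hx : x = z / 2
    · rw [if_pos hx, hx, mul_div_cancel₀ _ h2, sub_self, π.map_zero]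
      simp [Nat.card_eq_fintype_card]
    · rw [if_neg hx]
      refine (Brauer.sum_homUnit _).trans (if_neg fun h' => hx ?_)
      have := π.bij.1 (h'.trans π.map_zero.symm)
      rw [eq_div_iff h2]
      linear_combination this
  rw [pmult]
  simp only [hexp, sum_mul]
  rw [sum_comm]
  simp only [mul_assoc, ← mul_sum, hsum, mul_ite, mul_zero, sum_ite_eq', if_pos (mem_univ (z / 2))]
  rw [mul_left_comm, inv_mul_cancel₀ (Nat.cast_ne_zero.2 Nat.card_pos.ne'), mul_one]
  congr 2
  refine if_congr ?_ rfl rfl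
  constructor
  · intro h
    obtain ⟨m, hm⟩ := mem_orb.1 h
    exact mem_orb.2 ⟨m, by rw [mul_left_comm, hm, mul_div_cancel₀ _ h2]⟩
  · intro h
    obtain ⟨m, hm⟩ := mem_orb.1 h
    exact mem_orb.2 ⟨m, by rw [← hm, mul_left_comm, mul_div_cancel_left₀ _ h2]⟩

/-- With `e` even the exceptional characters are real. -/
theorem conj_eta_self (he : 2 ∣ e) {b : ZMod p} (hb : b ≠ 0) (g : G) :
    conj ((eta D π b : G → ℂ) g) = (eta D π b : G → ℂ) g := by
  rw [conj_eta S hM π HS F hb g, (eta_eq_iff π hb (neg_ne_zero.2 hb)).2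
    ((neg_mem_orb (by rw [π.card]; exact he)).2 (mem_orb_self b))]

/-- `n (a, b, z) = n (a, z, b)`. -/
theorem mult_swap (he : 2 ∣ e) {a b z : ZMod p} (ha : a ≠ 0) (hb : b ≠ 0) (hz : z ≠ 0) :
    mult (prodEta D π a b) (eta D π z) = mult (prodEta D π a z) (eta D π b) := by
  apply Nat.cast_injective (R := ℂ)
  rw [coe_mult (isCharacter_prodEta π a b), coe_mult (isCharacter_prodEta π a z)]
  simp only [classInner, prodEta, conj_eta_self S hM F π HS he hb, conj_eta_self S hM F π HS he hz]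
  exact congrArg _ (sum_congr rfl fun g _ => by ring)

/-- In the case of degree `p - e` either `e = 2` or `t = 2`. -/
theorem two_cases : e = 2 ∨ t = 2 := by
  obtain ⟨π⟩ := exists_param S
  obtain ⟨K, hKall⟩ := exists_K S hM F π HS
  have hK : ∀ a b : ZMod p, a ≠ 0 → b ≠ 0 → ∀ z : ZMod p, z ≠ 0 →
      (mult (prodEta D π a b) (eta D π z) : ℤ) + circ π.H a b z = K := fun a b ha hb z hz => by
    have h := (hKall a b ha hb).2 z hz
    rwa [one_mul] at h
  obtain ⟨hN, he, hrow, henergy⟩ := energy S hM F π HS hK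
  obtain ⟨i, hi1, hi2, hi⟩ := exists_involution S F he
  obtain ⟨α₀, hα₀⟩ := exists_alpha S hM F HS
  have he0 : (0 : ℤ) < e := by exact_mod_cast (by have := S.e2; omega : 0 < e)
  have ht2 : (2 : ℤ) ≤ t := by exact_mod_cast S.t2
  have hK1 : 1 ≤ K := by
    by_contra h
    push Not at h
    have : (t : ℤ) * K ≤ 0 := mul_nonpos_of_nonneg_of_nonpos (Int.natCast_nonneg _) (by omega)
    linarith
  have hL := HS.L_one S hM F
  have h1 : (1 : ZMod p) ≠ 0 := one_ne_zero
  have h2 : (2 : ZMod p) ≠ 0 := two_ne_zero_zmod S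
  have hη : eta D π (1 : ZMod p) ∈ D.Y := eta_mem π h1
  set η := eta D π (1 : ZMod p) with hηdef
  have hηc := IsIrrCharacter.isCharacter η.2
  have hneg : -(1 : ZMod p) ∈ orb π.H 1 :=
    (neg_mem_orb (by rw [π.card]; exact he)).2 (mem_orb_self 1)
  -- values on `E`
  have hsign : (α₀ i : ℂ) = 1 ∨ (α₀ i : ℂ) = -1 := by
    refine sq_eq_one_iff.1 ?_
    rw [sq, ← Units.val_mul, ← map_mul, hi2, map_one, Units.val_one]
  have hval : ∀ a : ↥E, a ≠ 1 → (η : G → ℂ) a = (α₀ a : ℂ) := (hα₀ η hη).2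
  have hvalsq : ∀ a : ↥E, a ≠ 1 → a ≠ i → (η : G → ℂ) ((a : G) * a) = (α₀ a : ℂ) * (α₀ a : ℂ) :=
    fun a ha hai => by
      have hne : a * a ≠ 1 := fun h => (hi a h).elim ha hai
      rw [← Subgroup.coe_mul, hval _ hne, map_mul, Units.val_mul]
  have hdeg : (η : G → ℂ) 1 = (p : ℂ) - e := by
    rw [(charDegree_spec η).1]
    have h := congrArg (fun n : ℤ => (n : ℂ)) (HS.deg η hη)
    rw [hL] at h
    push_cast at h
    rw [h]
    ring
  have hvali : (η : G → ℂ) ((i : G) * i) = (p : ℂ) - e := by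
    rw [← Subgroup.coe_mul, hi2, Subgroup.coe_one, hdeg]
  -- multiplicities on `P` of the squares
  have hpm : ∀ (σ : ℤ) (z : ZMod p),
      pmult (P := P) (fun g => ((η : G → ℂ) g ^ 2 + (σ : ℂ) * (η : G → ℂ) (g * g)) / 2) (π.ψ z) =
        (pmult (P := P) (prodEta D π 1 1) (π.ψ z) + (σ : ℂ) * ((1 - iO π (2 * 1) z : ℤ) : ℂ)) / 2 := by
    intro σ z
    rw [← pmult_adams S hM π HS F h1 z]
    simp only [pmult, prodEta, ← hηdef, mul_sum, ← sum_add_distrib, sum_div]
    exact sum_congr rfl fun w _ => by ring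
  have hcharΛ : IsCharacter G (fun g => ((η : G → ℂ) g ^ 2 + ((-1 : ℤ) : ℂ) * (η : G → ℂ) (g * g)) / 2) := by
    simpa [sub_eq_add_neg] using ExteriorSquare.isCharacter_extSquare hηc
  have hcharS : IsCharacter G (fun g => ((η : G → ℂ) g ^ 2 + ((1 : ℤ) : ℂ) * (η : G → ℂ) (g * g)) / 2) := by
    simpa using SymmetricSquare.isCharacter_symSquare hηc
  -- a square without exceptional constituents
  have hnoY : ∀ σ : ℤ, IsCharacter G (fun g => ((η : G → ℂ) g ^ 2 + (σ : ℂ) * (η : G → ℂ) (g * g)) / 2) →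
      (σ = 1 ∨ σ = -1) → (α₀ i : ℂ) = -(σ : ℂ) →
      ∃ C : ℤ, ∀ z : ZMod p, z ≠ 0 → (circ π.H 1 1 z : ℤ) = C + σ * iO π (2 * 1) z := by
    intro σ hc hσ hαi
    set f := fun g => ((η : G → ℂ) g ^ 2 + (σ : ℂ) * (η : G → ℂ) (g * g)) / 2 with hf
    have h := e_mul_sum_mE S F hc α₀
    have hpone : pmult (P := P) f 1 = (((p : ℤ) - e : ℤ) : ℂ) * (1 : ℂ) / 2 + (σ : ℂ) / 2 := by
      rw [← π.map_zero, hf, hpm σ 0, π.map_zero, pmult_prodEta_one S hM F π HS h1 h1, if_pos hneg,
        iO, if_neg fun h' => ne_zero_of_mem_orb (mul_ne_zero h2 h1) h' rfl]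
      push_cast
      ring
    have hnorm : ∀ a : ↥E, (α₀ a : ℂ) * conj (α₀ a : ℂ) = 1 := fun a => by
      rw [Complex.mul_conj', norm_eq_one_of_pow_eq_one' Nat.card_pos.ne' (by
            rw [← Units.val_pow_eq_pow_val, ← map_pow, pow_card_eq_one', map_one, Units.val_one] :
            (α₀ a : ℂ) ^ Nat.card ↥E = 1)]
      simp
    have hσ2 : (σ : ℂ) * σ = 1 := by rcases hσ with h' | h' <;> rw [h'] <;> norm_num
    have hterm : ∀ a ∈ (univ : Finset ↥E).erase 1, f a * conj (α₀ a : ℂ) =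
        ((1 + (σ : ℂ)) / 2) * (α₀ a : ℂ) +
          if a = i then (σ : ℂ) / 2 * ((p : ℂ) - e - 1) * (α₀ i : ℂ) else 0 := by
      intro a ha
      have ha1 := ne_of_mem_erase ha
      rw [hf]
      by_cases hai : a = i
      · subst hai
        rw [if_pos rfl]
        show ((η : G → ℂ) a ^ 2 + (σ : ℂ) * (η : G → ℂ) ((a : G) * a)) / 2 * _ = _
        rw [hvali, hval a ha1]
        have hconj : conj (α₀ a : ℂ) = (α₀ a : ℂ) := by rw [hαi]; simp
        rw [hconj]
        rcases hσ with h' | h' <;> rw [hαi, h'] <;> push_cast <;> ring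
      · rw [if_neg hai, add_zero]
        show ((η : G → ℂ) a ^ 2 + (σ : ℂ) * (η : G → ℂ) ((a : G) * a)) / 2 * _ = _
        rw [hvalsq a ha1 hai, hval a ha1]
        linear_combination ((1 + (σ : ℂ)) / 2 * (α₀ a : ℂ)) * hnorm a
    rw [hpone, sum_congr rfl hterm, sum_add_distrib, sum_ite_eq', if_pos (mem_erase.2 ⟨hi1, mem_univ _⟩),
      ← mul_sum, sum_erase_eq_sub (mem_univ _), map_one, Units.val_one, hαi] at h
    have hzero : ∑ χ, mult f χ * S.mE F χ α₀ = 0 := by
      have hα : (σ : ℂ) = 1 → α₀ ≠ 1 := fun hs h' => by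
        rw [h', MonoidHom.one_apply, Units.val_one, hs] at hαi
        norm_num at hαi
      apply Nat.cast_injective (R := ℂ)
      apply mul_left_cancel₀ (Nat.cast_ne_zero.2 (by have := S.e2; omega) : (e : ℂ) ≠ 0)
      rw [h, Nat.cast_zero, mul_zero]
      rcases hσ with h' | h'
      · subst h'
        rw [(Brauer.sum_homUnit α₀).trans (if_neg (hα (by norm_num)))]
        push_cast
        ring
      · subst h'
        push_cast
        ring
    have hY0 : ∀ z : ZMod p, z ≠ 0 → mult f (eta D π z) = 0 := fun z hz => by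
      have := (sum_eq_zero_iff.1 hzero) (eta D π z) (mem_univ _)
      rwa [(hα₀ _ (eta_mem π hz)).1, mul_one] at this
    set Sf : ℤ := ∑ χ ∈ D.X, (mult f χ : ℤ) * D.v χ with hSf
    refine ⟨(e : ℤ) - 2 * Sf, fun z hz => ?_⟩
    have h3 := pmult_sub S hM F π HS hc hz
    rw [hY0 z hz, hf, hpm σ 0, hpm σ z, ← hSf] at h3
    have h4 := pmult_prodEta_sub S π HS (z := z) h1 h1
    rw [if_pos hneg] at h4
    have h5 : iO π (2 * 1) 0 = 0 := if_neg fun h' => ne_zero_of_mem_orb (mul_ne_zero h2 h1) h' rfl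
    rw [h5] at h3
    apply Int.cast_injective (α := ℂ)
    push_cast at h3 h4 ⊢
    linear_combination h4 - 2 * h3
  have hsumcirc : ∑ z ∈ nz p, (circ π.H 1 1 z : ℤ) = (e : ℤ) * e - e := by
    have h := sum_circ (H := π.H) h1 h1
    rw [π.card, ← nz, if_pos hneg] at h
    have h' : ((∑ z ∈ nz p, circ π.H 1 1 z : ℕ) : ℤ) + e = (e : ℤ) * e := by exact_mod_cast h
    push_cast at h'
    linarith
  have hsumI : ∑ z ∈ nz p, iO π (2 * 1) z = (e : ℤ) := by
    have h21 : (2 : ZMod p) * 1 ≠ 0 := mul_ne_zero h2 h1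
    simp only [iO, sum_boole]
    rw [show (nz p).filter (fun z => z ∈ orb π.H (2 * 1)) = orb π.H (2 * 1) from by
      ext z; simp only [mem_filter, mem_nz]
      exact ⟨fun h => h.2, fun h => ⟨ne_zero_of_mem_orb h21 h, h⟩⟩, card_orb h21, π.card]
  rcases hsign with hs | hs
  · right
    obtain ⟨C, hC⟩ := hnoY (-1) hcharΛ (Or.inr rfl) (by rw [hs]; simp)
    have h := hsumcirc
    rw [sum_congr rfl fun z hz => hC z (mem_nz.1 hz), sum_add_distrib, sum_const, nsmul_eq_mul,
      card_nz S, ← mul_sum, hsumI] at h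
    have h' : (e : ℤ) = t * C := by
      refine mul_left_cancel₀ he0.ne' ?_
      linarith
    have hdvd : (t : ℤ) ∣ 2 := ⟨C - K + 1, by rw [h'] at hN; linarith⟩
    have := Int.le_of_dvd (by norm_num) hdvd
    omega
  · obtain ⟨C, hC⟩ := hnoY 1 hcharS (Or.inl rfl) (by rw [hs]; simp)
    have hn : ∀ z : ZMod p, z ≠ 0 →
        (mult (prodEta D π 1 1) (eta D π z) : ℤ) = K - C - iO π (2 * 1) z := fun z hz => by
      have := hK 1 1 h1 h1 z hz
      rw [hC z hz, one_mul] at this
      linarith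
    have hKC : K - C = 1 := by
      have h := hrow 1 1 h1 h1
      rw [if_pos hneg, sum_congr rfl fun z hz => hn z (mem_nz.1 hz), sum_sub_distrib, sum_const,
        nsmul_eq_mul, card_nz S, hsumI] at h
      have h' : (e : ℤ) * t * (K - C) = (e : ℤ) * t * 1 := by linarith
      exact mul_left_cancel₀ (mul_ne_zero he0.ne' (by omega)) h'
    by_contra hcon
    push Not at hcon
    have ht3 : (3 : ℤ) ≤ t := by have := hcon.2; omega
    have hK2 : 2 ≤ K := by
      by_contra h
      have hK' : K = 1 := by omega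
      rw [hK', mul_one] at hN
      exact hcon.1 (by omega)
    have hE := henergy 1 h1
    -- the lower bound
    set A := orb π.H (1 : ZMod p) with hA
    set B := orb π.H (2 * 1 : ZMod p) with hB
    have hAsub : A ⊆ nz p := fun z hz => mem_nz.2 (ne_zero_of_mem_orb h1 hz)
    have hterm : ∀ b ∈ nz p, (K - 1) * (if b ∈ A then (e : ℤ) * t - e else if b ∈ B then 0 else e) ≤
        ∑ z ∈ nz p, (mult (prodEta D π 1 b) (eta D π z) : ℤ) * circ π.H 1 b z := by
      intro b hb
      have hb0 := mem_nz.1 hb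
      have hone : ∀ z ∈ nz p, (b ∈ A ∧ z ∉ B) ∨ (b ∉ B ∧ z ∈ A) →
          (mult (prodEta D π 1 b) (eta D π z) : ℤ) * circ π.H 1 b z = K - 1 := by
        intro z hz hcase
        have hz0 := mem_nz.1 hz
        have h' : (mult (prodEta D π 1 b) (eta D π z) : ℤ) = 1 := by
          rcases hcase with ⟨hbA, hzB⟩ | ⟨hbB, hzA⟩
          · have : prodEta D π 1 b = prodEta D π 1 1 := by
              funext g
              show _ * _ = _ * _
              rw [← (eta_eq_iff π (D := D) h1 hb0).2 hbA]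
            rw [this, hn z hz0, hKC, iO, if_neg hzB, sub_zero]
          · have : prodEta D π 1 z = prodEta D π 1 1 := by
              funext g
              show _ * _ = _ * _
              rw [← (eta_eq_iff π (D := D) h1 hz0).2 hzA]
            rw [mult_swap S hM F π HS he h1 hb0 hz0, this, hn b hb0, hKC, iO, if_neg hbB, sub_zero]
        have hc := hK 1 b h1 hb0 z hz0
        rw [h'] at hc ⊢
        linarith
      have hnn : ∀ z ∈ nz p, (0 : ℤ) ≤ (mult (prodEta D π 1 b) (eta D π z) : ℤ) * circ π.H 1 b z :=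
        fun z _ => mul_nonneg (Int.natCast_nonneg _) (Int.natCast_nonneg _)
      by_cases hbA : b ∈ A
      · rw [if_pos hbA]
        refine le_trans (le_of_eq ?_) (sum_le_sum_of_subset_of_nonneg
          (filter_subset (fun z => z ∉ B) (nz p)) fun z hz _ => hnn z hz)
        rw [sum_congr rfl fun z hz => hone z (mem_filter.1 hz).1 (Or.inl ⟨hbA, (mem_filter.1 hz).2⟩),
          sum_const, nsmul_eq_mul, mul_comm]
        congr 1
        have hc2 := card_filter_add_card_filter_not (s := nz p) (fun z => z ∈ B)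
        have hcB : ((nz p).filter fun z => z ∈ B).card = e := by
          rw [show (nz p).filter (fun z => z ∈ B) = B from by
            ext z; simp only [mem_filter, mem_nz]
            exact ⟨fun h => h.2, fun h => ⟨ne_zero_of_mem_orb (mul_ne_zero h2 h1) h, h⟩⟩,
            hB, card_orb (mul_ne_zero h2 h1), π.card]
        rw [hcB] at hc2
        have hc3 := card_nz S
        omega
      · rw [if_neg hbA]
        by_cases hbB : b ∈ B
        · rw [if_pos hbB, mul_zero]; exact sum_nonneg hnn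
        · rw [if_neg hbB]
          refine le_trans (le_of_eq ?_) (sum_le_sum_of_subset_of_nonneg hAsub fun z hz _ => hnn z hz)
          rw [sum_congr rfl fun z hz => hone z (hAsub hz) (Or.inr ⟨hbB, hz⟩), sum_const, nsmul_eq_mul,
            hA, card_orb h1, π.card, mul_comm]
    have hlow := sum_le_sum hterm
    rw [hE, ← mul_sum] at hlow
    have hcount : (e : ℤ) * ((e : ℤ) * t - e) + ((e : ℤ) * t - e - e) * e ≤
        ∑ b ∈ nz p, (if b ∈ A then (e : ℤ) * t - e else if b ∈ B then 0 else e) := by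
      rw [sum_ite, sum_const, nsmul_eq_mul, sum_ite, sum_const_zero, zero_add, sum_const, nsmul_eq_mul,
        filter_filter]
      have hcA : ((nz p).filter fun z => z ∈ A).card = e := by
        rw [show (nz p).filter (fun z => z ∈ A) = A from by
          ext z; simp only [mem_filter]; exact ⟨fun h => h.2, fun h => ⟨hAsub h, h⟩⟩,
          hA, card_orb h1, π.card]
      have hrest : nz p \ (A ∪ B) ⊆ (nz p).filter fun z => z ∉ A ∧ z ∉ B := fun z hz => by
        rw [mem_sdiff, mem_union, not_or] at hz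
        exact mem_filter.2 ⟨hz.1, hz.2⟩
      have hc4 := (le_card_sdiff (A ∪ B) (nz p)).trans (card_le_card hrest)
      have hc5 := card_union_le A B
      have hcA' : A.card = e := by rw [hA, card_orb h1, π.card]
      have hcB' : B.card = e := by rw [hB, card_orb (mul_ne_zero h2 h1), π.card]
      rw [hcA]
      have hc3 := card_nz S
      refine add_le_add le_rfl (mul_le_mul_of_nonneg_right ?_ he0.le)
      omega
    have hfin := (mul_le_mul_of_nonneg_left hcount (by linarith : (0 : ℤ) ≤ K - 1)).trans hlow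
    have hpos : 0 < (K - 1) * ((e : ℤ) * e) * ((t : ℤ) - 2) :=
      mul_pos (mul_pos (by linarith) (mul_pos he0 he0)) (by linarith)
    nlinarith

end CfsgLib.SmallGroups.SmallDegree
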