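import Cfsg.Agent.Lib.SmallGroups.SmallCofactor
import Cfsg.Agent.Lib.SmallGroups.FixedSets

/-!
# Simple groups of order `p r q ^ b`
-/

set_option autoImplicit false
set_option linter.style.haveILetI false
set_option linter.unusedSectionVars false

namespace CfsgLib.SmallGroups.ThreePrimes

open Cfsg CfsgLib.SmallGroups
open scoped IsMulCommutative

universe u

theorem sq_sub_one (n : ℕ) : n ^ 2 - 1 = (n + 1) * (n - 1) := by
  have h := Nat.sq_sub_sq n 1
  rwa [one_pow] at h

/-- A number `p` with `p ^ 2 - 1 = 3 * 2 ^ k` or `p ^ 2 - 1 = 2 ^ k`. -/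
theorem eq_five_or_seven {p x y : ℕ} (hp : 5 ≤ p) (hpp : p.Prime) (hxy : (p ^ 2 - 1) = 3 * 2 ^ x * 2 ^ y) :
    p = 5 ∨ p = 7 := by
  have hodd : Odd p := hpp.odd_of_ne_two (by omega)
  obtain ⟨k, rfl⟩ := hodd
  rw [sq_sub_one, Nat.add_sub_cancel, mul_assoc 3, ← pow_add] at hxy
  obtain ⟨n, hn⟩ : ∃ n, x + y = n + 2 := by
    rcases Nat.lt_or_ge (x + y) 2 with h | h
    · interval_cases h' : x + y <;> nlinarith
    · exact ⟨x + y - 2, by omega⟩
  rw [hn, pow_add] at hxy
  have h' : k * (k + 1) = 3 * 2 ^ n := by nlinarith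
  have hco : Nat.Coprime k (k + 1) := by simp
  rcases Nat.even_or_odd k with hk | hk
  · -- `k + 1` divides `3`
    have h2 : Nat.Coprime (k + 1) (2 ^ n) := by
      refine Nat.Coprime.pow_right _ ?_
      obtain ⟨l, hl⟩ := hk
      exact (Nat.prime_two.coprime_iff_not_dvd.2 (by omega)).symm
    have h3 : k + 1 ∣ 3 := h2.dvd_of_dvd_mul_right ⟨k, by rw [← h']; ring⟩
    rcases (Nat.dvd_prime Nat.prime_three).1 h3 with h | h
    · omega
    · left; omega
  · have h2 : Nat.Coprime k (2 ^ n) := Nat.Coprime.pow_right _ (Nat.coprime_two_right.2 hk)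
    have h3 : k ∣ 3 := h2.dvd_of_dvd_mul_right ⟨k + 1, h'.symm⟩
    rcases (Nat.dvd_prime Nat.prime_three).1 h3 with h | h
    · omega
    · right; omega

variable {G : Type u} [Group G] [Fintype G] [IsSimpleGroup G]

/-- The simple groups of order `p r q ^ b` with `r < p`. -/
theorem classify_of_lt (hG : ¬ IsCyclic G) {p q r b : ℕ} (hp : p.Prime) (hq : q.Prime) (hr : r.Prime)
    (hpq : p ≠ q) (hqr : q ≠ r) (hrp : r < p) (hG' : Nat.card G = p * r * q ^ b) :
    (∃ (F : Type) (_ : Field F) (_ : Fintype F), Fintype.card F = 5 ∧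
      Nonempty (G ≃* Matrix.ProjectiveSpecialLinearGroup (Fin 2) F)) ∨
    (∃ (F : Type) (_ : Field F) (_ : Fintype F), Fintype.card F = 7 ∧
      Nonempty (G ≃* Matrix.ProjectiveSpecialLinearGroup (Fin 2) F)) := by
  have hnc : ¬ IsMulCommutative G := fun h => hG (by
    haveI := h
    exact IsSimpleGroup.isCyclic)
  haveI := Fact.mk hp
  -- `4` divides the order if it is even
  have h4 : 2 ∣ Nat.card G → q = 2 := fun h2 => by
    have h := four_dvd_card hnc h2
    rw [hG'] at h
    by_contra hq2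
    have hc : Nat.Coprime 4 (q ^ b) := by
      rw [show 4 = 2 ^ 2 by norm_num]
      exact Nat.Coprime.pow _ _ ((Nat.coprime_primes Nat.prime_two hq).2 (Ne.symm hq2))
    have hpr : 4 ∣ p * r := hc.dvd_of_dvd_mul_right h
    rcases eq_or_ne r 2 with h2' | h2'
    · rw [h2', show 4 = 2 * 2 by norm_num] at hpr
      have := (Nat.prime_dvd_prime_iff_eq Nat.prime_two hp).1 (Nat.dvd_of_mul_dvd_mul_right two_pos hpr)
      omega
    · have hc' : Nat.Coprime 4 r := by
        rw [show 4 = 2 ^ 2 by norm_num]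
        exact Nat.Coprime.pow_left _ ((Nat.coprime_primes Nat.prime_two hr).2 (Ne.symm h2'))
      have h4p := hc'.dvd_of_dvd_mul_right hpr
      rcases (Nat.dvd_prime hp).1 h4p with h | h
      · norm_num at h
      · rw [← h] at hp; norm_num at hp
  by_cases hr1 : r < p - 1
  swap
  · -- `p = 3`, `r = 2`
    exfalso
    have hp3 : p = 3 ∧ r = 2 := by
      rcases hr.eq_two_or_odd with h | h <;> rcases hp.eq_two_or_odd with h' | h' <;>
        (have := hr.two_le; omega)
    exact hqr ((h4 (by rw [hG', hp3.2]; exact Dvd.intro _ (by ring : 2 * (p * q ^ b) = _))).trans hp3.2.symm)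
  obtain ⟨m, F, iF, jF, hF, hm, iso⟩ | ⟨m, F, iF, jF, hF, hm, h3, iso⟩ :=
    SmallCofactor.classify (p := p) (b := b) (g₀ := r) hG hq hpq (by rw [hG']; ring) hr1
  · -- over the field with `p` elements
    have hp3 : 3 ≤ p := by have := hr.two_le; omega
    have hodd : Odd p := hp.odd_of_ne_two (by omega)
    obtain ⟨e⟩ := iso
    have hc := CfsgLib.ClassicalLinear.card_PSL_two_of_odd hF hodd
    rw [← Nat.card_congr e.toEquiv, hG', mul_assoc, mul_left_comm] at hc
    have hc' := Nat.eq_of_mul_eq_mul_left hp.pos hc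
    have hp5 : 5 ≤ p := by
      have : p ≠ 4 := fun e => by subst e; norm_num at hp
      rcases Nat.lt_or_ge p 4 with h | h
      · have := hr.two_le; omega
      · omega
    have h3 : 3 ∣ p ^ 2 - 1 := by
      have h3p : ¬ 3 ∣ p := fun h => by
        have := (Nat.prime_dvd_prime_iff_eq Nat.prime_three hp).1 h
        omega
      rw [sq_sub_one]
      rcases (show (p + 1) % 3 = 0 ∨ (p - 1) % 3 = 0 by omega) with h | h
      · exact Dvd.dvd.mul_right (Nat.dvd_of_mod_eq_zero h) _
      · exact Dvd.dvd.mul_left (Nat.dvd_of_mod_eq_zero h) _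
    have hq2 : q = 2 := by
      refine h4 ?_
      have h8 : 4 ∣ p ^ 2 - 1 := by
        obtain ⟨k, hk⟩ := hodd
        rw [hk, sq_sub_one, Nat.add_sub_cancel]
        exact ⟨k * (k + 1), by ring⟩
      rw [← hc'] at h8
      rw [hG', mul_assoc]
      exact Dvd.dvd.mul_left (Nat.dvd_of_mul_dvd_mul_left two_pos h8) _
    subst hq2
    rw [← hc'] at h3
    have hr3 : r = 3 := by
      rcases Nat.prime_three.dvd_mul.1 h3 with h | h
      · norm_num at h
      · rcases Nat.prime_three.dvd_mul.1 h with h | h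
        · exact ((Nat.prime_dvd_prime_iff_eq Nat.prime_three hr).1 h).symm
        · exact absurd (Nat.prime_three.dvd_of_dvd_pow h) (by norm_num)
    subst hr3
    rcases eq_five_or_seven hp5 hp (x := 1) (y := b) (by rw [← hc']; ring) with h | h
    · exact Or.inl ⟨F, iF, jF, hF.trans h, ⟨e⟩⟩
    · exact Or.inr ⟨F, iF, jF, hF.trans h, ⟨e⟩⟩
  · -- over the field with `p - 1` elements
    obtain ⟨e⟩ := iso
    have hm2 : 2 ≤ m := by
      by_contra h
      interval_cases m <;> omega
    have hK : Even (2 ^ m) := Nat.even_pow.2 ⟨even_two, by omega⟩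
    have hc := CfsgLib.ClassicalLinear.card_PSL_two_of_even hF hK
    rw [← Nat.card_congr e.toEquiv, hG', sq_sub_one, ← hm] at hc
    have hc' : r * q ^ b = 2 ^ m * (2 ^ m - 1) := by
      refine Nat.eq_of_mul_eq_mul_left hp.pos ?_
      rw [← mul_assoc, hc]; ring
    have hq2 : q = 2 := h4 (by
      rw [hG', mul_assoc, hc']
      exact Dvd.dvd.mul_left (Dvd.dvd.mul_right (dvd_pow_self 2 (by omega)) _) _)
    subst hq2
    have hodd : ¬ 2 ∣ 2 ^ m - 1 := by
      have h1 := Nat.one_le_two_pow (n := m)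
      obtain ⟨k, hk⟩ := hK
      omega
    have hr' : 2 ^ m - 1 = r := by
      have hd : 2 ^ m - 1 ∣ r :=
        (Nat.Coprime.pow_right b (Nat.prime_two.coprime_iff_not_dvd.2 hodd).symm).dvd_of_dvd_mul_right
          ⟨2 ^ m, by rw [hc', mul_comm]⟩
      rcases (Nat.dvd_prime hr).1 hd with h | h
      · have := Nat.pow_le_pow_right two_pos hm2
        omega
      · exact h
    have h3' : 3 ∣ 2 ^ m - 1 ∨ 3 ∣ 2 ^ m + 1 := by
      have h : (2 ^ m) % 3 = 1 ∨ (2 ^ m) % 3 = 2 := by
        rw [Nat.pow_mod]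
        rcases Nat.even_or_odd m with ⟨k, rfl⟩ | ⟨k, rfl⟩
        · left; rw [← two_mul, pow_mul]; norm_num [Nat.pow_mod]
        · right; rw [pow_succ, pow_mul]; norm_num [Nat.mul_mod, Nat.pow_mod]
      rcases h with h | h
      · left; omega
      · right; omega
    have h43 : 2 ^ m = 4 := by
      rcases h3' with h | h
      · have := (Nat.prime_dvd_prime_iff_eq Nat.prime_three hr).1 (hr' ▸ h)
        omega
      · have := (Nat.prime_dvd_prime_iff_eq Nat.prime_three hp).1 (hm ▸ h)
        omega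
    have hp5 : p = 5 := by omega
    subst hp5
    left
    have h60 : Nat.card G = 5 ^ 1 * 12 := by
      rw [hG', mul_assoc, hc', h43]; norm_num
    have hmem := card_sylow_mem (p := 5) h60 (by norm_num)
    have hn : Nat.card (Sylow 5 G) = 5 + 1 := by
      have h1 := one_lt_card_sylow hnc (p := 5) (by rw [h60]; norm_num)
      revert hmem h1
      rw [show (Nat.divisors 12).filter (fun d => d % 5 = 1) = {1, 6} by decide]
      intro hmem h1
      simp only [Finset.mem_insert, Finset.mem_singleton] at hmem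
      omega
    exact ⟨ZMod 5, inferInstance, inferInstance, ZMod.card 5,
      BrauerReynolds.psl_of_card_sylow hnc le_rfl (d := 2) hn (by rw [h60]; norm_num) le_rfl (by norm_num)⟩

end CfsgLib.SmallGroups.ThreePrimes
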